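import Cfsg.Agent.H770.NSys
import Cfsg.Agent.H756.WeakA
set_option linter.all false

-- part: H770/C2
section
/-!
# Index prime to `p`: Frattini factors of the identity of a non-centric subgroup (helper770)
-/

set_option autoImplicit false

namespace Cfsg.Agent.H770

open Cfsg Cfsg.FusionSystem Cfsg.Agent.H752

variable {Ω : Type*} [Group Ω] {S T : Subgroup Ω} {p : ℕ}

theorem conj_mem_centralizerIn {Q : Subgroup Ω} {g x : Ω} (hg : g ∈ normalizerIn S Q)
    (hx : x ∈ centralizerIn S Q) : g * x * g⁻¹ ∈ centralizerIn S Q := by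
  obtain ⟨hg1, hg2⟩ := hg
  obtain ⟨hx1, hx2⟩ := hx
  have hg1' : g ∈ S := hg1
  have hx1' : x ∈ S := hx1
  refine ⟨S.mul_mem (S.mul_mem hg1' hx1') (S.inv_mem hg1'), ?_⟩
  show g * x * g⁻¹ ∈ Subgroup.centralizer (Q : Set Ω)
  rw [Subgroup.mem_centralizer_iff]
  intro y hy
  have h1 : g⁻¹ * y * g ∈ Q := (Subgroup.mem_normalizer_iff''.1 hg2 y).1 hy
  have h2 := Subgroup.mem_centralizer_iff.1 hx2 _ h1
  have h3 : g * (g⁻¹ * y * g * x) * g⁻¹ = g * (x * (g⁻¹ * y * g)) * g⁻¹ := by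
    rw [h2]
  calc y * (g * x * g⁻¹) = g * (g⁻¹ * y * g * x) * g⁻¹ := by group
    _ = g * (x * (g⁻¹ * y * g)) * g⁻¹ := h3
    _ = g * x * g⁻¹ * y := by group

section

variable {E F : FusionSystem S}

theorem Th.mul_right {Q X : Subgroup Ω} {f : Ω → Ω} {a e : MulAut S} (hEF : E.IsSubsystemOf F)
    (hI : InvC E F) (h : Th E F Q X f a) (he : e ∈ E.autGroup S) : Th E F Q X f (a * e) := by
  obtain ⟨g, h1, h2, h3⟩ := h
  exact ⟨g, h1.mul_right le_rfl hI he hEF, h2, h3⟩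

theorem Th.of_fr {Q X P : Subgroup Ω} {f g : Ω → Ω} {a c : MulAut S} (hEF : E.IsSubsystemOf F)
    (hI : InvC E F) (h : Th E F Q X f a) (h1 : Fr E F P g a) (h2 : Fr E F P g c)
    (h3 : E3 E F P) : Th E F Q X f c := by
  have h4 := h.mul_right hEF hI (h3 _ (h2.div le_rfl hEF hI h1))
  rwa [mul_inv_cancel_left] at h4

variable [Finite S] [Fact p.Prime]

/-- The extension `Q C_S(Q)` and its maps. -/
theorem exists_Th (hS : IsPGroup p S) (hF : F.IsSaturated p) (hEF : E.IsSubsystemOf F)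
    (hFr : ∀ (P : Subgroup Ω) (f : Ω → Ω), Mp F P f → ∃ a, Fr E F P f a)
    {Q : Subgroup Ω} (hQ : F.IsFullyNormalized Q) {f : Ω → Ω} (hf : Mp F Q f)
    (hfQ : ∀ x ∈ Q, f x ∈ Q) : ∃ a, Th E F Q (Q ⊔ centralizerIn S Q) f a := by
  have hQS := hQ.1
  have hfin : Finite Q := H802.finite_of_le hQS
  have hI : Im f Q Q := Mp.im_of_maps hf hfQ
  obtain ⟨X, k, hk, hke, hQX, hCX, -, -⟩ :=
    mp_receptive (H802.isReceptive_of_isFullyNormalized hS hF hQ) hf hI
  obtain ⟨a, ha⟩ := hFr _ _ (hk.res (sup_le hQX hCX))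
  refine ⟨a, k, ha, ?_, hke⟩
  refine (ha.mp le_rfl hEF).mem_sup (fun x hx => ?_) (fun x hx => ?_)
  · rw [hke x hx]
    exact (le_sup_left : Q ≤ _) (hfQ x hx)
  · refine (le_sup_right : centralizerIn S Q ≤ _) ⟨hk.mem (hCX hx), ?_⟩
    exact Mp.mem_centralizer hk hQX (hI.congr hke) (hCX hx) hx.2

/-- (i'): maps of `N_F(Q)` on centric subgroups containing `Q`. -/
theorem th_of_centric (hS : IsPGroup p S) (hF : F.IsSaturated p) (hEF : E.IsSubsystemOf F)
    (hI : InvC E F)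
    (hFr : ∀ (P : Subgroup Ω) (f : Ω → Ω), Mp F P f → ∃ a, Fr E F P f a)
    (hE3 : ∀ P, F.IsCentric P → E3 E F P) {Q : Subgroup Ω} (hQ : F.IsFullyNormalized Q)
    {N : FusionSystem (normalizerIn S Q)} (hN : F.IsNormalizerSystem Q N) (hNs : N.IsSaturated p) :
    ∀ (P : Subgroup Ω) (f : Ω → Ω), Mp N P f → Q ≤ P → F.IsCentric P → ∀ a, Fr E F P f a →
      Th E F Q (Q ⊔ centralizerIn S Q) f a := by
  have hQS := hQ.1
  have hfQ : Finite Q := H802.finite_of_le hQS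
  have hNf : Finite (normalizerIn S Q) := H802.finite_of_le inf_le_left
  have hNp : IsPGroup p (normalizerIn S Q) := hS.to_le inf_le_left
  have hNF : N.IsSubsystemOf F := normalizerSystem_isSubsystemOf hN
  have hXS : Q ⊔ centralizerIn S Q ≤ S := sup_le hQS inf_le_left
  have hfX : Finite (Q ⊔ centralizerIn S Q : Subgroup Ω) := H802.finite_of_le hXS
  have hQN : ∀ {P : Subgroup Ω} {f : Ω → Ω}, Mp N P f → Q ≤ P → ∀ x ∈ Q, f x ∈ Q := by
    intro P f hf hQP
    exact ((mp_normalizerSystem_iff' hN hQS hQP).1 hf).2.2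
  refine mp_induction N hNp hNs (fun P f => Q ≤ P → F.IsCentric P → ∀ a, Fr E F P f a →
      Th E F Q (Q ⊔ centralizerIn S Q) f a) ?_ ?_ ?_ ?_ ?_
  · intro P f g _ h he hQP hPc a ha
    exact (h hQP hPc a (ha.congr fun x hx => (he x hx).symm)).congr fun x hx => he x (hQP hx)
  · intro P R f hf h hRP hQR hRc a ha
    have hPS := hf.le.trans inf_le_left
    obtain ⟨b, hb⟩ := hFr _ _ (mp_mono hNF hf)
    exact h (hQR.trans hRP) (H802.isCentric_of_le hRc hRP hPS) a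
      (Fr.extend hEF hI hb hRP ha (hE3 R hRc))
  · intro P R f g hf hg h1 h2 hPR hQP hPc a ha
    obtain ⟨b, hb⟩ := hFr _ _ (mp_mono hNF hf)
    obtain ⟨c, hc⟩ := hFr _ _ (mp_mono hNF hg)
    have hfQ' := hQN hf hQP
    have hQR : Q ≤ R := by
      intro y hy
      obtain ⟨x, hx, rfl⟩ := (Mp.im_of_maps ((mp_mono hNF hf).res hQP) hfQ' y).1 hy
      exact hPR x (hQP hx)
    obtain ⟨P', hP', hP'S, -⟩ := Mp.exists_im (mp_mono hNF hf) le_rfl
    have hRc : F.IsCentric R := by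
      refine H802.isCentric_of_le (H802.isCentric_of_isConj hPc
        (Mp.isConj (mp_mono hNF hf) hP')) ?_ (hg.le.trans inf_le_left)
      intro y hy
      obtain ⟨x, hx, rfl⟩ := (hP' y).1 hy
      exact hPR x hx
    have h3 := (h1 hQP hPc b hb).comp le_rfl hI (h2 hQR hRc c hc) hfQ'
    exact h3.of_fr hEF hI (hb.comp le_rfl hI hc hPR) ha (hE3 P hPc)
  · intro P R f g hf h1 hg hinv hQR hRc a ha
    have hfm := mp_mono hNF hf
    have hgm := mp_mono hNF hg
    have hgP : ∀ y ∈ R, g y ∈ P := fun y hy => by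
      obtain ⟨x, hx, -, h⟩ := hinv y hy
      rw [h]; exact hx
    have hfg : ∀ y ∈ R, f (g y) = y := fun y hy => by
      obtain ⟨x, hx, h', h⟩ := hinv y hy
      rw [h]; exact h'
    have hgQ := hQN hg hQR
    have hIg : Im g Q Q := Mp.im_of_maps (hgm.res hQR) hgQ
    have hQP : Q ≤ P := by
      intro y hy
      obtain ⟨x, hx, rfl⟩ := (hIg y).1 hy
      exact hgP x (hQR hx)
    obtain ⟨R', hR', hR'S, -⟩ := Mp.exists_im hgm le_rfl
    have hR'P : R' ≤ P := by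
      intro y hy
      obtain ⟨x, hx, rfl⟩ := (hR' y).1 hy
      exact hgP x hx
    have hPc : F.IsCentric P := H802.isCentric_of_le (H802.isCentric_of_isConj hRc
        (Mp.isConj hgm hR')) hR'P (hf.le.trans inf_le_left)
    obtain ⟨b, hb⟩ := hFr _ _ hfm
    have h2 := (h1 hQP hPc b hb).symm le_rfl hEF hI le_sup_left (g := g) (fun y hy =>
      ⟨g y, hgQ y hy, hfg y (hQR hy), rfl⟩)
    exact h2.of_fr hEF hI (hb.symm le_rfl hI fun y hy => ⟨g y, hgP y hy, hfg y hy, rfl⟩) ha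
      (hE3 R hRc)
  · intro V hVa hVr IH α hα f hfα hQV hVc a ha
    have hVN := hVa.1
    have hVS : V ≤ S := hVN.trans inf_le_left
    have hfV : Finite V := H802.finite_of_le hVS
    have hfe : ∀ x ∈ V, f x = ac α x := fun x hx => by rw [hfα x hx, ac_apply α hx]
    have hfN : Mp N V f := (mp_ac hVN hα).congr hfe
    have hfF := mp_mono hNF hfN
    have hfQ' := hQN hfN hQV
    have hIf : Im f Q Q := Mp.im_of_maps (hfF.res hQV) hfQ'
    by_cases hCV : centralizerIn S Q ≤ V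
    · refine ⟨f, ha.res (sup_le hQV hCV), ?_, fun _ _ => rfl⟩
      refine (hfF.res (sup_le hQV hCV)).mem_sup (fun x hx => ?_) (fun x hx => ?_)
      · exact (le_sup_left : Q ≤ _) (hfQ' x hx)
      · exact (le_sup_right : centralizerIn S Q ≤ _) ⟨hfF.mem (hCV hx),
          Mp.mem_centralizer hfF hQV hIf (hCV hx) hx.2⟩
    · have hne : V ≠ normalizerIn S Q := by
        rintro rfl
        exact hCV (inf_le_inf_left S (Subgroup.centralizer_le_normalizer _))
      -- the group `K`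
      let K : Subgroup (MulAut V) :=
        { carrier := {k | k ∈ N.autGroup V ∧ Fr E F V (ac k) 1 ∧
            Th E F Q (Q ⊔ centralizerIn S Q) (ac k) 1}
          one_mem' := by
            refine ⟨one_mem _, (Fr.one (mp_id E hVS)).congr fun x hx => ac_one hx, ?_⟩
            exact ⟨fun x => x, Fr.one (mp_id E hXS), fun x hx => hx,
              fun x hx => (ac_one (hQV hx)).symm⟩
          mul_mem' := by
            rintro k k' ⟨h1, h2, h3⟩ ⟨h1', h2', h3'⟩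
            refine ⟨mul_mem h1 h1', ?_, ?_⟩
            · have h4 := h2'.comp le_rfl hI h2 fun x hx => ac_mem _ hx
              rw [mul_one] at h4
              exact h4.congr fun x hx => ac_mul _ _ hx
            · have h4 := h3'.comp le_rfl hI h3 (hQN (mp_ac hVN h1') hQV)
              rw [mul_one] at h4
              exact h4.congr fun x hx => ac_mul _ _ (hQV hx)
          inv_mem' := by
            rintro k ⟨h1, h2, h3⟩
            refine ⟨inv_mem h1, ?_, ?_⟩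
            · have h4 := h2.symm le_rfl hI (R := V) (g := ac k⁻¹) fun y hy =>
                ⟨ac k⁻¹ y, ac_mem _ hy, ac_ac_inv k hy, rfl⟩
              rwa [inv_one] at h4
            · have h4 := h3.symm le_rfl hEF hI le_sup_left (g := ac k⁻¹) fun y hy =>
                ⟨ac k⁻¹ y, hQN (mp_ac hVN (inv_mem h1)) hQV y hy, ac_ac_inv k (hQV hy), rfl⟩
              rwa [inv_one] at h4 }
      have hKA : K ≤ N.autGroup V := fun k hk => hk.1
      have hconj : ∀ (b k : MulAut V), b ∈ N.autGroup V → k ∈ N.autGroup V →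
          Fr E F V (ac k) 1 → Th E F Q (Q ⊔ centralizerIn S Q) (ac k) 1 → b * k * b⁻¹ ∈ K := by
        intro b k hb hk h2 h3
        obtain ⟨t, ht⟩ := hFr _ _ (mp_mono hNF (mp_ac hVN hb))
        have hbQ := hQN (mp_ac hVN hb) hQV
        have hbiQ := hQN (mp_ac hVN (inv_mem hb)) hQV
        have hkQ := hQN (mp_ac hVN hk) hQV
        obtain ⟨t', ht'⟩ := exists_Th hS hF hEF hFr hQ ((mp_mono hNF (mp_ac hVN hb)).res hQV) hbQ
        refine ⟨mul_mem (mul_mem hb hk) (inv_mem hb), ?_, ?_⟩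
        · have h4 := ht.symm le_rfl hI (R := V) (g := ac b⁻¹) fun y hy =>
                ⟨ac b⁻¹ y, ac_mem _ hy, ac_ac_inv b hy, rfl⟩
          have h5 := (h4.comp le_rfl hI h2 fun x hx => ac_mem _ hx).comp le_rfl hI ht
            fun x hx => ac_mem _ (ac_mem _ hx)
          rw [one_mul, mul_inv_cancel] at h5
          exact h5.congr fun x hx => by rw [ac_mul _ _ hx, ac_mul _ _ (ac_mem _ hx)]
        · have h4 := ht'.symm le_rfl hEF hI le_sup_left (g := ac b⁻¹) fun y hy =>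
                ⟨ac b⁻¹ y, hbiQ y hy, ac_ac_inv b (hQV hy), rfl⟩
          have h5 := (h4.comp le_rfl hI h3 fun x hx => hbiQ x hx).comp le_rfl hI ht'
            fun x hx => hkQ _ (hbiQ x hx)
          rw [one_mul, mul_inv_cancel] at h5
          exact h5.congr fun x hx => by rw [ac_mul _ _ (hQV hx), ac_mul _ _ (ac_mem _ (hQV hx))]
      have hcg : ∀ (g : Ω) (hg : g ∈ normalizerIn S Q) (hgV : g ∈ Subgroup.normalizer (V : Set Ω)),
          Fr E F V (ac (H759.conjAut V g hgV)) 1 ∧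
          Th E F Q (Q ⊔ centralizerIn S Q) (ac (H759.conjAut V g hgV)) 1 := by
        intro g hg hgV
        constructor
        · exact (Fr.one (mp_conj E hVS hg.1)).congr fun x hx => by
            rw [ac_apply _ hx]; rfl
        · refine ⟨fun x => g * x * g⁻¹, Fr.one (mp_conj E hXS hg.1), ?_, fun x hx => by
            rw [ac_apply _ (hQV hx)]; rfl⟩
          refine (mp_conj F hXS hg.1).mem_sup (fun x hx => ?_) (fun x hx => ?_)
          · exact (le_sup_left : Q ≤ _) ((Subgroup.mem_normalizer_iff.1 hg.2 x).1 hx)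
          · exact (le_sup_right : centralizerIn S Q ≤ _) (conj_mem_centralizerIn hg hx)
      obtain ⟨k, hk, ψ, hψ, h1⟩ := mp_ext_kernel (F := N) hNp
        (N := normalizerIn (normalizerIn S Q) V) hVa hVr hα K hKA
        (fun b hb k hk => hconj b k hb hk.1 hk.2.1 hk.2.2) inf_le_left inf_le_right (by
          intro g hg
          obtain ⟨h2, h3⟩ := hcg g hg.1 hg.2
          refine ⟨α * H759.conjAut V g hg.2 * α⁻¹, hconj α _ hα
            (conjAut_mem_autGroup hVN hg.1 hg.2) h2 h3, 1,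
            one_mem _, one_mem _, fun x hx => ?_⟩
          rw [one_mul, inv_one, mul_one, ac_conj_apply hg.2 hx])
      have hcard : Nat.card V < Nat.card (V ⊔ normalizerIn (normalizerIn S Q) V : Subgroup Ω) := by
        have hfin : Finite (V ⊔ normalizerIn (normalizerIn S Q) V : Subgroup Ω) :=
          H802.finite_of_le (sup_le hVS (inf_le_left.trans inf_le_left))
        exact (H802.card_lt_card_normalizerIn hNp hVN hne).trans_le
          (Nat.card_mono (Set.toFinite _) (le_sup_right : normalizerIn _ V ≤ _))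
      have hψF := mp_mono hNF hψ
      obtain ⟨t, ht⟩ := hFr _ _ hψF
      have h2 := IH _ ψ hψ hcard (hQV.trans le_sup_left) (H802.isCentric_of_le hVc le_sup_left
        hψF.le) t ht
      obtain ⟨hk1, hk2, hk3⟩ := K.inv_mem hk
      have hψQ := hQN hψ (hQV.trans le_sup_left)
      have h3 := h2.comp le_rfl hI hk3 hψQ
      have h4 := (ht.res (le_sup_left : V ≤ _)).comp le_rfl hI hk2 fun x hx => by
        rw [h1 x hx]
        exact ac_mem _ (ac_mem _ hx)
      have hcomp : ∀ x ∈ V, ac k⁻¹ (ψ x) = f x := fun x hx => by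
        rw [h1 x hx, ac_inv_ac k (ac_mem _ hx), hfe x hx]
      exact (h3.congr fun x hx => (hcomp x (hQV hx)).symm).of_fr hEF hI
        (h4.congr fun x hx => (hcomp x hx).symm) ha (hE3 V hVc)

/-- (ii): every map of `N_F(Q)` extends to a map with source containing `Q` and compatible Frattini
factor. -/
theorem exists_th (hS : IsPGroup p S) (hF : F.IsSaturated p) (hEF : E.IsSubsystemOf F)
    (hI : InvC E F)
    (hFr : ∀ (P : Subgroup Ω) (f : Ω → Ω), Mp F P f → ∃ a, Fr E F P f a)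
    (hE3 : ∀ P, F.IsCentric P → E3 E F P) {Q : Subgroup Ω} (hQ : F.IsFullyNormalized Q)
    {N : FusionSystem (normalizerIn S Q)} (hN : F.IsNormalizerSystem Q N) (hNs : N.IsSaturated p) :
    ∀ (P : Subgroup Ω) (f : Ω → Ω), Mp N P f → ∃ k, Mp N (P ⊔ Q) k ∧ (∀ x ∈ P, k x = f x) ∧
      ∃ a, Fr E F (P ⊔ Q) k a ∧ Th E F Q (Q ⊔ centralizerIn S Q) k a := by
  have hQS := hQ.1
  have hQNS : Q ≤ normalizerIn S Q := le_inf hQS Subgroup.le_normalizer
  have hfQ : Finite Q := H802.finite_of_le hQS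
  have hNf : Finite (normalizerIn S Q) := H802.finite_of_le inf_le_left
  have hNp : IsPGroup p (normalizerIn S Q) := hS.to_le inf_le_left
  have hNF : N.IsSubsystemOf F := normalizerSystem_isSubsystemOf hN
  have hXS : Q ⊔ centralizerIn S Q ≤ S := sup_le hQS inf_le_left
  have hfX : Finite (Q ⊔ centralizerIn S Q : Subgroup Ω) := H802.finite_of_le hXS
  have hQN : ∀ {P : Subgroup Ω} {f : Ω → Ω}, Mp N P f → Q ≤ P → ∀ x ∈ Q, f x ∈ Q := by
    intro P f hf hQP
    exact ((mp_normalizerSystem_iff' hN hQS hQP).1 hf).2.2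
  refine mp_induction N hNp hNs (fun P f => ∃ k, Mp N (P ⊔ Q) k ∧ (∀ x ∈ P, k x = f x) ∧
      ∃ a, Fr E F (P ⊔ Q) k a ∧ Th E F Q (Q ⊔ centralizerIn S Q) k a) ?_ ?_ ?_ ?_ ?_
  · rintro P f g _ ⟨k, h1, h2, h3⟩ he
    exact ⟨k, h1, fun x hx => (h2 x hx).trans (he x hx).symm, h3⟩
  · rintro P R f _ ⟨k, h1, h2, a, h3, h4⟩ hRP
    have hle : R ⊔ Q ≤ P ⊔ Q := sup_le_sup_right hRP Q
    exact ⟨k, h1.res hle, fun x hx => h2 x (hRP hx), a, h3.res hle, h4⟩
  · rintro P R f g _ _ ⟨k, h1, h2, a, h3, h4⟩ ⟨k', h1', h2', a', h3', h4'⟩ hPR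
    have hkQ := hQN h1 le_sup_right
    have hm : ∀ x ∈ P ⊔ Q, k x ∈ R ⊔ Q := h1.mem_sup
      (fun x hx => (le_sup_left : R ≤ _) (by rw [h2 x hx]; exact hPR x hx))
      (fun x hx => (le_sup_right : Q ≤ _) (hkQ x hx))
    refine ⟨_, h1.comp h1' hm, fun x hx => ?_, _, h3.comp le_rfl hI h3' hm,
      h4.comp le_rfl hI h4' hkQ⟩
    show k' (k x) = g (f x)
    rw [h2 x hx, h2' _ (hPR x hx)]
  · rintro P R f g hf ⟨k, h1, h2, a, h3, h4⟩ hg hinv
    have hkQ := hQN h1 le_sup_right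
    have hIk : Im k Q Q := Mp.im_of_maps (h1.res le_sup_right) hkQ
    obtain ⟨W, hW, hWS, -⟩ := Mp.exists_im h1 le_rfl
    obtain ⟨i, hi, hi1, hi2⟩ := h1.exists_symm le_rfl hW
    have hRW : R ≤ W := by
      intro y hy
      obtain ⟨x, hx, hxy, -⟩ := hinv y hy
      rw [← hxy, ← h2 x hx]
      exact hW.apply ((le_sup_left : P ≤ _) hx)
    have hQW : Q ≤ W := by
      intro y hy
      obtain ⟨x, hx, rfl⟩ := (hIk y).1 hy
      exact hW.apply ((le_sup_right : Q ≤ _) hx)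
    have hiI : ∀ y ∈ Q, ∃ x ∈ Q, k x = y ∧ i y = x := by
      intro y hy
      obtain ⟨x, hx, rfl⟩ := (hIk y).1 hy
      exact ⟨x, hx, rfl, hi1 x ((le_sup_right : Q ≤ _) hx)⟩
    refine ⟨i, hi.res (sup_le hRW hQW), fun y hy => ?_, a⁻¹, ?_,
      h4.symm le_rfl hEF hI le_sup_left hiI⟩
    · obtain ⟨x, hx, hxy, hgy⟩ := hinv y hy
      rw [hgy, ← hxy, ← h2 x hx]
      exact hi1 x ((le_sup_left : P ≤ _) hx)
    · exact h3.symm le_rfl hI fun y hy => by
        have hyW := sup_le hRW hQW hy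
        exact ⟨i y, (hi2 y hyW).1, (hi2 y hyW).2, rfl⟩
  · intro V hVa hVr IH α hα f hfα
    have hVN := hVa.1
    have hVS : V ≤ S := hVN.trans inf_le_left
    have hfV : Finite V := H802.finite_of_le hVS
    have hfe : ∀ x ∈ V, f x = ac α x := fun x hx => by rw [hfα x hx, ac_apply α hx]
    have hfN : Mp N V f := (mp_ac hVN hα).congr hfe
    have hfF := mp_mono hNF hfN
    -- it suffices to extend `f` to a bigger subgroup
    have hbig : ∀ (R : Subgroup Ω) (k : Ω → Ω), Mp N R k → V ≤ R → Nat.card V < Nat.card R →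
        (∀ x ∈ V, k x = f x) → ∃ k, Mp N (V ⊔ Q) k ∧ (∀ x ∈ V, k x = f x) ∧
        ∃ a, Fr E F (V ⊔ Q) k a ∧ Th E F Q (Q ⊔ centralizerIn S Q) k a := by
      intro R k hk hVR hcard he
      obtain ⟨k', h1, h2, a, h3, h4⟩ := IH R k hk hcard
      have hle : V ⊔ Q ≤ R ⊔ Q := sup_le_sup_right hVR Q
      exact ⟨k', h1.res hle, fun x hx => (h2 x (hVR hx)).trans (he x hx), a, h3.res hle, h4⟩
    by_cases hQV : Q ≤ V
    · by_cases hVc : N.IsCentric V
      · have hVF := isCentric_of_normalizerSystem hS hF hQ hN hQV hVc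
        obtain ⟨a, ha⟩ := hFr _ _ hfF
        rw [sup_eq_left.2 hQV]
        exact ⟨f, hfN, fun _ _ => rfl, a, ha,
          th_of_centric hS hF hEF hI hFr hE3 hQ hN hNs V f hfN hQV hVF a ha⟩
      · obtain ⟨R, hVR, hcard, ψ, hψ, he⟩ := H802.exists_extension_of_not_centric hVr hVc hα
        refine hbig R (ex ψ) (mp_ex hψ) hVR hcard fun x hx => ?_
        rw [ex_apply _ (hVR hx), he x hx, hfα x hx]
    · obtain ⟨-, -, k, hk, hke, hkI⟩ := (mp_normalizerSystem_iff hN).1 hfN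
      have hlt : Nat.card V < Nat.card (V ⊔ Q : Subgroup Ω) := by
        have hfin : Finite (V ⊔ Q : Subgroup Ω) := H802.finite_of_le hk.le
        refine lt_of_le_of_ne (Subgroup.card_le_of_le le_sup_left) fun h => hQV ?_
        rw [Subgroup.eq_of_le_of_card_ge le_sup_left h.ge]
        exact le_sup_right
      refine hbig (V ⊔ Q) k ?_ le_sup_left hlt hke
      rw [mp_normalizerSystem_iff' hN hQS le_sup_right]
      exact ⟨hk, sup_le hVN hQNS, fun x hx => hkI.apply hx⟩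

/-- (C2). -/
theorem c2 (hS : IsPGroup p S) (hF : F.IsSaturated p) (hEF : E.IsSubsystemOf F)
    (hI : InvC E F)
    (hFr : ∀ (P : Subgroup Ω) (f : Ω → Ω), Mp F P f → ∃ a, Fr E F P f a)
    (𝒬 : Subgroup Ω → Prop) (h𝒬S : 𝒬 S) (h𝒬c : ∀ P Q, 𝒬 P → F.IsConj P Q → 𝒬 Q)
    (hgen : ∀ D : FusionSystem S, (∀ P f, 𝒬 P → Mp E P f → Mp D P f) → ∀ P f, Mp E P f → Mp D P f)
    (hE3' : ∀ P, 𝒬 P → E3 E F P)
    (hE3 : ∀ P, F.IsCentric P → E3 E F P) :
    ∀ Q : Subgroup Ω, Q ≤ S → F.IsFullyNormalized Q → ∀ a, Fr E F Q (fun x => x) a →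
      ∃ g, Fr E F (Q ⊔ centralizerIn S Q) g a ∧ ∀ x ∈ Q, g x = x := by
  refine down_ind _ ?_
  intro Q hQS IH hQ a ha
  have hXS : Q ⊔ centralizerIn S Q ≤ S := sup_le hQS inf_le_left
  have hfX : Finite (Q ⊔ centralizerIn S Q : Subgroup Ω) := H802.finite_of_le hXS
  have hfQ : Finite Q := H802.finite_of_le hQS
  by_cases hEQ : E3 E F Q
  · refine ⟨fun x => x, ?_, fun _ _ => rfl⟩
    have h1 := (Fr.one (F := F) (mp_id E hXS)).mul_right le_rfl hI (hEQ a ha) hEF
    rwa [one_mul] at h1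
  have hQ𝒬 : ∀ P, F.IsConj Q P → ¬ 𝒬 P := fun P hP h => hEQ (hE3' Q (h𝒬c P Q h (H802.isConj_symm hP)))
  obtain ⟨N, hN⟩ := H802.exists_normalizerSystem F hQS
  have hNs := H802.normalizerSystem_isSaturated hS hF hQ hN
  have hNF : N.IsSubsystemOf F := normalizerSystem_isSubsystemOf hN
  have hi' := th_of_centric hS hF hEF hI hFr hE3 hQ hN hNs
  have hii := exists_th hS hF hEF hI hFr hE3 hQ hN hNs
  have hQNS : Q ≤ normalizerIn S Q := le_inf hQS Subgroup.le_normalizer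
  have hQN : ∀ {P : Subgroup Ω} {f : Ω → Ω}, Mp N P f → Q ≤ P → ∀ x ∈ Q, f x ∈ Q := by
    intro P f hf hQP
    exact ((mp_normalizerSystem_iff' hN hQS hQP).1 hf).2.2
  suffices hext : ∀ (W : Subgroup Ω) (f : Ω → Ω) (a : MulAut S), Q ≤ W → Q ≠ W →
      W ≤ normalizerIn S Q → Fr E F W f a → (∀ x ∈ Q, f x ∈ Q) →
      Th E F Q (Q ⊔ centralizerIn S Q) f a by
    obtain ⟨g, h1, -, h2⟩ := chain_lemma (X := Q ⊔ centralizerIn S Q) hS hF hEF hI hFr 𝒬 h𝒬S hgen
      hQ le_sup_left hXS hQ𝒬 hext ha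
    exact ⟨g, h1, h2⟩
  intro W f a hQW hne hWN hf hfQ'
  have hWS : W ≤ S := hWN.trans inf_le_left
  have hfW : Finite W := H802.finite_of_le hWS
  have hfm := hf.mp le_rfl hEF
  have hWlt : Nat.card Q < Nat.card W := lt_of_le_of_ne (Subgroup.card_le_of_le hQW) fun h =>
    hne (Subgroup.eq_of_le_of_card_ge hQW h.ge)
  -- the Frattini factors of the identity of `W`
  have hid : ∀ x, Fr E F W (fun x => x) x →
      Th E F Q (Q ⊔ centralizerIn S Q) (fun x => x) x := by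
    obtain ⟨W₁, hWW₁, hW₁n⟩ := H802.exists_isFullyNormalized hS hF hWS
    obtain ⟨κ₀, hκ₀, hκ₀I⟩ := exists_mp_of_isConj hWW₁
    obtain ⟨κ, hκ, hκI⟩ := mp_normalizer hS hF hW₁n hκ₀ hκ₀I
    have hWNW : W ≤ normalizerIn S W := le_inf hWS Subgroup.le_normalizer
    have hW₁S := hW₁n.1
    have hfW₁ : Finite W₁ := H802.finite_of_le hW₁S
    obtain ⟨Q₁, hQ₁, hQ₁S, -⟩ := Mp.exists_im hκ (hQW.trans hWNW)
    obtain ⟨j, hj, hj1, hj2⟩ := hκ.exists_symm (hQW.trans hWNW) hQ₁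
    have hjI : Im j Q₁ Q := hQ₁.symm hj1
    obtain ⟨k, hk, hkI⟩ := mp_normalizer hS hF hQ hj hjI
    have hQ₁W₁ : Q₁ ≤ W₁ := by
      intro y hy
      obtain ⟨x, hx, rfl⟩ := (hQ₁ y).1 hy
      exact hκI.apply (hQW hx)
    have hW₁N : W₁ ≤ normalizerIn S Q₁ := by
      intro y hy
      obtain ⟨x, hx, rfl⟩ := (hκI y).1 hy
      exact ⟨hκ.mem (hWNW hx), Mp.mem_normalizer hκ (hQW.trans hWNW) hQ₁ (hWNW hx) (hWN hx).2⟩
    have hC₁N : centralizerIn S W₁ ≤ normalizerIn S Q₁ := by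
      refine le_inf inf_le_left (inf_le_right.trans ?_)
      exact (Subgroup.centralizer_le hQ₁W₁).trans (Subgroup.centralizer_le_normalizer _)
    have hV₁N : W₁ ⊔ centralizerIn S W₁ ≤ normalizerIn S Q₁ := sup_le hW₁N hC₁N
    have hV₁S : W₁ ⊔ centralizerIn S W₁ ≤ S := sup_le hW₁S inf_le_left
    have hfV₁ : Finite (W₁ ⊔ centralizerIn S W₁ : Subgroup Ω) := H802.finite_of_le hV₁S
    obtain ⟨s, hs⟩ := hFr _ _ hκ
    obtain ⟨r, hr⟩ := hFr _ _ hk
    have hcard₁ : Nat.card Q < Nat.card W₁ := by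
      rw [← H802.isConj_card_eq hWW₁]; exact hWlt
    have hIH := IH W₁ hW₁S hcard₁ hW₁n
    obtain ⟨V, hV, hVS, -⟩ := Mp.exists_im hk hV₁N
    obtain ⟨i, hi, hi1, hi2⟩ := hk.exists_symm hV₁N hV
    have hVN : V ≤ normalizerIn S Q := by
      intro y hy
      obtain ⟨x, hx, rfl⟩ := (hV y).1 hy
      exact ⟨hVS hy, Mp.mem_normalizer hk (hQ₁W₁.trans hW₁N) hkI (hV₁N hx) (hV₁N hx).2⟩
    have hQV : Q ≤ V := by
      intro y hy
      obtain ⟨x, hx, rfl⟩ := (hkI y).1 hy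
      exact hV.apply ((le_sup_left : W₁ ≤ _) (hQ₁W₁ hx))
    have hVc : F.IsCentric V := H802.isCentric_of_isConj
      (isCentric_sup_centralizer (H802.isFullyCentralized_of_isFullyNormalized hS hF hW₁n))
      (Mp.isConj (hk.res hV₁N) hV)
    have hi₁ : Fr E F V i r⁻¹ := (hr.res hV₁N).symm le_rfl hI fun y hy =>
      ⟨i y, (hi2 y hy).1, (hi2 y hy).2, rfl⟩
    -- first form
    have hA : ∀ x, Fr E F W (fun x => x) x →
        Th E F Q (Q ⊔ centralizerIn S Q) (fun x => x) (r * s * x * (r * s)⁻¹) := by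
      intro x hx
      obtain ⟨m, hm, hm1, hm2⟩ := hκ.exists_symm hWNW hκI
      have hmF : Fr E F W₁ m s⁻¹ := (hs.res hWNW).symm le_rfl hI fun y hy =>
        ⟨m y, (hm2 y hy).1, (hm2 y hy).2, rfl⟩
      have h1 := (hmF.comp le_rfl hI hx fun y hy => (hm2 y hy).1).comp le_rfl hI hs
        fun y hy => hWNW (hm2 y hy).1
      have h2 : Fr E F W₁ (fun x => x) (s * (x * s⁻¹)) := h1.congr fun y hy => (hm2 y hy).2.symm
      obtain ⟨γ, hγ, hγe⟩ := hIH _ h2
      have hγm := hγ.mp le_rfl hEF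
      have hγV : ∀ y ∈ W₁ ⊔ centralizerIn S W₁, γ y ∈ W₁ ⊔ centralizerIn S W₁ := by
        refine hγm.mem_sup (fun y hy => ?_) (fun y hy => ?_)
        · rw [hγe y hy]
          exact (le_sup_left : W₁ ≤ _) hy
        · refine (le_sup_right : centralizerIn S W₁ ≤ _)
            ⟨hγm.mem ((le_sup_right : centralizerIn S W₁ ≤ _) hy), ?_⟩
          exact Mp.mem_centralizer hγm le_sup_left ((Im.id W₁).congr hγe)
            ((le_sup_right : centralizerIn S W₁ ≤ _) hy) hy.2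
      have h3 := (hi₁.comp le_rfl hI hγ fun y hy => (hi2 y hy).1).comp le_rfl hI hr
        fun y hy => hV₁N (hγV _ (hi2 y hy).1)
      have h4 : ∀ y ∈ Q, k (γ (i y)) = y := by
        intro y hy
        obtain ⟨z, hz, rfl⟩ := (hkI y).1 hy
        have hz' : z ∈ W₁ ⊔ centralizerIn S W₁ := (le_sup_left : W₁ ≤ _) (hQ₁W₁ hz)
        rw [hi1 z hz', hγe z (hQ₁W₁ hz)]
      have h5 : Mp N V (fun y => k (γ (i y))) := by
        rw [mp_normalizerSystem_iff' hN hQS hQV]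
        exact ⟨h3.mp le_rfl hEF, hVN, fun y hy => by rw [h4 y hy]; exact hy⟩
      have h6 := (hi' V _ h5 hQV hVc _ h3).congr (g := fun x => x) fun y hy => (h4 y hy).symm
      have h7 : r * (s * (x * s⁻¹) * r⁻¹) = r * s * x * (r * s)⁻¹ := by group
      rwa [h7] at h6
    -- the map `λ`
    have hlamN : Mp N W (fun x => k (κ x)) := by
      rw [mp_normalizerSystem_iff' hN hQS hQW]
      exact ⟨(hκ.res hWNW).comp hk fun x hx => hW₁N (hκI.apply hx), hWN,
        fun x hx => hkI.apply (hQ₁.apply hx)⟩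
    have hlam : Fr E F W (fun x => k (κ x)) (r * s) :=
      (hs.res hWNW).comp le_rfl hI hr fun x hx => hW₁N (hκI.apply hx)
    obtain ⟨k', hk'N, hk'e, δ, hδ, hδT⟩ := hii W _ hlamN
    have hδ' : Fr E F W (fun x => k (κ x)) δ := (hδ.res le_sup_left).congr fun x hx =>
      (hk'e x hx).symm
    have hδT' : Th E F Q (Q ⊔ centralizerIn S Q) (fun x => k (κ x)) δ := hδT.congr fun x hx =>
      (hk'e x (hQW hx)).symm
    have hy := hlam.div le_rfl hEF hI hδ'
    intro x hx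
    have hy' : Fr E F W (fun x => x) (δ⁻¹ * (r * s))⁻¹ :=
      hy.symm le_rfl hI fun z hz => ⟨z, hz, rfl, rfl⟩
    have hx' : Fr E F W (fun x => x) ((δ⁻¹ * (r * s))⁻¹ * (x * (δ⁻¹ * (r * s)))) :=
      (hy.comp le_rfl hI hx fun z hz => hz).comp le_rfl hI hy' fun z hz => hz
    have h1 := hA _ hx'
    have hlamQ := hQN hlamN hQW
    have hlamI : Im (fun x => k (κ x)) Q Q := Mp.im_of_maps ((mp_mono hNF hlamN).res hQW) hlamQ
    obtain ⟨m, hm, hm1, hm2⟩ := (mp_mono hNF hlamN).exists_symm hQW hlamI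
    have h2 := hδT'.symm le_rfl hEF hI le_sup_left (g := m) fun y hy =>
      ⟨m y, (hm2 y hy).1, (hm2 y hy).2, rfl⟩
    have h3 := (hδT'.comp le_rfl hI h1 hlamQ).comp le_rfl hI h2 hlamQ
    have h4 : δ⁻¹ * (r * s * ((δ⁻¹ * (r * s))⁻¹ * (x * (δ⁻¹ * (r * s)))) * (r * s)⁻¹ * δ) = x := by
      group
    rw [h4] at h3
    exact h3.congr fun y hy => (hm1 y hy).symm
  have hfN : Mp N W f := by
    rw [mp_normalizerSystem_iff' hN hQS hQW]
    exact ⟨hfm, hWN, hfQ'⟩
  obtain ⟨k, hkN, hke, b, hb, hbT⟩ := hii W f hfN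
  have hb' : Fr E F W f b := (hb.res le_sup_left).congr fun x hx => (hke x hx).symm
  have h1 := (hid _ (hf.div le_rfl hEF hI hb')).comp le_rfl hI (hbT.congr (g := f)
    fun x hx => (hke x (hQW hx)).symm) fun x hx => hx
  rwa [mul_inv_cancel_left] at h1

end

end Cfsg.Agent.H770
end

-- part: H770/PIdx
section
/-!
# Subsystems of index prime to `p` (helper770)

Main theorem: a subsystem `E` of `F` over `S` generated by its maps on a family `𝒬`, invariant under `Aut_F(S)`,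
containing the elements of `p`-power order of the automizers of members of `𝒬` and such that an element of
`Aut_F(S)` whose restriction to a member of `𝒬` lies in `E` belongs to `E`, is saturated, of index prime to `p`
and normal in `F`.
-/

set_option autoImplicit false

namespace Cfsg.Agent.H770

open Cfsg Cfsg.FusionSystem Cfsg.Agent.H752

variable {Ω : Type*} [Group Ω] {S T : Subgroup Ω} {p : ℕ}

theorem Fr.mp_of_one {E : FusionSystem T} {F : FusionSystem S} {P : Subgroup Ω} {f : Ω → Ω}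
    (h : Fr E F P f 1) : Mp E P f := by
  obtain ⟨-, f₀, hf₀, h1⟩ := h
  exact hf₀.congr fun x hx => by rw [h1 x hx, ac_one (hf₀.mem hx)]

/-- The image of a fully normalized subgroup under an element of `Aut_F(S)`. -/
theorem isFullyNormalized_ac [Finite S] {F : FusionSystem S} {a : MulAut S}
    (ha : a ∈ F.autGroup S) {Q Q' : Subgroup Ω} (hQ : F.IsFullyNormalized Q) (hI : Im (ac a) Q Q') :
    F.IsFullyNormalized Q' := by
  have hm := mp_ac (F := F) le_rfl ha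
  have hQ'S : Q' ≤ S := Mp.im_le (hm.res hQ.1) hI
  have hconj : F.IsConj Q Q' := Mp.isConj (hm.res hQ.1) hI
  refine ⟨hQ'S, fun R hR => (hQ.2 R (H802.isConj_trans hconj hR)).trans ?_⟩
  obtain ⟨M, hM, hMS, hMc⟩ := Mp.exists_im hm (R := normalizerIn S Q) inf_le_left
  rw [← hMc]
  have hfin : Finite (normalizerIn S Q') := H802.finite_of_le inf_le_left
  refine Nat.card_mono (Set.toFinite _) ?_
  intro y hy
  obtain ⟨x, hx, rfl⟩ := (hM y).1 hy
  exact ⟨ac_mem _ hx.1, Mp.mem_normalizer hm hQ.1 hI hx.1 hx.2⟩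

/-- The hypotheses on a subsystem. -/
structure PData (p : ℕ) (E F : FusionSystem S) (𝒬 : Subgroup Ω → Prop) : Prop where
  sub : E.IsSubsystemOf F
  inv : InvC E F
  memS : 𝒬 S
  conj : ∀ P Q, 𝒬 P → F.IsConj P Q → 𝒬 Q
  gen : ∀ D : FusionSystem S, (∀ P f, 𝒬 P → Mp E P f → Mp D P f) → ∀ P f, Mp E P f → Mp D P f
  e3 : ∀ P, 𝒬 P → E3 E F P
  e2 : ∀ R : Subgroup Ω, F.IsFullyNormalized R → F.IsCentric R → 𝒬 R → R ≠ S →
      ∀ α ∈ F.autGroup R, (∃ n : ℕ, α ^ p ^ n = 1) → Mp E R (ac α)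
  cr : ∀ R : Subgroup Ω, F.IsFullyNormalized R → F.IsCentric R → ¬ 𝒬 R →
      ∃ K : Subgroup (MulAut R), K ≤ F.autGroup R ∧ (∀ a ∈ F.autGroup R, ∀ k ∈ K, a * k * a⁻¹ ∈ K) ∧
        IsPGroup p K ∧ ¬ K ≤ Inn R

namespace PData

variable [Finite S] [Fact p.Prime] {E F : FusionSystem S} {𝒬 : Subgroup Ω → Prop}

theorem frat (h : PData p E F 𝒬) (hS : IsPGroup p S) (hF : F.IsSaturated p) :
    ∀ (P : Subgroup Ω) (f : Ω → Ω), Mp F P f → ∃ a, Fr E F P f a := fun _ _ hf =>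
  exists_fr hS hF h.sub h.inv 𝒬 h.e2 h.cr hf

theorem e3c (h : PData p E F 𝒬) (hS : IsPGroup p S) (hF : F.IsSaturated p) :
    ∀ P, F.IsCentric P → E3 E F P := fun _ hP =>
  e3_of_centric hS hF h.sub h.inv (h.frat hS hF) 𝒬 h.memS h.conj h.gen h.e3 h.cr hP

theorem invariant (h : PData p E F 𝒬) (hS : IsPGroup p S) (hF : F.IsSaturated p) :
    E.IsInvariantIn F := by
  rw [isInvariantIn_iff]
  refine ⟨h.sub, ⟨le_rfl, fun R _ φ hφ x => (F.le_of_mem hφ).2 x⟩, h.inv, fun P f _ hf => ?_⟩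
  obtain ⟨a, ha⟩ := h.frat hS hF P f hf
  exact ha.fratC le_rfl

/-- All elements of `p`-power order of automizers lie in `E`. -/
theorem mem_of_ppow (h : PData p E F 𝒬) (hS : IsPGroup p S) (hF : F.IsSaturated p)
    {P : Subgroup Ω} (hPS : P ≤ S) {α : MulAut P} (hα : α ∈ F.autGroup P)
    (hn : ∃ n : ℕ, α ^ p ^ n = 1) : α ∈ E.autGroup P := by
  obtain ⟨n, hn⟩ := hn
  have hSI : StrongInvC E F := strongInvC_of_invC h.inv fun P f _ hf => by
    obtain ⟨a, ha⟩ := h.frat hS hF P f hf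
    exact ha.fratC le_rfl
  obtain ⟨φ, hφ, g, hg, hge⟩ := H802.exists_conj_of_orderOf hF hPS hα hn
  have hφm := mp_ex hφ
  obtain ⟨P₁, hP₁, hP₁S, -⟩ := Mp.exists_im hφm le_rfl
  obtain ⟨i, hi, hi1, hi2⟩ := hφm.exists_symm le_rfl hP₁
  have hval : ∀ x ∈ P, g * ex φ x * g⁻¹ = ex φ (ac α x) := fun x hx => by
    rw [ex_apply _ hx, ex_apply _ (ac_mem α hx), ← hge ⟨x, hx⟩]
    congr 1
    exact Subtype.ext (ac_apply α hx).symm
  apply mem_of_mp_ac
  refine hSI P₁ P₁ P (fun x => g * x * g⁻¹) i (ac α) le_rfl hP₁S (mp_conj E hP₁S hg) ?_ hi ?_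
  · intro y hy
    obtain ⟨x, hx, rfl⟩ := (hP₁ y).1 hy
    show g * ex φ x * g⁻¹ ∈ P₁
    rw [hval x hx]
    exact hP₁.apply (ac_mem _ hx)
  · intro x hx
    refine ⟨ex φ x, hP₁.apply hx, hi1 x hx, ?_⟩
    show ac α x = i (g * ex φ x * g⁻¹)
    rw [hval x hx, hi1 _ (ac_mem _ hx)]

/-- `E` has index prime to `p` in `F`. -/
theorem primeIndex (h : PData p E F 𝒬) (hS : IsPGroup p S) (hF : F.IsSaturated p) :
    E.HasPrimeToPIndexIn F p := by
  refine ⟨h.sub, fun P hPS => ?_⟩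
  rw [Subgroup.map_le_iff_le_comap, Subgroup.closure_le]
  rintro ⟨α, hα⟩ ⟨k, hk⟩
  refine h.mem_of_ppow hS hF hPS hα ⟨k, ?_⟩
  have h1 : (⟨α, hα⟩ : F.autGroup P) ^ p ^ k = 1 := by rw [← hk]; exact pow_orderOf_eq_one _
  exact congrArg Subtype.val h1

/-- **Saturation.** -/
theorem isSaturated (h : PData p E F 𝒬) (hS : IsPGroup p S) (hF : F.IsSaturated p) :
    E.IsSaturated p := by
  have hEF := h.sub
  have hI := h.inv
  have hFr := h.frat hS hF
  have hE3 := h.e3c hS hF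
  have hC2 := c2 hS hF hEF hI hFr 𝒬 h.memS h.conj h.gen h.e3 hE3
  intro P hPS
  obtain ⟨Q₀, hPQ₀, hQ₀⟩ := H802.exists_isFullyNormalized hS hF hPS
  obtain ⟨f, hf, hfI⟩ := exists_mp_of_isConj hPQ₀
  obtain ⟨a, haF, f₁, hf₁, hfe⟩ := hFr _ _ hf
  obtain ⟨Q, hQ, hQS, -⟩ := Mp.exists_im hf₁ le_rfl
  have hQI : Im (ac a⁻¹) Q₀ Q := fun y => by
    rw [hQ y]
    constructor
    · rintro ⟨x, hx, rfl⟩
      exact ⟨f x, hfI.apply hx, by rw [hfe x hx, ac_inv_ac a (hf₁.mem hx)]⟩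
    · rintro ⟨z, hz, rfl⟩
      obtain ⟨x, hx, rfl⟩ := (hfI z).1 hz
      exact ⟨x, hx, by rw [hfe x hx, ac_inv_ac a (hf₁.mem hx)]⟩
  have hQn : F.IsFullyNormalized Q := isFullyNormalized_ac (inv_mem haF) hQ₀ hQI
  have hQa := H802.isFullyAutomized_of_isFullyNormalized hS hF hQn
  have hQr := H802.isReceptive_of_isFullyNormalized hS hF hQn
  refine ⟨Q, Mp.isConj hf₁ hQ, H802.isFullyAutomized_of_le hS (F := F) (F' := E)
    (fun P => hEF P) hQa, hQS, fun P' φ hφ hr => ?_⟩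
  have hφF := hEF P' hφ
  have hP'S : P' ≤ S := (F.le_of_mem hφF).1
  obtain ⟨ψ, hψ, hψe⟩ := hQr.2 P' φ hφF hr
  have hP'X : P' ≤ extender S P' φ := H802.le_extender hP'S (H802.hom_apply_mem hφF)
  have hψm := mp_ex hψ
  obtain ⟨b, hb⟩ := hFr _ _ hψm
  have hfX : Finite (extender S P' φ) := H802.finite_of_le hψm.le
  have hfQ : Finite Q := H802.finite_of_le hQS
  have hφm : Mp E P' (ex φ) := mp_ex hφ
  have hφI : Im (ex φ) P' Q := fun y => by
    rw [← hr]
    constructor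
    · rintro ⟨x, rfl⟩
      exact ⟨x, x.2, ex_coe _ x⟩
    · rintro ⟨x, hx, rfl⟩
      exact ⟨⟨x, hx⟩, (ex_apply _ hx).symm⟩
  have hψφ : ∀ x ∈ P', ex ψ x = ex φ x := fun x hx => by
    rw [ex_apply _ (hP'X hx), ex_apply _ hx]
    exact hψe x hx (hP'X hx)
  obtain ⟨i, hi, hi1, hi2⟩ := hφm.exists_symm le_rfl hφI
  have hidb : Fr E F Q (fun x => x) b := by
    have h1 := (Fr.one (F := F) hi).comp le_rfl hI (hb.res hP'X) fun y hy => (hi2 y hy).1
    rw [mul_one] at h1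
    exact h1.congr fun y hy => by rw [hψφ _ (hi2 y hy).1, (hi2 y hy).2]
  obtain ⟨g, hg, hge⟩ := hC2 Q hQS hQn b hidb
  -- extension of `g` to `N_S(Q)`
  have hXS : Q ⊔ centralizerIn S Q ≤ S := sup_le hQS inf_le_left
  have hfX' : Finite (Q ⊔ centralizerIn S Q : Subgroup Ω) := H802.finite_of_le hXS
  obtain ⟨N, hN⟩ := H802.exists_normalizerSystem F hQS
  have hNs := H802.normalizerSystem_isSaturated hS hF hQn hN
  have hNF : N.IsSubsystemOf F := normalizerSystem_isSubsystemOf hN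
  have hNf : Finite (normalizerIn S Q) := H802.finite_of_le inf_le_left
  have hNp : IsPGroup p (normalizerIn S Q) := hS.to_le inf_le_left
  have hQNS : Q ≤ normalizerIn S Q := le_inf hQS Subgroup.le_normalizer
  have hXN : Q ⊔ centralizerIn S Q ≤ normalizerIn S Q :=
    sup_le hQNS (inf_le_inf_left S (Subgroup.centralizer_le_normalizer _))
  have hQN : ∀ {P : Subgroup Ω} {f : Ω → Ω}, Mp N P f → Q ≤ P → ∀ x ∈ Q, f x ∈ Q := by
    intro P f hf hQP
    exact ((mp_normalizerSystem_iff' hN hQS hQP).1 hf).2.2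
  have hXmaps : ∀ {f : Ω → Ω}, Mp F (Q ⊔ centralizerIn S Q) f → (∀ x ∈ Q, f x ∈ Q) →
      ∀ x ∈ Q ⊔ centralizerIn S Q, f x ∈ Q ⊔ centralizerIn S Q := by
    intro f hf hfQ'
    refine hf.mem_sup (fun y hy => (le_sup_left : Q ≤ _) (hfQ' y hy)) (fun y hy => ?_)
    refine (le_sup_right : centralizerIn S Q ≤ _)
      ⟨hf.mem ((le_sup_right : centralizerIn S Q ≤ _) hy), ?_⟩
    exact Mp.mem_centralizer hf le_sup_left (Mp.im_of_maps (hf.res le_sup_left) hfQ')
      ((le_sup_right : centralizerIn S Q ≤ _) hy) hy.2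
  have hNX : normalizerIn S Q ≤ normalizerIn (normalizerIn S Q) (Q ⊔ centralizerIn S Q) := by
    intro s hs
    refine ⟨hs, ?_⟩
    have h1 := hXmaps (mp_conj F hXS hs.1) fun x hx => (Subgroup.mem_normalizer_iff.1 hs.2 x).1 hx
    have h2 := Mp.im_of_maps (mp_conj F hXS hs.1) h1
    show s ∈ Subgroup.normalizer ((Q ⊔ centralizerIn S Q : Subgroup Ω) : Set Ω)
    rw [Subgroup.mem_normalizer_iff]
    intro x
    refine ⟨h1 x, fun hx => ?_⟩
    obtain ⟨y, hy, hyx⟩ := (h2 _).1 hx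
    have : y = x := mul_left_cancel (mul_right_cancel hyx)
    rwa [← this]
  have hXn : N.IsFullyNormalized (Q ⊔ centralizerIn S Q) := by
    refine ⟨hXN, fun R _ => ?_⟩
    have hfin : Finite (normalizerIn (normalizerIn S Q) (Q ⊔ centralizerIn S Q)) :=
      H802.finite_of_le (inf_le_left.trans inf_le_left)
    exact (Nat.card_mono (Set.toFinite _) (inf_le_left : normalizerIn _ R ≤ _)).trans
      (Nat.card_mono (Set.toFinite _) hNX)
  have hXa := H802.isFullyAutomized_of_isFullyNormalized hNp hNs hXn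
  have hXr := H802.isReceptive_of_isFullyNormalized hNp hNs hXn
  have hgF := hg.mp le_rfl hEF
  have hgQ : ∀ x ∈ Q, g x ∈ Q := fun x hx => by rw [hge x hx]; exact hx
  have hgN : Mp N (Q ⊔ centralizerIn S Q) g := by
    rw [mp_normalizerSystem_iff' hN hQS le_sup_left]
    exact ⟨hgF, hXN, hgQ⟩
  obtain ⟨α, hα, hαg⟩ := exists_ac hgN (hXmaps hgF hgQ)
  let K : Subgroup (MulAut (Q ⊔ centralizerIn S Q : Subgroup Ω)) :=
    { carrier := {k | k ∈ N.autGroup (Q ⊔ centralizerIn S Q) ∧ (∀ x ∈ Q, ac k x = x) ∧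
        Fr E F (Q ⊔ centralizerIn S Q) (ac k) 1}
      one_mem' := by
        exact ⟨one_mem _, fun x hx => ac_one ((le_sup_left : Q ≤ _) hx),
          (Fr.one (mp_id E hXS)).congr fun x hx => ac_one hx⟩
      mul_mem' := by
        rintro k k' ⟨h1, h2, h3⟩ ⟨h1', h2', h3'⟩
        refine ⟨mul_mem h1 h1', fun x hx => ?_, ?_⟩
        · rw [ac_mul _ _ ((le_sup_left : Q ≤ _) hx), h2' x hx, h2 x hx]
        · have h4 := h3'.comp le_rfl hI h3 fun x hx => ac_mem _ hx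
          rw [mul_one] at h4
          exact h4.congr fun x hx => ac_mul _ _ hx
      inv_mem' := by
        rintro k ⟨h1, h2, h3⟩
        refine ⟨inv_mem h1, fun x hx => ?_, ?_⟩
        · conv_lhs => rw [← h2 x hx]
          exact ac_inv_ac k ((le_sup_left : Q ≤ _) hx)
        · have h4 := h3.symm le_rfl hI (R := Q ⊔ centralizerIn S Q) (g := ac k⁻¹) fun y hy =>
            ⟨ac k⁻¹ y, ac_mem _ hy, ac_ac_inv k hy, rfl⟩
          rwa [inv_one] at h4 }
  have hKA : K ≤ N.autGroup (Q ⊔ centralizerIn S Q) := fun k hk => hk.1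
  have hconj : ∀ c ∈ N.autGroup (Q ⊔ centralizerIn S Q), ∀ k ∈ K, c * k * c⁻¹ ∈ K := by
    rintro c hc k ⟨h1, h2, h3⟩
    have hcm := mp_mono hNF (mp_ac hXN hc)
    obtain ⟨t, ht⟩ := hFr _ _ hcm
    refine ⟨mul_mem (mul_mem hc h1) (inv_mem hc), fun x hx => ?_, ?_⟩
    · have hx' : x ∈ Q ⊔ centralizerIn S Q := (le_sup_left : Q ≤ _) hx
      rw [ac_mul _ _ hx', ac_mul _ _ (ac_mem _ hx'),
        h2 _ (hQN (mp_ac hXN (inv_mem hc)) le_sup_left x hx), ac_ac_inv c hx']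
    · have h4 := ht.symm le_rfl hI (R := Q ⊔ centralizerIn S Q) (g := ac c⁻¹) fun y hy =>
            ⟨ac c⁻¹ y, ac_mem _ hy, ac_ac_inv c hy, rfl⟩
      have h5 := (h4.comp le_rfl hI h3 fun x hx => ac_mem _ hx).comp le_rfl hI ht
        fun x hx => ac_mem _ (ac_mem _ hx)
      rw [one_mul, mul_inv_cancel] at h5
      exact h5.congr fun x hx => by rw [ac_mul _ _ hx, ac_mul _ _ (ac_mem _ hx)]
  obtain ⟨k, hk, n, hn, hne⟩ := mp_ext_kernel (F := N) hNp
    (N := normalizerIn (normalizerIn S Q) (Q ⊔ centralizerIn S Q)) hXa hXr hα K hKA hconj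
    inf_le_left inf_le_right (by
      intro s hs
      have hsN : s ∈ normalizerIn S Q := hs.1
      have hcs := conjAut_mem_autGroup (F := N) hXN hs.1 hs.2
      refine ⟨α * H759.conjAut _ s hs.2 * α⁻¹ * (H759.conjAut _ s hs.2)⁻¹, ?_, s, hs.1, hs.2,
        fun x hx => ?_⟩
      · have hsQ : ∀ x ∈ Q, ac (H759.conjAut _ s hs.2) x ∈ Q := fun x hx =>
          hQN (mp_ac hXN hcs) le_sup_left x hx
        have hsiQ : ∀ x ∈ Q, ac (H759.conjAut _ s hs.2)⁻¹ x ∈ Q := fun x hx =>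
          hQN (mp_ac hXN (inv_mem hcs)) le_sup_left x hx
        have hαQ : ∀ x ∈ Q, ac α x = x := fun x hx => by
          rw [← hαg x ((le_sup_left : Q ≤ _) hx), hge x hx]
        have hαiQ : ∀ x ∈ Q, ac α⁻¹ x = x := fun x hx => by
          conv_lhs => rw [← hαQ x hx]
          exact ac_inv_ac α ((le_sup_left : Q ≤ _) hx)
        refine ⟨mul_mem (mul_mem (mul_mem hα hcs) (inv_mem hα)) (inv_mem hcs), fun x hx => ?_, ?_⟩
        · have hx' : x ∈ Q ⊔ centralizerIn S Q := (le_sup_left : Q ≤ _) hx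
          rw [ac_mul _ _ hx', ac_mul _ _ (ac_mem _ hx'), hαiQ _ (hsiQ x hx),
            ac_mul _ _ (ac_mem _ hx'), ac_ac_inv _ hx', hαQ x hx]
        · have hcF : Fr E F (Q ⊔ centralizerIn S Q) (ac (H759.conjAut _ s hs.2)) 1 :=
            (Fr.one (mp_conj E hXS hsN.1)).congr fun x hx => by
              rw [ac_apply _ hx]; rfl
          have hcFi : Fr E F (Q ⊔ centralizerIn S Q) (ac (H759.conjAut _ s hs.2)⁻¹) 1⁻¹ :=
            hcF.symm le_rfl hI fun y hy => ⟨_, ac_mem _ hy, ac_ac_inv _ hy, rfl⟩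
          have hαF : Fr E F (Q ⊔ centralizerIn S Q) (ac α) b :=
            hg.congr fun x hx => (hαg x hx).symm
          have hαFi : Fr E F (Q ⊔ centralizerIn S Q) (ac α⁻¹) b⁻¹ :=
            hαF.symm le_rfl hI fun y hy => ⟨_, ac_mem _ hy, ac_ac_inv _ hy, rfl⟩
          have h5 := ((hcFi.comp le_rfl hI hαFi fun x hx => ac_mem _ hx).comp le_rfl hI hcF
            fun x hx => ac_mem _ (ac_mem _ hx)).comp le_rfl hI hαF
            fun x hx => ac_mem _ (ac_mem _ (ac_mem _ hx))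
          have e1 : b * (1 * (b⁻¹ * 1⁻¹)) = 1 := by group
          rw [e1] at h5
          exact h5.congr fun x hx => by
            rw [ac_mul _ _ hx, ac_mul _ _ (ac_mem _ hx), ac_mul _ _ (ac_mem _ (ac_mem _ hx))]
      · have h1 := ac_conj_apply (α := α) hs.2 hx
        have h3 : ac (H759.conjAut _ s hs.2)⁻¹ (s * ac α x * s⁻¹) = ac α x := by
          have h4 : s * ac α x * s⁻¹ = ac (H759.conjAut _ s hs.2) (ac α x) := by
            rw [ac_apply _ (ac_mem α hx)]; rfl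
          rw [h4]
          exact ac_inv_ac _ (ac_mem _ hx)
        have h2 : s * ac α x * s⁻¹ ∈ Q ⊔ centralizerIn S Q :=
          (Subgroup.mem_normalizer_iff.1 hs.2 _).1 (ac_mem α hx)
        rw [ac_mul _ _ h2, h3, h1])
  have hnN : Mp N (normalizerIn S Q) n := hn.res (hNX.trans le_sup_right)
  have hnF := mp_mono hNF hnN
  have hnQ : ∀ x ∈ Q, n x = x := fun x hx => by
    have hx' : x ∈ Q ⊔ centralizerIn S Q := (le_sup_left : Q ≤ _) hx
    rw [hne x hx', ← hαg x hx', hge x hx]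
    exact hk.2.1 x hx
  have hnb : Fr E F (normalizerIn S Q) n b := by
    obtain ⟨t, ht⟩ := hFr _ _ hnF
    refine Fr.extend hEF hI ht hXN ?_ (hE3 _ (isCentric_sup_centralizer
      (H802.isFullyCentralized_of_isFullyNormalized hS hF hQn)))
    have h1 := (hg.congr fun x hx => (hαg x hx).symm).comp le_rfl hI hk.2.2 fun x hx => ac_mem _ hx
    rw [one_mul] at h1
    exact h1.congr fun x hx => hne x hx
  have hnI : Im n (normalizerIn S Q) (normalizerIn S Q) := Mp.im_of_maps hnF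
    fun x hx => hnN.mem hx
  obtain ⟨m, hm, hm1, hm2⟩ := hnF.exists_symm le_rfl hnI
  have hmb : Fr E F (normalizerIn S Q) m b⁻¹ := hnb.symm le_rfl hI fun y hy =>
    ⟨m y, (hm2 y hy).1, (hm2 y hy).2, rfl⟩
  have hψN : ∀ x ∈ extender S P' φ, ex ψ x ∈ normalizerIn S Q := fun x hx =>
    ⟨hψm.mem hx, Mp.mem_normalizer hψm hP'X (hφI.congr hψφ) hx
      (H802.extender_le_normalizerIn S P' φ hx).2⟩
  have hfin := hb.comp le_rfl hI hmb hψN
  rw [inv_mul_cancel] at hfin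
  obtain ⟨χ, hχ, hχe⟩ := hfin.mp_of_one
  refine ⟨χ, hχ, fun x hx hx' => ?_⟩
  rw [hχe x hx']
  show m (ex ψ x) = _
  rw [hψφ x hx, ex_apply _ hx]
  have h1 : φ ⟨x, hx⟩ ∈ Q := hr.le ⟨_, rfl⟩
  conv_lhs => rw [← hnQ _ h1]
  exact hm1 _ (hQNS h1)

/-- `E` is normal in `F`. -/
theorem isNormalIn (h : PData p E F 𝒬) (hS : IsPGroup p S) (hF : F.IsSaturated p) :
    E.IsNormalIn F p := by
  rw [isNormalIn_iff le_rfl]
  refine ⟨h.isSaturated hS hF, hF, h.invariant hS hF, fun a ha => ?_⟩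
  have haF := mp_mono h.sub ha
  have hle : centralizerIn S S ≤ S := inf_le_left
  refine ⟨a, by rwa [sup_eq_left.2 hle], fun _ _ => rfl, fun c hc => ?_⟩
  obtain ⟨hc1, hc2⟩ := hc
  have hc1' : c ∈ S := hc1
  have hc2' : c ∈ Subgroup.centralizer (S : Set Ω) := hc2
  exact ⟨S.mul_mem (S.inv_mem hc1') (haF.mem hc1'),
    Subgroup.mul_mem _ (Subgroup.inv_mem _ hc2') (Mp.mem_centralizer haF le_rfl
      (Mp.im_of_maps haF fun x hx => haF.mem hx) hc1' hc2')⟩

end PData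

end Cfsg.Agent.H770
end

-- part: H770/Core
section
/-!
# The invariant core of a subsystem over `S` (helper770)
-/

set_option autoImplicit false

namespace Cfsg.Agent.H770

open Cfsg Cfsg.FusionSystem Cfsg.Agent.H752

variable {Ω : Type*} [Group Ω] {S T : Subgroup Ω} {p : ℕ}

section

variable [Finite S] {F : FusionSystem S}

omit [Finite S] in
theorem mp_maps {a : Ω → Ω} (ha : Mp F S a) : ∀ x ∈ S, a x ∈ S := fun _ hx => ha.mem hx

/-- The inverse of a map from `S` to `S`. -/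
theorem exists_inv_S {a : Ω → Ω} (ha : Mp F S a) : ∃ b, Mp F S b ∧ (∀ x ∈ S, b (a x) = x) ∧
    (∀ x ∈ S, a (b x) = x) := by
  obtain ⟨b, hb, h1, h2⟩ := ha.exists_symm le_rfl (T := S) (Mp.im_of_maps ha (mp_maps ha))
  exact ⟨b, hb, h1, fun x hx => (h2 x hx).2⟩

/-- `F` is invariant in itself. -/
theorem invC_self : InvC F F := by
  intro P R f a h hf ha hR
  obtain ⟨b, hb, h1, h2⟩ := exists_inv_S ha
  have hRS : R ≤ S := by
    intro y hy
    obtain ⟨x, hx, rfl, -⟩ := hR y hy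
    exact ha.mem (hf.le hx)
  have h3 : ∀ y ∈ R, b y ∈ P := by
    intro y hy
    obtain ⟨x, hx, rfl, -⟩ := hR y hy
    rw [h1 x (hf.le hx)]; exact hx
  have h4 := ((hb.res hRS).comp hf h3).comp ha fun x hx => hf.mem (h3 x hx)
  refine h4.congr fun y hy => ?_
  obtain ⟨x, hx, rfl, h5⟩ := hR y hy
  rw [h5, h1 x (hf.le hx)]

/-- The maps of `F` all of whose `Aut_F(S)`-conjugates lie in `D`. -/
noncomputable def core' (F D : FusionSystem S) : FusionSystem S :=
  subSys F S (fun P f => ∀ (a h : Ω → Ω) (R : Subgroup Ω), Mp F S a →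
      (∀ y ∈ R, ∃ x ∈ P, a x = y ∧ h y = a (f x)) → Mp D R h)
    (by
      intro P f g hf h he a k R ha hR
      refine h a k R ha fun y hy => ?_
      obtain ⟨x, hx, h1, h2⟩ := hR y hy
      exact ⟨x, hx, h1, by rw [h2, he x hx]⟩)
    (fun P f hf _ => ⟨hf.le, fun x hx => hf.mem hx⟩)
    (by
      intro P hP s hs
      refine ⟨mp_conj F hP hs, fun a h R ha hR => ?_⟩
      have hRS : R ≤ S := by
        intro y hy
        obtain ⟨x, hx, rfl, -⟩ := hR y hy
        exact ha.mem (hP hx)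
      refine (mp_conj D hRS (ha.mem hs)).congr fun y hy => ?_
      obtain ⟨x, hx, rfl, h2⟩ := hR y hy
      rw [h2, ha.mul (mul_mem hs (hP hx)) (inv_mem hs), ha.mul hs (hP hx), ha.inv hs])
    (by
      intro P Q f g hf hg h1 h2 hPQ a h R ha hR
      obtain ⟨b, hb, hb1, hb2⟩ := exists_inv_S ha
      obtain ⟨Q', hQ', hQ'S, -⟩ := Mp.exists_im ha hg.le
      have h3 : Mp D R (fun y => a (f (b y))) := h1 a _ R ha fun y hy => by
        obtain ⟨x, hx, rfl, -⟩ := hR y hy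
        exact ⟨x, hx, rfl, by rw [hb1 x (hf.le hx)]⟩
      have h4 : Mp D Q' (fun y => a (g (b y))) := h2 a _ Q' ha fun y hy => by
        obtain ⟨x, hx, rfl⟩ := (hQ' y).1 hy
        exact ⟨x, hx, rfl, by rw [hb1 x (hg.le hx)]⟩
      refine (h3.comp h4 ?_).congr ?_
      · intro y hy
        obtain ⟨x, hx, rfl, -⟩ := hR y hy
        rw [hb1 x (hf.le hx)]
        exact hQ'.apply (hPQ x hx)
      · intro y hy
        obtain ⟨x, hx, rfl, h5⟩ := hR y hy
        show h (a x) = a (g (b (a (f (b (a x))))))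
        rw [h5, hb1 x (hf.le hx), hb1 _ (hf.mem hx)])
    (by
      intro P R f g hf h1 hg hinv hfR a h R' ha hR'
      obtain ⟨b, hb, hb1, hb2⟩ := exists_inv_S ha
      obtain ⟨P', hP', hP'S, -⟩ := Mp.exists_im ha hf.le
      have h3 : Mp D P' (fun y => a (f (b y))) := h1 a _ P' ha fun y hy => by
        obtain ⟨x, hx, rfl⟩ := (hP' y).1 hy
        exact ⟨x, hx, rfl, by rw [hb1 x (hf.le hx)]⟩
      refine h3.symm fun y hy => ?_
      obtain ⟨z, hz, rfl, h5⟩ := hR' y hy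
      obtain ⟨x, hx, rfl, h6⟩ := hinv z hz
      exact ⟨a x, hP'.apply hx, by rw [hb1 x (hf.le hx)], by rw [h5, h6]⟩)

theorem mp_core'_iff {D : FusionSystem S} {P : Subgroup Ω} {f : Ω → Ω} :
    Mp (core' F D) P f ↔ Mp F P f ∧ ∀ (a h : Ω → Ω) (R : Subgroup Ω), Mp F S a →
      (∀ y ∈ R, ∃ x ∈ P, a x = y ∧ h y = a (f x)) → Mp D R h := mp_subSys_iff

theorem mp_of_core' {D : FusionSystem S} {P : Subgroup Ω} {f : Ω → Ω} (h : Mp (core' F D) P f) :
    Mp D P f := by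
  obtain ⟨h1, h2⟩ := mp_core'_iff.1 h
  exact h2 (fun x => x) f P (mp_id F le_rfl) fun y hy => ⟨y, hy, rfl, rfl⟩

theorem invC_core' {D : FusionSystem S} : InvC (core' F D) F := by
  intro P R f a h hf ha hR
  obtain ⟨h1, h2⟩ := mp_core'_iff.1 hf
  rw [mp_core'_iff]
  refine ⟨invC_self P R f a h h1 ha hR, ?_⟩
  intro b k R' hb hR'
  refine h2 (fun x => b (a x)) k R' (ha.comp hb fun x hx => ha.mem hx) fun y hy => ?_
  obtain ⟨z, hz, rfl, h3⟩ := hR' y hy
  obtain ⟨x, hx, rfl, h4⟩ := hR z hz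
  exact ⟨x, hx, rfl, by rw [h3, h4]⟩

/-- Generation as an invariant system implies generation. -/
theorem gen_of_inv {E : FusionSystem S} (hEF : E.IsSubsystemOf F) (hI : InvC E F)
    (𝒬 : Subgroup Ω → Prop) (h𝒬c : ∀ P Q, 𝒬 P → F.IsConj P Q → 𝒬 Q)
    (hgen : ∀ D : FusionSystem S, InvC D F → (∀ P f, 𝒬 P → Mp E P f → Mp D P f) →
      ∀ P f, Mp E P f → Mp D P f) :
    ∀ D : FusionSystem S, (∀ P f, 𝒬 P → Mp E P f → Mp D P f) → ∀ P f, Mp E P f → Mp D P f := by
  intro D hD P f hf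
  refine mp_of_core' (F := F) (hgen (core' F D) invC_core' (fun P f hP hf => ?_) P f hf)
  rw [mp_core'_iff]
  refine ⟨mp_mono hEF hf, fun a h R ha hR => ?_⟩
  obtain ⟨b, hb, hb1, hb2⟩ := exists_inv_S ha
  obtain ⟨R₁, hR₁, hR₁S, -⟩ := Mp.exists_im ha hf.le
  have h1 : Mp E R₁ (fun y => a (f (b y))) := hI P R₁ f a _ hf ha fun y hy => by
    obtain ⟨x, hx, rfl⟩ := (hR₁ y).1 hy
    exact ⟨x, hx, rfl, by rw [hb1 x (hf.le hx)]⟩
  have h2 := hD R₁ _ (h𝒬c P R₁ hP (Mp.isConj (ha.res hf.le) hR₁)) h1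
  refine (h2.res fun y hy => ?_).congr fun y hy => ?_
  · obtain ⟨x, hx, rfl, -⟩ := hR y hy
    exact hR₁.apply hx
  · obtain ⟨x, hx, rfl, h3⟩ := hR y hy
    rw [h3, hb1 x (hf.le hx)]

end

end Cfsg.Agent.H770
end

-- part: H770/Char
section
/-!
# The subsystem attached to a normal subgroup `K` of `Aut_F(T)` of index prime to `p` containing `Aut_E(T)`
(helper770)
-/

set_option autoImplicit false

namespace Cfsg.Agent.H770

open Cfsg Cfsg.FusionSystem Cfsg.Agent.H752 Cfsg.Agent.H756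

variable {Ω : Type*} [Group Ω] {S T : Subgroup Ω} {p : ℕ}

section

variable [Finite S] [Fact p.Prime] {F : FusionSystem S}

/-- The automorphisms in `F` of `P` acting trivially on `P ∩ T` and modulo `T`. -/
def KT (F : FusionSystem S) (T P : Subgroup Ω) : Subgroup (MulAut P) where
  carrier := {k | k ∈ F.autGroup P ∧ (∀ x ∈ P, x ∈ T → ac k x = x) ∧ ∀ x ∈ P, x⁻¹ * ac k x ∈ T}
  one_mem' := ⟨one_mem _, fun x hx _ => ac_one hx, fun x hx => by
    rw [ac_one hx]; simp⟩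
  mul_mem' := by
    rintro a b ⟨ha, ha1, ha2⟩ ⟨hb, hb1, hb2⟩
    refine ⟨mul_mem ha hb, fun x hx hxT => ?_, fun x hx => ?_⟩
    · rw [ac_mul _ _ hx, hb1 x hx hxT, ha1 x hx hxT]
    · rw [ac_mul _ _ hx]
      have : x⁻¹ * ac a (ac b x) = (x⁻¹ * ac b x) * ((ac b x)⁻¹ * ac a (ac b x)) := by group
      rw [this]
      exact T.mul_mem (hb2 x hx) (ha2 _ (ac_mem _ hx))
  inv_mem' := by
    rintro a ⟨ha, ha1, ha2⟩
    refine ⟨inv_mem ha, fun x hx hxT => ?_, fun x hx => ?_⟩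
    · conv_lhs => rw [← ha1 x hx hxT]
      exact ac_inv_ac a hx
    · have h1 := ha2 (ac a⁻¹ x) (ac_mem _ hx)
      rw [ac_ac_inv a hx] at h1
      have : x⁻¹ * ac a⁻¹ x = ((ac a⁻¹ x)⁻¹ * x)⁻¹ := by group
      rw [this]
      exact T.inv_mem h1

/-- A centric fully normalized `P` such that `P ∩ T` is not `T`-centric is not radical. -/
theorem not_radical_of_not_tc (hS : IsPGroup p S) (hF : F.IsSaturated p)
    (hT : F.StronglyClosed T) {P : Subgroup Ω} (hPc : F.IsCentric P)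
    (hPT : ¬ TC F T (P ⊓ T)) :
    ∃ K : Subgroup (MulAut P), K ≤ F.autGroup P ∧ (∀ a ∈ F.autGroup P, ∀ k ∈ K, a * k * a⁻¹ ∈ K) ∧
      IsPGroup p K ∧ ¬ K ≤ Inn P := by
  have hPS := hPc.1
  have hfP : Finite P := H802.finite_of_le hPS
  refine ⟨KT F T P, fun k hk => hk.1, ?_, ?_, ?_⟩
  · rintro a ha k ⟨hk, hk1, hk2⟩
    have ham := mp_ac hPS ha
    refine ⟨mul_mem (mul_mem ha hk) (inv_mem ha), fun x hx hxT => ?_, fun x hx => ?_⟩
    · have h1 : ac a⁻¹ x ∈ T := mp_mem_of_stronglyClosed hT (mp_ac hPS (inv_mem ha)) hx hxT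
      rw [ac_mul _ _ hx, ac_mul _ _ (ac_mem _ hx), hk1 _ (ac_mem _ hx) h1, ac_ac_inv a hx]
    · rw [ac_mul _ _ hx, ac_mul _ _ (ac_mem _ hx)]
      have hy : ac a⁻¹ x ∈ P := ac_mem _ hx
      have h1 := mp_mem_of_stronglyClosed hT ham
        (P.mul_mem (P.inv_mem hy) (ac_mem k hy)) (hk2 _ hy)
      rw [ham.mul (P.inv_mem hy) (ac_mem k hy), ham.inv hy, ac_ac_inv a hx] at h1
      exact h1
  · rintro ⟨k, hk, hk1, hk2⟩
    obtain ⟨n, hn⟩ := H759.exists_pow_eq_one_of_chain (hS.to_le hPS) k 2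
      (fun i => if i = 0 then ⊤ else if i = 1 then (P ⊓ T).subgroupOf P else ⊥) (by simp) (by simp)
      (by
        intro i hi x hx
        rcases i with _ | _ | _ | i
        · simp
        · have hx' : (x : Ω) ∈ T := by
            have : (x : Ω) ∈ P ⊓ T := by simpa [Subgroup.mem_subgroupOf] using hx
            exact this.2
          have h1 : k x = x := by
            apply Subtype.ext
            rw [← ac_apply k x.2, hk1 x x.2 hx']
          rw [h1]; exact hx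
        · have hx' : x = 1 := by simpa using hx
          simp [hx']
        · omega)
      (by
        intro i hi x hx
        rcases i with _ | _ | i
        · have h1 := hk2 x x.2
          rw [ac_apply k x.2] at h1
          simpa [Subgroup.mem_subgroupOf] using h1
        · have hx' : (x : Ω) ∈ T := by
            have : (x : Ω) ∈ P ⊓ T := by simpa [Subgroup.mem_subgroupOf] using hx
            exact this.2
          have h1 : k x = x := by
            apply Subtype.ext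
            rw [← ac_apply k x.2, hk1 x x.2 hx']
          simp [h1]
        · omega)
    exact ⟨n, Subtype.ext hn⟩
  · -- the group is not inner
    have h1 : ∃ f : Ω → Ω, Mp F (P ⊓ T) f ∧ ∃ z ∈ T, (∀ x ∈ P ⊓ T, f x * z = z * f x) ∧
        ∀ x ∈ P ⊓ T, f x ≠ z := by
      by_contra hcon
      push Not at hcon
      exact hPT ⟨inf_le_right, fun f hf z hz hc => hcon f hf z hz hc⟩
    obtain ⟨f, hf, z, hzT, hzc, hzn⟩ := h1
    have hPTS : P ⊓ T ≤ S := inf_le_left.trans hPS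
    obtain ⟨R', hR', hR'S, -⟩ := Mp.exists_im hf le_rfl
    obtain ⟨R'', hR'R'', hR''n⟩ := H802.exists_isFullyNormalized hS hF hR'S
    obtain ⟨k₀, hk₀, hk₀I⟩ := exists_mp_of_isConj hR'R''
    obtain ⟨k, hk, hkI⟩ := mp_normalizer hS hF hR''n hk₀ hk₀I
    have hR'N : R' ≤ normalizerIn S R' := le_inf hR'S Subgroup.le_normalizer
    have hzC : z ∈ Subgroup.centralizer (R' : Set Ω) := by
      rw [Subgroup.mem_centralizer_iff]
      intro y hy
      obtain ⟨x, hx, rfl⟩ := (hR' y).1 hy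
      exact hzc x hx
    have hzN : z ∈ normalizerIn S R' := ⟨hT.1 hzT, Subgroup.centralizer_le_normalizer _ hzC⟩
    have hkz : k z ∈ T := mp_mem_of_stronglyClosed hT hk hzN hzT
    have hkzC : k z ∈ Subgroup.centralizer (R'' : Set Ω) := Mp.mem_centralizer hk hR'N hkI hzN hzC
    have hkzR : k z ∉ R'' := by
      intro h2
      obtain ⟨y, hy, hyz⟩ := (hkI _).1 h2
      have h3 := hk.inj (hR'N hy) hzN hyz
      obtain ⟨x, hx, hxy⟩ := (hR' y).1 hy
      exact hzn x hx (hxy.trans h3)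
    -- the map `m`
    obtain ⟨m, hm, hmI⟩ := mp_normalizer hS hF hR''n (hf.comp hk₀ fun x hx => hR'.apply hx)
      (hR'.comp hk₀I)
    have hPN : P ≤ normalizerIn S (P ⊓ T) := by
      refine le_inf hPS ?_
      rw [Subgroup.le_normalizer_iff]
      intro x hx y hy
      exact ⟨P.mul_mem (P.mul_mem hx hy.1) (P.inv_mem hx),
        H759.StronglyClosed.conj_mem hT (hPS hx) hy.2⟩
    have hPTN : P ⊓ T ≤ normalizerIn S (P ⊓ T) := inf_le_left.trans hPN
    obtain ⟨P'', hP'', hP''S, -⟩ := Mp.exists_im hm hPN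
    have hP''c : F.IsCentric P'' := H802.isCentric_of_isConj hPc (Mp.isConj (hm.res hPN) hP'')
    have hP''T : ∀ y ∈ P'', y ∈ T → y ∈ R'' := by
      intro y hy hyT
      obtain ⟨x, hx, rfl⟩ := (hP'' y).1 hy
      exact hmI.apply ⟨hx, mp_mem_of_stronglyClosed' hT hm (hPN hx) hyT⟩
    have hR''P'' : R'' ≤ P'' := by
      intro y hy
      obtain ⟨x, hx, rfl⟩ := (hmI y).1 hy
      exact hP''.apply hx.1
    -- an element of `C_T(R'')` normalizing `P''` outside `P''`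
    set C : Subgroup Ω := T ⊓ Subgroup.centralizer (R'' : Set Ω) with hC
    have hCS : C ≤ S := inf_le_left.trans hT.1
    have hP''C : P'' ≤ Subgroup.normalizer (C : Set Ω) := by
      rw [Subgroup.le_normalizer_iff]
      intro x hx y hy
      refine ⟨H759.StronglyClosed.conj_mem hT (hP''S hx) hy.1, ?_⟩
      have hxN : x ∈ normalizerIn S R'' := by
        refine ⟨hP''S hx, H802.mem_normalizer_of_conj_mem (hR''P''.trans hP''S) fun y hy => ?_⟩
        refine hP''T _ (P''.mul_mem (P''.mul_mem hx (hR''P'' hy)) (P''.inv_mem hx)) ?_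
        refine H759.StronglyClosed.conj_mem hT (hP''S hx) ?_
        obtain ⟨w, hw, rfl⟩ := (hmI y).1 hy
        exact mp_mem_of_stronglyClosed hT hm (hPTN hw) hw.2
      exact (conj_mem_centralizerIn hxN ⟨hCS hy, hy.2⟩).2
    have hlt : P'' < P'' ⊔ C := by
      refine lt_of_le_of_ne le_sup_left fun h2 => hkzR (hP''T _ ?_ hkz)
      rw [h2]
      exact (le_sup_right : C ≤ _) ⟨hkz, hkzC⟩
    obtain ⟨g, hg, hgP, hgN⟩ := H759.exists_mem_normalizer_not_mem hS (sup_le hP''S hCS) hlt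
    obtain ⟨x, hx, t, ht, rfl⟩ := (H759.mem_sup_of_normalizes hP''C).1 hg
    have htP : t ∉ P'' := fun h2 => hgP (P''.mul_mem hx h2)
    have htN : t ∈ Subgroup.normalizer (P'' : Set Ω) := by
      have h2 := mul_mem (inv_mem (Subgroup.le_normalizer hx)) hgN
      simpa [← mul_assoc] using h2
    -- transport to `P`
    obtain ⟨i, hi, hi1, hi2⟩ := (hm.res hPN).exists_symm le_rfl hP''
    have hct : ∀ y ∈ P'', t * y * t⁻¹ ∈ P'' := fun y hy => (Subgroup.mem_normalizer_iff.1 htN y).1 hy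
    have hκm : Mp F P (fun x => i (t * m x * t⁻¹)) :=
      ((hm.res hPN).comp (mp_conj F hP''S (hCS ht)) fun x hx => hP''.apply hx).comp hi
        fun x hx => hct _ (hP''.apply hx)
    obtain ⟨κ, hκ, hκe⟩ := exists_ac hκm fun x hx => (hi2 _ (hct _ (hP''.apply hx))).1
    intro hle
    have hκK : κ ∈ KT F T P := by
      refine ⟨hκ, fun x hx hxT => ?_, fun x hx => ?_⟩
      · rw [← hκe x hx]
        have h2 : m x ∈ R'' := hmI.apply ⟨hx, hxT⟩
        have h3 : m x * t = t * m x := Subgroup.mem_centralizer_iff.1 ht.2 _ h2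
        have h4 : t * m x * t⁻¹ = m x := by rw [← h3]; group
        rw [h4, hi1 x hx]
      · have h2 : m (x⁻¹ * ac κ x) ∈ T := by
          rw [hm.mul (P.inv_mem hx |> fun h => hPN h) (hPN (ac_mem _ hx)), hm.inv (hPN hx), ← hκe x hx,
            (hi2 _ (hct _ (hP''.apply hx))).2]
          have hmx : m x ∈ S := hm.mem (hPN hx)
          have h3 : (m x)⁻¹ * (t * m x * t⁻¹) = ((m x)⁻¹ * t * m x) * t⁻¹ := by group
          rw [h3]
          exact T.mul_mem (H759.StronglyClosed.conj_mem' hT hmx ht.1) (T.inv_mem ht.1)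
        exact mp_mem_of_stronglyClosed' hT hm (hPN (P.mul_mem (P.inv_mem hx) (ac_mem _ hx))) h2
    obtain ⟨y, hy⟩ := hle hκK
    apply htP
    have hmy : m y ∈ P'' := hP''.apply y.2
    have h5 : (m y)⁻¹ * t ∈ centralizerIn S P'' := by
      refine ⟨S.mul_mem (S.inv_mem (hP''S hmy)) (hCS ht), ?_⟩
      show (m y)⁻¹ * t ∈ Subgroup.centralizer (P'' : Set Ω)
      rw [Subgroup.mem_centralizer_iff]
      intro w hw
      obtain ⟨x, hx, rfl⟩ := (hP'' w).1 hw
      have h6 : ac κ x = y * x * (y : Ω)⁻¹ := by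
        rw [ac_apply κ hx, ← hy]; rfl
      have h7 : m (ac κ x) = t * m x * t⁻¹ := by
        rw [← hκe x hx, (hi2 _ (hct _ (hP''.apply hx))).2]
      rw [h6, hm.mul (P.mul_mem y.2 hx |> fun h => hPN h) (hPN (P.inv_mem y.2)),
        hm.mul (hPN y.2) (hPN hx), hm.inv (hPN y.2)] at h7
      have h8 : (m y)⁻¹ * (m y * m x * (m y)⁻¹) * t = (m y)⁻¹ * (t * m x * t⁻¹) * t := by rw [h7]
      have h9 : m x * ((m y)⁻¹ * t) = (m y)⁻¹ * (m y * m x * (m y)⁻¹) * t := by group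
      rw [h9, h8]
      group
    have h10 := hP''c.2 P'' (H802.isConj_refl F hP''S) h5
    have h11 := P''.mul_mem hmy h10
    rwa [mul_inv_cancel_left] at h11

end

end Cfsg.Agent.H770
end

-- part: H770/CharSys
section
/-!
# The subsystem attached to a normal subgroup `K` of `Aut_F(T)` of index prime to `p` containing `Aut_E(T)`:
construction (helper770)
-/

set_option autoImplicit false
set_option linter.unusedVariables false

namespace Cfsg.Agent.H770

open Cfsg Cfsg.FusionSystem Cfsg.Agent.H752 Cfsg.Agent.H756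

variable {Ω : Type*} [Group Ω] {S T : Subgroup Ω} {p : ℕ}

/-- `E` weakly normal in `F` over `T`, `Aut_E(T) ≤ K`, `K` normal in `Aut_F(T)` of index prime to `p`. -/
structure CharData (p : ℕ) (E : FusionSystem T) (F : FusionSystem S) (K : Subgroup (MulAut T)) :
    Prop where
  hS : IsPGroup p S
  hE : E.IsWeaklyNormalIn F p
  hK : K ≤ F.autGroup T
  hKn : ∀ a ∈ F.autGroup T, ∀ k ∈ K, a * k * a⁻¹ ∈ K
  hEK : E.autGroup T ≤ K
  hKp : ∀ a ∈ F.autGroup T, ∀ n : ℕ, a ^ p ^ n ∈ K → a ∈ K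

/-- On `P ∩ T`, `f` is a map of `E` followed by an element of `K`. -/
def KE (E : FusionSystem T) (F : FusionSystem S) (K : Subgroup (MulAut T)) (P : Subgroup Ω)
    (f : Ω → Ω) : Prop := ∃ κ ∈ K, Fr E F (P ⊓ T) f κ

/-- The subgroups `P` of `S` with `P ∩ T` `T`-centric. -/
def QT (F : FusionSystem S) (T P : Subgroup Ω) : Prop := P ≤ S ∧ TC F T (P ⊓ T)

/-- The system generated by the maps on members of `QT` satisfying `KE`. -/
noncomputable def charSys (E : FusionSystem T) (F : FusionSystem S) (K : Subgroup (MulAut T)) :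
    FusionSystem S :=
  subSys F S (fun P f => ∀ D : FusionSystem S, InvC D F →
      (∀ P f, QT F T P → Mp F P f → KE E F K P f → Mp D P f) → Mp D P f)
    (fun P f g _ h he D hD hg => (h D hD hg).congr he)
    (fun P f hf _ => ⟨hf.le, fun x hx => hf.mem hx⟩)
    (fun P hP s hs => ⟨mp_conj F hP hs, fun D _ _ => mp_conj D hP hs⟩)
    (fun P Q f g _ _ h1 h2 hPQ D hD hg => (h1 D hD hg).comp (h2 D hD hg) hPQ)
    (fun P R f g _ h _ hinv _ D hD hg => (h D hD hg).symm hinv)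

theorem mp_charSys_iff {E : FusionSystem T} {F : FusionSystem S} {K : Subgroup (MulAut T)}
    {P : Subgroup Ω} {f : Ω → Ω} : Mp (charSys E F K) P f ↔ Mp F P f ∧
      ∀ D : FusionSystem S, InvC D F →
      (∀ P f, QT F T P → Mp F P f → KE E F K P f → Mp D P f) → Mp D P f := mp_subSys_iff

namespace CharData

variable [Finite S] {E : FusionSystem T} {F : FusionSystem S}
  {K : Subgroup (MulAut T)}

omit [Finite S] in
theorem sub (h : CharData p E F K) : E.IsSubsystemOf F := h.hE.2.2.1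

omit [Finite S] in
theorem sc (h : CharData p E F K) : F.StronglyClosed T := h.hE.2.2.2.1

omit [Finite S] in
theorem le (h : CharData p E F K) : T ≤ S := h.sc.1

theorem inv (h : CharData p E F K) : InvC E F := by
  have : Finite T := H802.finite_of_le h.le
  exact (isInvariantIn_iff.1 h.hE.2.2).2.2.1

theorem fr (h : CharData p E F K) {P : Subgroup Ω} {f : Ω → Ω} (hPT : P ≤ T) (hf : Mp F P f) :
    ∃ a, Fr E F P f a := by
  have : Finite T := H802.finite_of_le h.le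
  exact FratC.exists_fr ((isInvariantIn_iff.1 h.hE.2.2).2.2.2 P f hPT hf) h.sc

omit [Finite S] in
theorem ac_mem_T (h : CharData p E F K) {P : Subgroup Ω} {f : Ω → Ω} (hf : Mp F P f) {x : Ω}
    (hx : x ∈ P ⊓ T) : f x ∈ T := mp_mem_of_stronglyClosed h.sc hf hx.1 hx.2

/-- Restriction to `T` of an element of `Aut_F(S)`. -/
theorem exists_res (h : CharData p E F K) {a : Ω → Ω} (ha : Mp F S a) :
    ∃ b ∈ F.autGroup T, ∀ x ∈ T, a x = ac b x := by
  have : Finite T := H802.finite_of_le h.le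
  exact exists_ac (ha.res h.le) fun x hx => mp_mem_of_stronglyClosed h.sc ha (h.le hx) hx

theorem ke_comp (h : CharData p E F K) {P Q : Subgroup Ω} {f g : Ω → Ω} (hf : Mp F P f)
    (h1 : KE E F K P f) (h2 : KE E F K Q g) (hPQ : ∀ x ∈ P, f x ∈ Q) :
    KE E F K P (fun x => g (f x)) := by
  obtain ⟨κ, hκ, h3⟩ := h1
  obtain ⟨κ', hκ', h4⟩ := h2
  exact ⟨κ' * κ, mul_mem hκ' hκ, h3.comp h.le h.inv h4 fun x hx => ⟨hPQ x hx.1, h.ac_mem_T hf hx⟩⟩

theorem ke_symm (h : CharData p E F K) {P R : Subgroup Ω} {f g : Ω → Ω} (hf : Mp F P f)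
    (h1 : KE E F K P f) (hinv : ∀ y ∈ R, ∃ x ∈ P, f x = y ∧ g y = x) : KE E F K R g := by
  obtain ⟨κ, hκ, h3⟩ := h1
  refine ⟨κ⁻¹, inv_mem hκ, h3.symm h.le h.inv fun y hy => ?_⟩
  obtain ⟨x, hx, hxy, h5⟩ := hinv y hy.1
  exact ⟨x, ⟨hx, mp_mem_of_stronglyClosed' h.sc hf hx (hxy ▸ hy.2)⟩, hxy, h5⟩

theorem ke_conj (h : CharData p E F K) {P R : Subgroup Ω} {f a k : Ω → Ω} (hf : Mp F P f)
    (h1 : KE E F K P f) (ha : Mp F S a) (hR : ∀ y ∈ R, ∃ x ∈ P, a x = y ∧ k y = a (f x)) :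
    KE E F K R k := by
  obtain ⟨κ, hκ, h3⟩ := h1
  obtain ⟨b, hb, hab⟩ := h.exists_res ha
  have hbi : ∀ y ∈ R ⊓ T, ac b⁻¹ y ∈ P ⊓ T ∧ a (ac b⁻¹ y) = y := by
    rintro y ⟨hy, hyT⟩
    obtain ⟨x, hx, rfl, -⟩ := hR y hy
    have hxS := hf.le hx
    have hxT : x ∈ T := mp_mem_of_stronglyClosed' h.sc ha hxS hyT
    rw [hab x hxT, ac_inv_ac b hxT]
    exact ⟨⟨hx, hxT⟩, hab x hxT⟩
  refine ⟨b * (κ * b⁻¹), by rw [← mul_assoc]; exact h.hKn b hb κ hκ, ?_⟩
  have h4 : Fr E F (R ⊓ T) (ac b⁻¹) b⁻¹ := Fr.of_aut (inv_mem hb) inf_le_right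
  have h5 : Fr E F T (ac b) b := Fr.of_aut hb le_rfl
  have h6 := (h4.comp h.le h.inv h3 fun y hy => (hbi y hy).1).comp h.le h.inv h5
    fun y hy => h.ac_mem_T hf (hbi y hy).1
  refine h6.congr fun y hy => ?_
  obtain ⟨x, hx, rfl, h7⟩ := hR y hy.1
  have hxS := hf.le hx
  have hxT : x ∈ T := mp_mem_of_stronglyClosed' h.sc ha hxS hy.2
  have h8 : ac b⁻¹ (a x) = x := by rw [hab x hxT, ac_inv_ac b hxT]
  show k (a x) = ac b (f (ac b⁻¹ (a x)))
  rw [h8, h7]
  exact hab _ (h.ac_mem_T hf ⟨hx, hxT⟩)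

theorem conj_mem_K [Fact p.Prime] (h : CharData p E F K) {s : Ω} (hs : s ∈ S) :
    H759.conjAut T s (H759.StronglyClosed.le_normalizer h.sc hs) ∈ K := by
  obtain ⟨n, hn⟩ := conjAut_ppow (p := p) h.hS hs (H759.StronglyClosed.le_normalizer h.sc hs)
  exact h.hKp _ (conjAut_mem_autGroup h.le hs _) n (by rw [hn]; exact one_mem _)

theorem ke_of_conj [Fact p.Prime] (h : CharData p E F K) {P : Subgroup Ω} {s : Ω} (hs : s ∈ S) :
    KE E F K P (fun x => s * x * s⁻¹) := by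
  refine ⟨_, h.conj_mem_K hs, (Fr.of_aut (h.hK (h.conj_mem_K hs)) inf_le_right).congr fun x hx => ?_⟩
  rw [ac_apply _ hx.2]
  rfl

/-- All maps satisfying `KE`. -/
noncomputable def bigSys [Fact p.Prime] (h : CharData p E F K) : FusionSystem S :=
  subSys F S (fun P f => KE E F K P f)
    (fun P f g _ h1 he => by
      obtain ⟨κ, hκ, h3⟩ := h1
      exact ⟨κ, hκ, h3.congr fun x hx => he x hx.1⟩)
    (fun P f hf _ => ⟨hf.le, fun x hx => hf.mem hx⟩)
    (fun P hP s hs => ⟨mp_conj F hP hs, h.ke_of_conj hs⟩)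
    (fun P Q f g hf _ h1 h2 hPQ => h.ke_comp hf h1 h2 hPQ)
    (fun P R f g hf h1 _ hinv _ => h.ke_symm hf h1 hinv)

theorem mp_bigSys_iff [Fact p.Prime] (h : CharData p E F K) {P : Subgroup Ω} {f : Ω → Ω} :
    Mp h.bigSys P f ↔ Mp F P f ∧ KE E F K P f := mp_subSys_iff

theorem invC_bigSys [Fact p.Prime] (h : CharData p E F K) : InvC h.bigSys F := by
  intro P R f a k hf ha hR
  obtain ⟨h1, h2⟩ := h.mp_bigSys_iff.1 hf
  exact h.mp_bigSys_iff.2 ⟨invC_self P R f a k h1 ha hR, h.ke_conj h1 h2 ha hR⟩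

theorem ke_of_mp [Fact p.Prime] (h : CharData p E F K) {P : Subgroup Ω} {f : Ω → Ω}
    (hf : Mp (charSys E F K) P f) : KE E F K P f :=
  (h.mp_bigSys_iff.1 ((mp_charSys_iff.1 hf).2 h.bigSys h.invC_bigSys fun _ _ _ h1 h2 =>
    h.mp_bigSys_iff.2 ⟨h1, h2⟩)).2

omit [Finite S] in
theorem mp_of_ke {P : Subgroup Ω} {f : Ω → Ω} (hP : QT F T P) (hf : Mp F P f)
    (hk : KE E F K P f) : Mp (charSys E F K) P f :=
  mp_charSys_iff.2 ⟨hf, fun D _ hD => hD P f hP hf hk⟩

omit [Finite S] in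
theorem charSys_sub : (charSys E F K).IsSubsystemOf F := subSys_isSubsystemOf

theorem qt_self (h : CharData p E F K) {P : Subgroup Ω} (hTP : T ≤ P) (hPS : P ≤ S) :
    QT F T P := by
  have : Finite T := H802.finite_of_le h.le
  have hPT : P ⊓ T = T := inf_eq_right.2 hTP
  refine ⟨hPS, ?_⟩
  rw [hPT]
  refine ⟨le_rfl, fun f hf z hz _ => ?_⟩
  exact hf.surj (fun x hx => mp_mem_of_stronglyClosed h.sc hf hx hx) hz

theorem qt_conj (h : CharData p E F K) {P Q : Subgroup Ω} (hP : QT F T P) (hPQ : F.IsConj P Q) :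
    QT F T Q := by
  obtain ⟨f, hf, hfI⟩ := exists_mp_of_isConj hPQ
  refine ⟨Mp.im_le hf hfI, hP.2.image h.sc (hf.res inf_le_left) fun y => ?_⟩
  constructor
  · rintro ⟨hy, hyT⟩
    obtain ⟨x, hx, rfl⟩ := (hfI y).1 hy
    exact ⟨x, ⟨hx, mp_mem_of_stronglyClosed' h.sc hf hx hyT⟩, rfl⟩
  · rintro ⟨x, hx, rfl⟩
    exact ⟨hfI.apply hx.1, mp_mem_of_stronglyClosed h.sc hf hx.1 hx.2⟩

theorem fr_pow (h : CharData p E F K) {R : Subgroup Ω} (hRT : R ≤ T) {P : Subgroup Ω}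
    {α : MulAut P} (hRP : R ≤ P) (hm : ∀ x ∈ R, ac α x ∈ R) {δ : MulAut T}
    (hδ : Fr E F R (ac α) δ) (n : ℕ) : Fr E F R (ac (α ^ n)) (δ ^ n) := by
  have hmn : ∀ n : ℕ, ∀ x ∈ R, ac (α ^ n) x ∈ R := by
    intro n
    induction n with
    | zero => intro x hx; rw [pow_zero, ac_one (hRP hx)]; exact hx
    | succ n ih => intro x hx; rw [pow_succ, ac_mul _ _ (hRP hx)]; exact ih _ (hm x hx)
  induction n with
  | zero =>
    rw [pow_zero, pow_zero]
    exact (Fr.one (mp_id E hRT)).congr fun x hx => ac_one (hRP hx)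
  | succ n ih =>
    rw [pow_succ, pow_succ]
    exact (hδ.comp h.le h.inv ih hm).congr fun x hx => ac_mul _ _ (hRP hx)

/-- If the identity of a `T`-centric `R` has Frattini factor `δ`, then `δ ∈ K`. -/
theorem mem_K_of_fr [Fact p.Prime] (h : CharData p E F K) {R : Subgroup Ω} (hR : TC F T R)
    {δ : MulAut T} (hδ : Fr E F R (fun x => x) δ) : δ ∈ K := by
  have h1 := hδ.mp_of_id h.le h.inv
  obtain ⟨k, hk⟩ := pow_mem_of_restrict h.hS h.hE R hR δ hδ.mem h1
  exact h.hKp δ hδ.mem k (h.hEK hk)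

theorem pdata [Fact p.Prime] (h : CharData p E F K) :
    PData p (charSys E F K) F (QT F T) := by
  have hF := h.hE.2.1
  have hI : InvC (charSys E F K) F := by
    intro P R f a k hf ha hR
    obtain ⟨h1, h2⟩ := mp_charSys_iff.1 hf
    exact mp_charSys_iff.2 ⟨invC_self P R f a k h1 ha hR, fun D hD hg =>
      hD P R f a k (h2 D hD hg) ha hR⟩
  have hconj : ∀ P Q, QT F T P → F.IsConj P Q → QT F T Q := fun P Q hP hPQ => h.qt_conj hP hPQ
  refine ⟨charSys_sub, hI, h.qt_self h.le le_rfl, hconj, ?_, ?_, ?_, ?_⟩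
  · refine gen_of_inv charSys_sub hI (QT F T) hconj fun D hD hg P f hf => ?_
    exact (mp_charSys_iff.1 hf).2 D hD fun P f hP hf hk => hg P f hP (mp_of_ke hP hf hk)
  · intro P hP a ha
    have haF := ha.mem
    obtain ⟨κ, hκ, h1⟩ := h.ke_of_mp (ha.mp_of_id le_rfl hI)
    obtain ⟨b, hb, hab⟩ := h.exists_res (mp_ac le_rfl haF)
    have h2 : Fr E F (P ⊓ T) (ac a) b := (Fr.of_aut hb inf_le_right).congr fun x hx => hab x hx.2
    have h3 := h.mem_K_of_fr hP.2 (h2.div h.le h.sub h.inv h1)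
    have h4 : b ∈ K := by
      have := mul_mem hκ h3
      rwa [mul_inv_cancel_left] at this
    apply mem_of_mp_ac
    exact mp_of_ke (h.qt_self h.le le_rfl) (mp_ac le_rfl haF)
      ⟨b, h4, (Fr.of_aut hb inf_le_right).congr fun x hx => hab x hx.2⟩
  · rintro R hRn hRc hR _ α hα ⟨n, hn⟩
    refine mp_of_ke hR (mp_ac hRn.1 hα) ?_
    have hRT : R ⊓ T ≤ T := inf_le_right
    have hαm := mp_ac (F := F) hRn.1 hα
    obtain ⟨δ, hδ⟩ := h.fr hRT (hαm.res inf_le_left)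
    refine ⟨δ, ?_, hδ⟩
    have h1 := h.fr_pow hRT inf_le_left (fun x hx => ⟨ac_mem _ hx.1, h.ac_mem_T hαm hx⟩) hδ (p ^ n)
    rw [hn] at h1
    have h2 := h.mem_K_of_fr hR.2 (h1.congr fun x hx => (ac_one hx.1).symm)
    exact h.hKp δ hδ.mem n h2
  · intro R _ hRc hR
    exact not_radical_of_not_tc h.hS hF h.sc hRc fun h1 => hR ⟨hRc.1, h1⟩

/-- The automorphisms of `S` in the subsystem. -/
theorem mp_S_iff [Fact p.Prime] (h : CharData p E F K) {a : Ω → Ω} :
    Mp (charSys E F K) S a ↔ Mp F S a ∧ ∃ κ ∈ K, ∀ x ∈ T, a x = ac κ x := by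
  constructor
  · intro ha
    refine ⟨mp_mono charSys_sub ha, ?_⟩
    obtain ⟨κ, hκ, -, f₀, hf₀, h1⟩ := h.ke_of_mp ha
    have hST : S ⊓ T = T := inf_eq_right.2 h.le
    rw [hST] at hf₀ h1
    have : Finite T := H802.finite_of_le h.le
    obtain ⟨ε, hε, h2⟩ := exists_ac hf₀ fun x hx => hf₀.mem hx
    exact ⟨κ * ε, mul_mem hκ (h.hEK hε), fun x hx => by rw [h1 x hx, h2 x hx, ac_mul _ _ hx]⟩
  · rintro ⟨ha, κ, hκ, h1⟩
    exact mp_of_ke (h.qt_self h.le le_rfl) ha ⟨κ, hκ, (Fr.of_aut (h.hK hκ) inf_le_right).congr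
      fun x hx => h1 x hx.2⟩

/-- The automorphisms of `T` in the subsystem. -/
theorem autGroup_T [Fact p.Prime] (h : CharData p E F K) : (charSys E F K).autGroup T = K := by
  have : Finite T := H802.finite_of_le h.le
  ext α
  constructor
  · intro hα
    obtain ⟨κ, hκ, -, f₀, hf₀, h1⟩ := h.ke_of_mp (mp_ac h.le hα)
    have hST : T ⊓ T = T := inf_idem T
    rw [hST] at hf₀ h1
    obtain ⟨ε, hε, h2⟩ := exists_ac hf₀ fun x hx => hf₀.mem hx
    have h3 : α = κ * ε := by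
      ext x
      rw [← ac_apply _ x.2, ← ac_apply _ x.2, h1 x x.2, h2 x x.2, ac_mul _ _ x.2]
    rw [h3]
    exact mul_mem hκ (h.hEK hε)
  · intro hα
    apply mem_of_mp_ac
    exact mp_of_ke (h.qt_self le_rfl h.le) (mp_ac h.le (h.hK hα))
      ⟨α, hα, Fr.of_aut (h.hK hα) inf_le_right⟩

/-- `E` is contained in the subsystem. -/
theorem E_sub [Fact p.Prime] (h : CharData p E F K) : E.IsSubsystemOf (charSys E F K) := by
  have hfT : Finite T := H802.finite_of_le h.le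
  let D : FusionSystem T := subSys F T (fun P f => Mp (charSys E F K) P f ∧ P ≤ T ∧ ∀ x ∈ P, f x ∈ T)
    (fun P f g _ h1 he => ⟨h1.1.congr he, h1.2.1, fun x hx => by rw [he x hx]; exact h1.2.2 x hx⟩)
    (fun P f _ h1 => h1.2)
    (fun P hP s hs => ⟨mp_conj F (hP.trans h.le) (h.le hs), mp_conj _ (hP.trans h.le) (h.le hs), hP,
      fun x hx => T.mul_mem (T.mul_mem hs (hP hx)) (T.inv_mem hs)⟩)
    (fun P Q f g _ _ h1 h2 hPQ => ⟨h1.1.comp h2.1 hPQ, h1.2.1, fun x hx => h2.2.2 _ (hPQ x hx)⟩)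
    (fun P R f g _ h1 _ hinv _ => ⟨h1.1.symm hinv, fun y hy => by
        obtain ⟨x, hx, rfl, -⟩ := hinv y hy
        exact h1.2.2 x hx, fun y hy => by
        obtain ⟨x, hx, -, h2⟩ := hinv y hy
        rw [h2]; exact h1.2.1 hx⟩)
  have hED : ∀ P, E.Hom P ⊆ D.Hom P := by
    intro P
    refine H802.le_of_centric (h.hS.to_le h.le) h.hE.1 D (fun Q hQn hQc _ α hα => ?_) P
    apply mem_of_mp_ac
    have hQT := hQn.1
    have hm : Mp E Q (ac α) := mp_ac hQT hα
    have hQI : Q ⊓ T = Q := inf_eq_left.2 hQT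
    refine mp_subSys_iff.2 ⟨mp_mono h.sub hm, mp_of_ke ?_ (mp_mono h.sub hm) ?_, hQT,
      fun x hx => hQT (ac_mem _ hx)⟩
    · refine ⟨hQT.trans h.le, ?_⟩
      rw [hQI]
      exact (isCentric_iff_tc h.hE.2.2).1 hQc
    · refine ⟨1, one_mem _, ?_⟩
      rw [hQI]
      exact Fr.one hm
  refine isSubsystemOf_of_mp fun P f hf => ?_
  obtain ⟨φ, hφ, h1⟩ := hf
  have h2 : Mp D P f := ⟨φ, hED P hφ, h1⟩
  exact (mp_subSys_iff.1 h2).2.1

end CharData

end Cfsg.Agent.H770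
end
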