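import Cfsg.Agent.CpAutMSeven.Mat
import Cfsg.Agent.LThreeCo1.Ev
import Cfsg.Agent.CoOneType.CoQZ
import Cfsg.Agent.CoOneType.CoW
import Cfsg.Agent.H772.PearlChar
import Mathlib
import Cfsg.Prelude.Def_Classification2
import Cfsg.Prelude.Def_LieTypeChar
import Cfsg.Agent.S0243
import Cfsg.Agent.S0245
import Cfsg.Agent.S0246
import Cfsg.Agent.S0280
import Cfsg.Agent.S0292
import Cfsg.Agent.S0293
import Cfsg.Agent.S0294
import Cfsg.Agent.H603.SporElim
import Cfsg.Agent.FastGrp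
import Cfsg.Agent.Prune
set_option linter.all false

-- part: H770/MonSevMat
section
prune_inst 0x7f00000000000000000000000000000000000000000000000000000000000000000000000000000000000000000000000000000000000000000000000000000000000000000000000000000000000000003fffffffffffffffffffffffffffbeffbdffffffff
set_option linter.all false
open scoped Cfsg.Agent.FastGrp

/-!
# `(7:3) x (7:3)` in `Co0` (helper770)

`r7` (cycle type `1^3 7^3`), `w = r7^3 * w0` (matrix), and two permutations `s`, `t` of order 3 of `M24` with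
`s r s⁻¹ = r²`, `s w s⁻¹ = w`, `t w t⁻¹ = w²`, `t r t⁻¹ = r`.
-/

set_option autoImplicit false
set_option maxRecDepth 100000

namespace Cfsg.Agent.H770.MonSevMat

open Cfsg Cfsg.Agent.SporadicStructure.Co0Matrix Cfsg.Agent.CoOneType.CoEval
open Cfsg.Agent.LThreeCo1.Ev

/-- matrix -/
def mR : List (List ℤ) := [
  [8, 0, 0, 0, 0, 0, 0, 0, 0, 0, 0, 0, 0, 0, 0, 0, 0, 0, 0, 0, 0, 0, 0, 0],
  [0, 8, 0, 0, 0, 0, 0, 0, 0, 0, 0, 0, 0, 0, 0, 0, 0, 0, 0, 0, 0, 0, 0, 0],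
  [0, 0, 0, 0, 0, 0, 0, 0, 0, 0, 0, 8, 0, 0, 0, 0, 0, 0, 0, 0, 0, 0, 0, 0],
  [0, 0, 0, 0, 0, 8, 0, 0, 0, 0, 0, 0, 0, 0, 0, 0, 0, 0, 0, 0, 0, 0, 0, 0],
  [0, 0, 0, 0, 0, 0, 0, 0, 0, 0, 8, 0, 0, 0, 0, 0, 0, 0, 0, 0, 0, 0, 0, 0],
  [0, 0, 0, 0, 0, 0, 0, 0, 0, 0, 0, 0, 0, 0, 0, 0, 0, 0, 0, 0, 0, 0, 0, 8],
  [0, 0, 0, 0, 0, 0, 0, 0, 0, 0, 0, 0, 0, 0, 0, 0, 8, 0, 0, 0, 0, 0, 0, 0],
  [0, 0, 0, 8, 0, 0, 0, 0, 0, 0, 0, 0, 0, 0, 0, 0, 0, 0, 0, 0, 0, 0, 0, 0],
  [0, 0, 0, 0, 0, 0, 0, 0, 8, 0, 0, 0, 0, 0, 0, 0, 0, 0, 0, 0, 0, 0, 0, 0],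
  [0, 0, 0, 0, 0, 0, 0, 8, 0, 0, 0, 0, 0, 0, 0, 0, 0, 0, 0, 0, 0, 0, 0, 0],
  [0, 0, 0, 0, 0, 0, 0, 0, 0, 0, 0, 0, 0, 0, 0, 0, 0, 0, 8, 0, 0, 0, 0, 0],
  [0, 0, 0, 0, 0, 0, 0, 0, 0, 0, 0, 0, 0, 0, 0, 0, 0, 0, 0, 0, 8, 0, 0, 0],
  [0, 0, 0, 0, 0, 0, 0, 0, 0, 0, 0, 0, 0, 0, 0, 8, 0, 0, 0, 0, 0, 0, 0, 0],
  [0, 0, 0, 0, 0, 0, 0, 0, 0, 0, 0, 0, 0, 0, 8, 0, 0, 0, 0, 0, 0, 0, 0, 0],
  [0, 0, 0, 0, 0, 0, 0, 0, 0, 8, 0, 0, 0, 0, 0, 0, 0, 0, 0, 0, 0, 0, 0, 0],
  [0, 0, 0, 0, 0, 0, 8, 0, 0, 0, 0, 0, 0, 0, 0, 0, 0, 0, 0, 0, 0, 0, 0, 0],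
  [0, 0, 0, 0, 0, 0, 0, 0, 0, 0, 0, 0, 0, 0, 0, 0, 0, 0, 0, 8, 0, 0, 0, 0],
  [0, 0, 0, 0, 0, 0, 0, 0, 0, 0, 0, 0, 0, 0, 0, 0, 0, 0, 0, 0, 0, 8, 0, 0],
  [0, 0, 0, 0, 0, 0, 0, 0, 0, 0, 0, 0, 0, 0, 0, 0, 0, 0, 0, 0, 0, 0, 8, 0],
  [0, 0, 0, 0, 0, 0, 0, 0, 0, 0, 0, 0, 0, 0, 0, 0, 0, 8, 0, 0, 0, 0, 0, 0],
  [0, 0, 0, 0, 8, 0, 0, 0, 0, 0, 0, 0, 0, 0, 0, 0, 0, 0, 0, 0, 0, 0, 0, 0],
  [0, 0, 0, 0, 0, 0, 0, 0, 0, 0, 0, 0, 8, 0, 0, 0, 0, 0, 0, 0, 0, 0, 0, 0],
  [0, 0, 8, 0, 0, 0, 0, 0, 0, 0, 0, 0, 0, 0, 0, 0, 0, 0, 0, 0, 0, 0, 0, 0],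
  [0, 0, 0, 0, 0, 0, 0, 0, 0, 0, 0, 0, 0, 8, 0, 0, 0, 0, 0, 0, 0, 0, 0, 0]]

/-- matrix -/
def mW : List (List ℤ) := [
  [-4, -2, -2, 0, -2, 0, 0, 0, 4, 0, -2, -2, 0, 0, 0, 0, 0, 0, -2, 0, -2, 0, -2, 0],
  [-4, 2, 2, 0, 2, 0, 0, 0, 4, 0, 2, 2, 0, 0, 0, 0, 0, 0, 2, 0, 2, 0, 2, 0],
  [0, -2, 2, 4, -2, 0, 0, 0, 0, 0, 2, 2, 0, 0, 0, 0, 0, -4, -2, 0, 2, 0, -2, 0],
  [-2, 0, 0, -2, 0, 2, 2, -2, -2, -2, 0, 0, 2, -2, 2, -2, -2, -2, 0, -2, 0, 2, 0, 2],
  [0, -2, 2, 0, 2, 0, 0, 0, 0, 0, 2, -2, 0, 4, 0, -4, 0, 0, 2, 0, -2, 0, -2, 0],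
  [-2, 0, 0, -2, 0, -2, -2, -2, -2, 2, 0, 0, 2, 2, -2, 2, 2, -2, 0, -2, 0, -2, 0, 2],
  [0, 2, 2, 0, 2, 0, -4, 0, 0, 0, -2, -2, 0, 0, 4, 0, 0, 0, -2, 0, 2, 0, -2, 0],
  [-2, 0, 0, 2, 0, 2, -2, -2, -2, -2, 0, 0, -2, 2, -2, 2, -2, 2, 0, -2, 0, 2, 0, -2],
  [-2, 0, 0, 2, 0, 2, 2, 2, -2, 2, 0, 0, 2, 2, 2, 2, 2, 2, 0, 2, 0, 2, 0, 2],
  [-2, 0, 0, 2, 0, -2, -2, 2, -2, -2, 0, 0, 2, -2, -2, -2, -2, 2, 0, 2, 0, -2, 0, 2],
  [0, -2, -2, 0, -2, 0, -4, 0, 0, 0, 2, 2, 0, 0, 4, 0, 0, 0, 2, 0, -2, 0, 2, 0],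
  [0, -2, -2, 0, 2, 4, 0, 0, 0, 0, -2, 2, 0, 0, 0, 0, 0, 0, 2, 0, 2, -4, -2, 0],
  [0, 2, 2, 0, -2, 0, 0, 0, 0, 0, -2, 2, -4, 0, 0, 0, 0, 0, 2, 0, -2, 0, -2, 4],
  [-2, 0, 0, 2, 0, -2, 2, -2, -2, 2, 0, 0, -2, -2, 2, -2, 2, 2, 0, -2, 0, -2, 0, -2],
  [-2, 0, 0, -2, 0, 2, -2, 2, -2, 2, 0, 0, -2, -2, -2, -2, 2, -2, 0, 2, 0, 2, 0, -2],
  [0, 2, -2, 0, -2, 0, 0, 0, 0, 0, -2, 2, 0, 4, 0, -4, 0, 0, -2, 0, 2, 0, 2, 0],
  [0, 2, -2, 0, 2, 0, 0, 0, 0, 4, 2, 2, 0, 0, 0, 0, -4, 0, -2, 0, -2, 0, -2, 0],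
  [0, 2, -2, 4, 2, 0, 0, 0, 0, 0, -2, -2, 0, 0, 0, 0, 0, -4, 2, 0, -2, 0, 2, 0],
  [0, -2, 2, 0, -2, 0, 0, 0, 0, 4, -2, -2, 0, 0, 0, 0, -4, 0, 2, 0, 2, 0, 2, 0],
  [0, 2, -2, 0, -2, 0, 0, 4, 0, 0, 2, -2, 0, 0, 0, 0, 0, 0, 2, -4, 2, 0, -2, 0],
  [0, -2, -2, 0, 2, 0, 0, 0, 0, 0, 2, -2, -4, 0, 0, 0, 0, 0, -2, 0, 2, 0, 2, 4],
  [0, 2, 2, 0, -2, 4, 0, 0, 0, 0, 2, -2, 0, 0, 0, 0, 0, 0, -2, 0, -2, -4, 2, 0],
  [0, -2, 2, 0, 2, 0, 0, 4, 0, 0, -2, 2, 0, 0, 0, 0, 0, 0, -2, -4, -2, 0, 2, 0],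
  [-2, 0, 0, -2, 0, -2, 2, 2, -2, -2, 0, 0, -2, 2, 2, 2, -2, -2, 0, 2, 0, -2, 0, -2]]

/-- matrix -/
def mS : List (List ℤ) := [
  [8, 0, 0, 0, 0, 0, 0, 0, 0, 0, 0, 0, 0, 0, 0, 0, 0, 0, 0, 0, 0, 0, 0, 0],
  [0, 8, 0, 0, 0, 0, 0, 0, 0, 0, 0, 0, 0, 0, 0, 0, 0, 0, 0, 0, 0, 0, 0, 0],
  [0, 0, 8, 0, 0, 0, 0, 0, 0, 0, 0, 0, 0, 0, 0, 0, 0, 0, 0, 0, 0, 0, 0, 0],
  [0, 0, 0, 8, 0, 0, 0, 0, 0, 0, 0, 0, 0, 0, 0, 0, 0, 0, 0, 0, 0, 0, 0, 0],
  [0, 0, 0, 0, 0, 0, 0, 0, 0, 0, 0, 0, 0, 0, 0, 0, 0, 0, 8, 0, 0, 0, 0, 0],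
  [0, 0, 0, 0, 0, 0, 0, 0, 0, 0, 0, 0, 0, 0, 8, 0, 0, 0, 0, 0, 0, 0, 0, 0],
  [0, 0, 0, 0, 0, 0, 0, 0, 0, 0, 0, 0, 8, 0, 0, 0, 0, 0, 0, 0, 0, 0, 0, 0],
  [0, 0, 0, 0, 0, 0, 0, 0, 0, 0, 0, 0, 0, 8, 0, 0, 0, 0, 0, 0, 0, 0, 0, 0],
  [0, 0, 0, 0, 0, 0, 0, 0, 8, 0, 0, 0, 0, 0, 0, 0, 0, 0, 0, 0, 0, 0, 0, 0],
  [0, 0, 0, 0, 0, 0, 0, 8, 0, 0, 0, 0, 0, 0, 0, 0, 0, 0, 0, 0, 0, 0, 0, 0],
  [0, 0, 0, 0, 0, 0, 0, 0, 0, 0, 0, 0, 0, 0, 0, 0, 0, 0, 0, 0, 8, 0, 0, 0],
  [0, 0, 0, 0, 0, 0, 0, 0, 0, 0, 8, 0, 0, 0, 0, 0, 0, 0, 0, 0, 0, 0, 0, 0],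
  [0, 0, 0, 0, 0, 0, 0, 0, 0, 0, 0, 0, 0, 0, 0, 0, 0, 0, 0, 0, 0, 8, 0, 0],
  [0, 0, 0, 0, 0, 0, 0, 0, 0, 8, 0, 0, 0, 0, 0, 0, 0, 0, 0, 0, 0, 0, 0, 0],
  [0, 0, 0, 0, 0, 0, 0, 0, 0, 0, 0, 0, 0, 0, 0, 0, 0, 0, 0, 0, 0, 0, 0, 8],
  [0, 0, 0, 0, 0, 0, 0, 0, 0, 0, 0, 0, 0, 0, 0, 0, 8, 0, 0, 0, 0, 0, 0, 0],
  [0, 0, 0, 0, 0, 0, 0, 0, 0, 0, 0, 0, 0, 0, 0, 0, 0, 0, 0, 8, 0, 0, 0, 0],
  [0, 0, 0, 0, 0, 0, 0, 0, 0, 0, 0, 0, 0, 0, 0, 0, 0, 8, 0, 0, 0, 0, 0, 0],
  [0, 0, 0, 0, 0, 0, 0, 0, 0, 0, 0, 0, 0, 0, 0, 0, 0, 0, 0, 0, 0, 0, 8, 0],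
  [0, 0, 0, 0, 0, 0, 0, 0, 0, 0, 0, 0, 0, 0, 0, 8, 0, 0, 0, 0, 0, 0, 0, 0],
  [0, 0, 0, 0, 0, 0, 0, 0, 0, 0, 0, 8, 0, 0, 0, 0, 0, 0, 0, 0, 0, 0, 0, 0],
  [0, 0, 0, 0, 0, 0, 8, 0, 0, 0, 0, 0, 0, 0, 0, 0, 0, 0, 0, 0, 0, 0, 0, 0],
  [0, 0, 0, 0, 8, 0, 0, 0, 0, 0, 0, 0, 0, 0, 0, 0, 0, 0, 0, 0, 0, 0, 0, 0],
  [0, 0, 0, 0, 0, 8, 0, 0, 0, 0, 0, 0, 0, 0, 0, 0, 0, 0, 0, 0, 0, 0, 0, 0]]

/-- matrix -/
def mT : List (List ℤ) := [
  [0, 8, 0, 0, 0, 0, 0, 0, 0, 0, 0, 0, 0, 0, 0, 0, 0, 0, 0, 0, 0, 0, 0, 0],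
  [0, 0, 0, 0, 0, 0, 0, 0, 8, 0, 0, 0, 0, 0, 0, 0, 0, 0, 0, 0, 0, 0, 0, 0],
  [0, 0, 0, 8, 0, 0, 0, 0, 0, 0, 0, 0, 0, 0, 0, 0, 0, 0, 0, 0, 0, 0, 0, 0],
  [0, 0, 0, 0, 0, 0, 0, 0, 0, 0, 0, 0, 0, 0, 0, 0, 0, 8, 0, 0, 0, 0, 0, 0],
  [0, 0, 0, 0, 0, 0, 0, 0, 0, 0, 0, 0, 0, 8, 0, 0, 0, 0, 0, 0, 0, 0, 0, 0],
  [0, 0, 0, 0, 0, 0, 0, 0, 0, 0, 0, 0, 0, 0, 0, 0, 0, 0, 0, 0, 0, 8, 0, 0],
  [0, 0, 0, 0, 0, 0, 0, 0, 0, 0, 8, 0, 0, 0, 0, 0, 0, 0, 0, 0, 0, 0, 0, 0],
  [0, 0, 0, 0, 0, 0, 0, 0, 0, 0, 0, 0, 0, 0, 0, 0, 0, 0, 0, 8, 0, 0, 0, 0],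
  [8, 0, 0, 0, 0, 0, 0, 0, 0, 0, 0, 0, 0, 0, 0, 0, 0, 0, 0, 0, 0, 0, 0, 0],
  [0, 0, 0, 0, 0, 0, 0, 0, 0, 0, 0, 0, 0, 0, 0, 0, 8, 0, 0, 0, 0, 0, 0, 0],
  [0, 0, 0, 0, 0, 0, 0, 0, 0, 0, 0, 0, 0, 0, 8, 0, 0, 0, 0, 0, 0, 0, 0, 0],
  [0, 0, 0, 0, 0, 8, 0, 0, 0, 0, 0, 0, 0, 0, 0, 0, 0, 0, 0, 0, 0, 0, 0, 0],
  [0, 0, 0, 0, 0, 0, 0, 0, 0, 0, 0, 0, 0, 0, 0, 0, 0, 0, 0, 0, 8, 0, 0, 0],
  [0, 0, 0, 0, 0, 0, 0, 0, 0, 0, 0, 0, 0, 0, 0, 8, 0, 0, 0, 0, 0, 0, 0, 0],
  [0, 0, 0, 0, 0, 0, 8, 0, 0, 0, 0, 0, 0, 0, 0, 0, 0, 0, 0, 0, 0, 0, 0, 0],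
  [0, 0, 0, 0, 8, 0, 0, 0, 0, 0, 0, 0, 0, 0, 0, 0, 0, 0, 0, 0, 0, 0, 0, 0],
  [0, 0, 0, 0, 0, 0, 0, 0, 0, 0, 0, 0, 0, 0, 0, 0, 0, 0, 8, 0, 0, 0, 0, 0],
  [0, 0, 8, 0, 0, 0, 0, 0, 0, 0, 0, 0, 0, 0, 0, 0, 0, 0, 0, 0, 0, 0, 0, 0],
  [0, 0, 0, 0, 0, 0, 0, 0, 0, 8, 0, 0, 0, 0, 0, 0, 0, 0, 0, 0, 0, 0, 0, 0],
  [0, 0, 0, 0, 0, 0, 0, 0, 0, 0, 0, 0, 0, 0, 0, 0, 0, 0, 0, 0, 0, 0, 8, 0],
  [0, 0, 0, 0, 0, 0, 0, 0, 0, 0, 0, 0, 0, 0, 0, 0, 0, 0, 0, 0, 0, 0, 0, 8],
  [0, 0, 0, 0, 0, 0, 0, 0, 0, 0, 0, 8, 0, 0, 0, 0, 0, 0, 0, 0, 0, 0, 0, 0],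
  [0, 0, 0, 0, 0, 0, 0, 8, 0, 0, 0, 0, 0, 0, 0, 0, 0, 0, 0, 0, 0, 0, 0, 0],
  [0, 0, 0, 0, 0, 0, 0, 0, 0, 0, 0, 0, 8, 0, 0, 0, 0, 0, 0, 0, 0, 0, 0, 0]]

theorem okR : Ok mR (tr mR) := Cfsg.Agent.CoOneType.CoFast.ok_of_okZ (by exact Cfsg.Agent.CoOneType.CoQ.okz_of (by decide +kernel))

theorem okW : Ok mW (tr mW) := Cfsg.Agent.CoOneType.CoFast.ok_of_okZ (by exact Cfsg.Agent.CoOneType.CoQ.okz_of (by decide +kernel))

theorem okS : Ok mS (tr mS) := Cfsg.Agent.CoOneType.CoFast.ok_of_okZ (by exact Cfsg.Agent.CoOneType.CoQ.okz_of (by decide +kernel))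

theorem okT : Ok mT (tr mT) := Cfsg.Agent.CoOneType.CoFast.ok_of_okZ (by exact Cfsg.Agent.CoOneType.CoQ.okz_of (by decide +kernel))

/-- the matrices -/
def M : ℕ → List (List ℤ)
  | 0 => mR
  | 1 => mW
  | 2 => mS
  | _ => mT

/-- the elements -/
def e : ℕ → Co0
  | 0 => mk okR
  | 1 => mk okW
  | 2 => mk okS
  | _ => mk okT

theorem rep : ∀ i, Rep (e i) (M i)
  | 0 => rep_mk okR
  | 1 => rep_mk okW
  | 2 => rep_mk okS
  | _ + 3 => rep_mk okT

/-- `r` -/
def r : Co0 := mk okR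
/-- `w` -/
def w : Co0 := mk okW
/-- `s` -/
def s : Co0 := mk okS
/-- `t` -/
def t : Co0 := mk okT

theorem r_pow : r ^ 7 = 1 := by
  have h := eq_of_eqB rep (w := [0, 0, 0, 0, 0, 0, 0]) (w' := []) (by (delta Cfsg.Agent.LThreeCo1.Ev.eqB; rewrite [Cfsg.Agent.CoOneType.CoW.of_eq Cfsg.Agent.LThreeCo1.Ev.foldZ_eq]; decide +kernel))
  simp only [List.map_cons, List.map_nil, List.prod_cons, List.prod_nil, mul_one] at h
  rw [← h]
  change r ^ 7 = r * (r * (r * (r * (r * (r * r)))))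
  simp only [pow_succ, pow_zero, one_mul, mul_assoc]

theorem w_pow : w ^ 7 = 1 := by
  have h := eq_of_eqB rep (w := [1, 1, 1, 1, 1, 1, 1]) (w' := []) (by (delta Cfsg.Agent.LThreeCo1.Ev.eqB; rewrite [Cfsg.Agent.CoOneType.CoW.of_eq Cfsg.Agent.LThreeCo1.Ev.foldZ_eq]; decide +kernel))
  simp only [List.map_cons, List.map_nil, List.prod_cons, List.prod_nil, mul_one] at h
  rw [← h]
  change w ^ 7 = w * (w * (w * (w * (w * (w * w)))))
  simp only [pow_succ, pow_zero, one_mul, mul_assoc]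

theorem s_pow : s ^ 3 = 1 := by
  have h := eq_of_eqB rep (w := [2, 2, 2]) (w' := []) (by (delta Cfsg.Agent.LThreeCo1.Ev.eqB; rewrite [Cfsg.Agent.CoOneType.CoW.of_eq Cfsg.Agent.LThreeCo1.Ev.foldZ_eq]; decide +kernel))
  simp only [List.map_cons, List.map_nil, List.prod_cons, List.prod_nil, mul_one] at h
  rw [← h]
  change s ^ 3 = s * (s * s)
  simp only [pow_succ, pow_zero, one_mul, mul_assoc]

theorem t_pow : t ^ 3 = 1 := by
  have h := eq_of_eqB rep (w := [3, 3, 3]) (w' := []) (by (delta Cfsg.Agent.LThreeCo1.Ev.eqB; rewrite [Cfsg.Agent.CoOneType.CoW.of_eq Cfsg.Agent.LThreeCo1.Ev.foldZ_eq]; decide +kernel))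
  simp only [List.map_cons, List.map_nil, List.prod_cons, List.prod_nil, mul_one] at h
  rw [← h]
  change t ^ 3 = t * (t * t)
  simp only [pow_succ, pow_zero, one_mul, mul_assoc]

theorem rw_comm : r * w = w * r := by
  have h := eq_of_eqB rep (w := [0, 1]) (w' := [1, 0]) (by (delta Cfsg.Agent.LThreeCo1.Ev.eqB; rewrite [Cfsg.Agent.CoOneType.CoW.of_eq Cfsg.Agent.LThreeCo1.Ev.foldZ_eq]; decide +kernel))
  simp only [List.map_cons, List.map_nil, List.prod_cons, List.prod_nil, mul_one] at h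
  exact h

theorem st_comm : s * t = t * s := by
  have h := eq_of_eqB rep (w := [2, 3]) (w' := [3, 2]) (by (delta Cfsg.Agent.LThreeCo1.Ev.eqB; rewrite [Cfsg.Agent.CoOneType.CoW.of_eq Cfsg.Agent.LThreeCo1.Ev.foldZ_eq]; decide +kernel))
  simp only [List.map_cons, List.map_nil, List.prod_cons, List.prod_nil, mul_one] at h
  exact h

theorem sr : s * r = r * r * s := by
  have h := eq_of_eqB rep (w := [2, 0]) (w' := [0, 0, 2]) (by (delta Cfsg.Agent.LThreeCo1.Ev.eqB; rewrite [Cfsg.Agent.CoOneType.CoW.of_eq Cfsg.Agent.LThreeCo1.Ev.foldZ_eq]; decide +kernel))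
  simp only [List.map_cons, List.map_nil, List.prod_cons, List.prod_nil, mul_one] at h
  rw [mul_assoc]
  exact h

theorem sw : s * w = w * s := by
  have h := eq_of_eqB rep (w := [2, 1]) (w' := [1, 2]) (by (delta Cfsg.Agent.LThreeCo1.Ev.eqB; rewrite [Cfsg.Agent.CoOneType.CoW.of_eq Cfsg.Agent.LThreeCo1.Ev.foldZ_eq]; decide +kernel))
  simp only [List.map_cons, List.map_nil, List.prod_cons, List.prod_nil, mul_one] at h
  exact h

theorem tw : t * w = w * w * t := by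
  have h := eq_of_eqB rep (w := [3, 1]) (w' := [1, 1, 3]) (by (delta Cfsg.Agent.LThreeCo1.Ev.eqB; rewrite [Cfsg.Agent.CoOneType.CoW.of_eq Cfsg.Agent.LThreeCo1.Ev.foldZ_eq]; decide +kernel))
  simp only [List.map_cons, List.map_nil, List.prod_cons, List.prod_nil, mul_one] at h
  rw [mul_assoc]
  exact h

theorem tr_comm : t * r = r * t := by
  have h := eq_of_eqB rep (w := [3, 0]) (w' := [0, 3]) (by (delta Cfsg.Agent.LThreeCo1.Ev.eqB; rewrite [Cfsg.Agent.CoOneType.CoW.of_eq Cfsg.Agent.LThreeCo1.Ev.foldZ_eq]; decide +kernel))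
  simp only [List.map_cons, List.map_nil, List.prod_cons, List.prod_nil, mul_one] at h
  exact h

end Cfsg.Agent.H770.MonSevMat
end

-- part: H772/PearlMain
section
set_option linter.all false

-- part: H772/PearlTorus
section
/-!
# No element of order 3 acts as `diag(2, 1)` and another as `diag(1, 2)` on a subgroup of order 49 (helper772)
-/

set_option autoImplicit false

namespace Cfsg.Agent.H772.Pearl

open Subgroup Cfsg Cfsg.FusionSystem Cfsg.Agent.H802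

universe u v

variable {X : Type u} [Group X] {D : Data X} {G : Type v} [Group G]

namespace Data

theorem pt_zero : D.pt 0 0 = 1 := by
  apply Subtype.ext
  rw [D.coe_pt, ZMod.val_zero, pow_zero, pow_zero, one_mul]
  rfl

theorem pt_pow (i j : ZMod 7) (n : ℕ) : D.pt i j ^ n = D.pt (n * i) (n * j) := by
  induction n with
  | zero => rw [pow_zero, Nat.cast_zero, zero_mul, zero_mul, pt_zero]
  | succ n ih =>
    rw [pow_succ, ih, D.pt_mul]
    congr 1 <;> push_cast <;> ring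

/-- automorphisms inner up to a power of `τ` -/
def Typ (D : Data X) (j : ℕ) (θ : MulAut X) : Prop := ∃ v, θ = MulAut.conj v * D.τ ^ j

theorem Typ.mul {i j : ℕ} {θ η : MulAut X} (h : D.Typ i θ) (h' : D.Typ j η) : D.Typ (i + j) (θ * η) := by
  obtain ⟨v, rfl⟩ := h
  obtain ⟨w, rfl⟩ := h'
  refine ⟨v * (D.τ ^ i) w, ?_⟩
  rw [map_mul, pow_add]
  apply MulEquiv.ext
  intro y
  simp only [MulAut.mul_apply, MulAut.conj_apply, map_mul, map_inv]

theorem typ_false {j : ℕ} (hj : 3 ∣ j) {θ : MulAut X} (h : D.Typ j θ) {a : X} (ha7 : a ^ 7 = 1) (ha1 : a ≠ 1)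
    (ha : θ a = a ^ 2) : False := by
  have h1 := h.mul h
  obtain ⟨w, hw⟩ := h1
  have h2 : D.τ ^ (j + j) = 1 := by
    obtain ⟨k, rfl⟩ := hj
    have : 3 * k + 3 * k = 6 * k := by ring
    rw [this, pow_mul, D.τ6, one_pow]
  rw [h2, mul_one] at hw
  have h3 : w * a * w⁻¹ = a ^ 4 := by
    have h4 := congrArg (fun f : MulAut X => f a) hw
    simp only [MulAut.mul_apply, MulAut.conj_apply] at h4
    rw [← h4, ha, map_pow, ha, ← pow_mul]
  have h5 : ∀ n : ℕ, w ^ n * a * (w ^ n)⁻¹ = a ^ 4 ^ n := by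
    intro n
    induction n with
    | zero => simp
    | succ n ih =>
      have : w ^ (n + 1) * a * (w ^ (n + 1))⁻¹ = w * (w ^ n * a * (w ^ n)⁻¹) * w⁻¹ := by
        rw [pow_succ']
        group
      rw [this, ih, ← conj_pow, h3, ← pow_mul, pow_succ, mul_comm]
  obtain ⟨k, hk⟩ := D.isPGroup w
  have h6 := h5 (7 ^ k)
  rw [hk, one_mul, inv_one, mul_one] at h6
  have h7 : ∀ k : ℕ, 4 ^ 7 ^ k % 7 = 4 := by
    intro k
    induction k with
    | zero => norm_num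
    | succ k ih =>
      rw [pow_succ, pow_mul, Nat.pow_mod, ih]
  have h8 : a ^ 4 ^ 7 ^ k = a ^ 4 := by
    rw [pow_eq_pow_mod _ ha7, h7]
  rw [h8] at h6
  have h9 : a ^ 3 = 1 := by
    have : a ^ 3 * a = 1 * a := by rw [one_mul, ← pow_succ, ← h6]
    exact mul_right_cancel this
  apply ha1
  have : a ^ 7 = (a ^ 3) ^ 2 * a := by group
  rw [this, h9, one_pow, one_mul] at ha7
  exact ha7

end Data

namespace Real

variable {ι : X →* G} (R : Real D ι)

include R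

theorem no_torus [Finite G] {a b s t : G} (ha7 : a ^ 7 = 1) (hb7 : b ^ 7 = 1) (ha1 : a ≠ 1) (hb1 : b ≠ 1)
    (hab : a * b = b * a) (hne : a ∉ zpowers b) (hsa : s * a * s⁻¹ = a ^ 2) (hsb : s * b * s⁻¹ = b)
    (htb : t * b * t⁻¹ = b ^ 2) (hta : t * a * t⁻¹ = a) : False := by
  classical
  have hfin := D.finite
  -- conjugation into the image
  have hW : IsPGroup 7 (closure ({a, b} : Set G)) := by
    have h1 : IsPGroup 7 (zpowers a ⊔ zpowers b : Subgroup G) := by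
      refine IsPGroup.to_sup_of_normal_right' ?_ ?_ ?_
      · exact IsPGroup.of_card (n := 1) (by rw [Nat.card_zpowers, pow_one]; exact orderOf_eq_prime ha7 ha1)
      · exact IsPGroup.of_card (n := 1) (by rw [Nat.card_zpowers, pow_one]; exact orderOf_eq_prime hb7 hb1)
      · rw [zpowers_le]
        refine (centralizer_le_normalizer (G := G) (s := (zpowers b : Set G))) ?_
        rw [mem_centralizer_iff]
        rintro _ ⟨k, rfl⟩
        exact ((show Commute b a from hab.symm).zpow_left k).eq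
    have h2 : closure ({a, b} : Set G) = zpowers a ⊔ zpowers b := by
      rw [Set.insert_eq, Subgroup.closure_union, zpowers_eq_closure, zpowers_eq_closure]
    rw [h2]
    exact h1
  obtain ⟨g, hg⟩ := R.exists_conj hW
  obtain ⟨a', ha'⟩ := hg a (subset_closure (by simp))
  obtain ⟨b', hb'⟩ := hg b (subset_closure (by simp))
  -- transported data
  obtain ⟨s', hs'⟩ : ∃ s' : G, s' = g * s * g⁻¹ := ⟨_, rfl⟩
  obtain ⟨t', ht'⟩ : ∃ t' : G, t' = g * t * g⁻¹ := ⟨_, rfl⟩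
  have ha7' : a' ^ 7 = 1 := R.inj (by rw [map_pow, ha', conj_pow, ha7, map_one, mul_one, mul_inv_cancel])
  have hb7' : b' ^ 7 = 1 := R.inj (by rw [map_pow, hb', conj_pow, hb7, map_one, mul_one, mul_inv_cancel])
  have ha1' : a' ≠ 1 := by
    rintro rfl
    rw [map_one] at ha'
    apply ha1
    calc a = g⁻¹ * (g * a * g⁻¹) * g := by group
      _ = 1 := by rw [← ha']; group
  have hb1' : b' ≠ 1 := by
    rintro rfl
    rw [map_one] at hb'
    apply hb1
    calc b = g⁻¹ * (g * b * g⁻¹) * g := by group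
      _ = 1 := by rw [← hb']; group
  have hne' : a' ∉ zpowers b' := by
    intro h
    obtain ⟨k, hk⟩ := mem_zpowers_iff.1 h
    apply hne
    refine mem_zpowers_iff.2 ⟨k, ?_⟩
    have h1 := congrArg ι hk
    rw [map_zpow, ha', hb', conj_zpow] at h1
    exact mul_left_cancel (mul_right_cancel h1)
  have hsa' : s' * ι a' * s'⁻¹ = ι (a' ^ 2) := by
    rw [hs', map_pow, ha', conj_pow, ← hsa]
    group
  have hsb' : s' * ι b' * s'⁻¹ = ι b' := by
    rw [hs', hb']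
    calc _ = g * (s * b * s⁻¹) * g⁻¹ := by group
      _ = _ := by rw [hsb]
  have htb' : t' * ι b' * t'⁻¹ = ι (b' ^ 2) := by
    rw [ht', map_pow, hb', conj_pow, ← htb]
    group
  have hta' : t' * ι a' * t'⁻¹ = ι a' := by
    rw [ht', ha']
    calc _ = g * (t * a * t⁻¹) * g⁻¹ := by group
      _ = _ := by rw [hta]
  obtain ⟨P, hPdef⟩ : ∃ P : Subgroup X, P = closure ({a', b'} : Set X) := ⟨_, rfl⟩
  have haP : a' ∈ P := by rw [hPdef]; exact subset_closure (by simp)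
  have hbP : b' ∈ P := by rw [hPdef]; exact subset_closure (by simp)
  have hmapP : ∀ {c : G}, c * ι a' * c⁻¹ ∈ ι.range → c * ι b' * c⁻¹ ∈ ι.range → ∀ y : P, c * ι y * c⁻¹ ∈ ι.range := by
    intro c h1 h2 y
    have h3 : P ≤ (ι.range).comap ((MulAut.conj c).toMonoidHom.comp ι) := by
      rw [hPdef, closure_le]
      rintro w (rfl | rfl)
      · exact h1
      · exact h2
    exact h3 y.2
  by_cases hsub : H775.Ext.Sub D.F₀ D.E P
  · obtain ⟨φ, hφ, hm⟩ := hsub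
    obtain ⟨c, hc⟩ := (R.iff P φ).1 (H775.Ext.le_ext le_top _ hφ)
    obtain ⟨a'', ha''⟩ : ∃ a'' : D.E, (a'' : X) = φ ⟨a', haP⟩ := ⟨⟨_, hm _⟩, rfl⟩
    obtain ⟨b'', hb''⟩ : ∃ b'' : D.E, (b'' : X) = φ ⟨b', hbP⟩ := ⟨⟨_, hm _⟩, rfl⟩
    have hca : ι a'' = c * ι a' * c⁻¹ := by rw [ha'']; exact hc _
    have hcb : ι b'' = c * ι b' * c⁻¹ := by rw [hb'']; exact hc _
    have hb1'' : b'' ≠ 1 := by
      intro h
      rw [h] at hcb
      apply hb1'
      apply R.inj
      rw [map_one]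
      calc ι b' = c⁻¹ * (c * ι b' * c⁻¹) * c := by group
        _ = 1 := by rw [← hcb]; simp only [_root_.OneMemClass.coe_one, _root_.map_one, _root_.mul_one, _root_.inv_mul_cancel]
    have hb7'' : b'' ^ 7 = 1 := by
      apply Subtype.ext
      apply R.inj
      rw [Subgroup.coe_pow, map_pow, hcb, conj_pow, ← map_pow, hb7', map_one, mul_one, mul_inv_cancel]
      rw [Subgroup.coe_one, map_one]
    have hne'' : a'' ∉ zpowers b'' := by
      intro h
      obtain ⟨k, hk⟩ := mem_zpowers_iff.1 h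
      apply hne'
      refine mem_zpowers_iff.2 ⟨k, ?_⟩
      apply R.inj
      have h1 := congrArg (fun y : D.E => ι y) hk
      simp only [Subgroup.coe_zpow, map_zpow] at h1
      rw [hca, hcb, conj_zpow] at h1
      rw [map_zpow]
      exact mul_left_cancel (mul_right_cancel h1)
    -- generation
    have hgen : (⊤ : Subgroup D.E) ≤ closure ({a'', b''} : Set D.E) := by
      have h1 : zpowers b'' ≤ closure ({a'', b''} : Set D.E) := zpowers_le.2 (subset_closure (by simp))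
      have h2 : closure ({a'', b''} : Set D.E) ≠ zpowers b'' := by
        intro h
        apply hne''
        rw [← h]
        exact subset_closure (by simp)
      have h3 : Nat.card (zpowers b'') = 7 := by rw [Nat.card_zpowers]; exact orderOf_eq_prime hb7'' hb1''
      have h4 : Nat.card (closure ({a'', b''} : Set D.E)) ∣ 7 ^ 2 := by
        have := Subgroup.card_subgroup_dvd_card (closure ({a'', b''} : Set D.E))
        rwa [D.card_E] at this
      obtain ⟨k, hk, hke⟩ := (Nat.dvd_prime_pow (by norm_num)).1 h4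
      have h5 : Nat.card (zpowers b'') < Nat.card (closure ({a'', b''} : Set D.E)) := by
        refine lt_of_le_of_ne (Nat.card_mono (Set.toFinite _) h1) fun heq => ?_
        exact h2 (Subgroup.eq_of_le_of_card_ge h1 heq.ge).symm
      rw [h3, hke] at h5
      have h6 : k = 2 := by interval_cases k <;> omega
      rw [h6] at hke
      exact (Subgroup.eq_top_of_card_eq _ (by rw [hke, D.card_E]; norm_num)).ge
    obtain ⟨s'', hs''⟩ : ∃ s'' : G, s'' = c * s' * c⁻¹ := ⟨_, rfl⟩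
    have hsa'' : s'' * ι a'' * s''⁻¹ = ι (a'' ^ 2 : D.E) := by
      rw [hs'', Subgroup.coe_pow, map_pow, hca, conj_pow, ← map_pow, ← hsa']
      group
    have hsb'' : s'' * ι b'' * s''⁻¹ = ι b'' := by
      rw [hs'', hcb]
      calc _ = c * (s' * ι b' * s'⁻¹) * c⁻¹ := by group
        _ = _ := by rw [hsb']
    obtain ⟨A, hA⟩ := R.exists_A (g := s'') (by
      intro y hy
      have h1 : (⊤ : Subgroup D.E) ≤ (D.E.map ι).comap ((MulAut.conj s'').toMonoidHom.comp (ι.comp D.E.subtype)) := by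
        refine hgen.trans ?_
        rw [closure_le]
        rintro w (rfl | rfl)
        · show s'' * ι w * s''⁻¹ ∈ D.E.map ι
          rw [hsa'']
          exact ⟨_, (w ^ 2).2, rfl⟩
        · show s'' * ι w * s''⁻¹ ∈ D.E.map ι
          rw [hsb'']
          exact ⟨_, w.2, rfl⟩
      exact h1 (mem_top ⟨y, hy⟩))
    have hAa : D.ρ A a'' = a'' ^ 2 := by
      apply Subtype.ext
      apply R.inj
      rw [hA, hsa'']
    have hAb : D.ρ A b'' = b'' := by
      apply Subtype.ext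
      apply R.inj
      rw [hA, hsb'']
    obtain ⟨i, j, rfl⟩ := D.exists_pt a''
    obtain ⟨k, l, rfl⟩ := D.exists_pt b''
    rw [D.ρ_pt, Data.pt_pow] at hAa
    rw [D.ρ_pt] at hAb
    obtain ⟨e1, e2⟩ := D.pt_inj hAa
    obtain ⟨e3, e4⟩ := D.pt_inj hAb
    have hdet : A.1 0 0 * A.1 1 1 - A.1 0 1 * A.1 1 0 = 1 := by
      have := A.2
      rwa [Matrix.det_fin_two] at this
    have hil : i * l = j * k := by
      have h1 : (A.1 0 0 * i + A.1 0 1 * j) * (A.1 1 0 * k + A.1 1 1 * l) -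
          (A.1 1 0 * i + A.1 1 1 * j) * (A.1 0 0 * k + A.1 0 1 * l) = i * l - j * k := by
        linear_combination (i * l - j * k) * hdet
      rw [e1, e2, e3, e4] at h1
      push_cast at h1
      linear_combination h1
    by_cases hk0 : k = 0
    · have hl0 : l ≠ 0 := by
        rintro rfl
        exact hb1'' (by rw [hk0, Data.pt_zero])
      apply hne''
      have h1 : D.pt i j = D.pt k l ^ (j * l⁻¹).val := by
        rw [Data.pt_pow, ZMod.natCast_zmod_val]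
        congr 1
        · rw [hk0, mul_zero]
          rw [hk0, mul_zero] at hil
          exact (mul_eq_zero.1 hil).resolve_right hl0
        · rw [mul_assoc, inv_mul_cancel₀ hl0, mul_one]
      rw [h1]
      exact pow_mem (mem_zpowers _) _
    · apply hne''
      have h1 : D.pt i j = D.pt k l ^ (i * k⁻¹).val := by
        rw [Data.pt_pow, ZMod.natCast_zmod_val]
        congr 1
        · rw [mul_assoc, inv_mul_cancel₀ hk0, mul_one]
        · rw [mul_right_comm, hil, mul_assoc, mul_inv_cancel₀ hk0, mul_one]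
      rw [h1]
      exact pow_mem (mem_zpowers _) _
  · obtain ⟨u, k, hk⟩ := R.exists_F₀ hsub (g := s') (hmapP (by rw [hsa']; exact ⟨_, rfl⟩) (by rw [hsb']; exact ⟨_, rfl⟩))
    obtain ⟨w, l, hl⟩ := R.exists_F₀ hsub (g := t') (hmapP (by rw [hta']; exact ⟨_, rfl⟩) (by rw [htb']; exact ⟨_, rfl⟩))
    have hα : D.Typ k (MulAut.conj u * D.τ ^ k) := ⟨u, rfl⟩
    have hβ : D.Typ l (MulAut.conj w * D.τ ^ l) := ⟨w, rfl⟩
    have hαa : (MulAut.conj u * D.τ ^ k) a' = a' ^ 2 := by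
      apply R.inj
      rw [← hsa']
      exact (hk ⟨a', haP⟩).symm
    have hβa : (MulAut.conj w * D.τ ^ l) a' = a' := by
      apply R.inj
      exact (hl ⟨a', haP⟩).symm.trans hta'
    have hβb : (MulAut.conj w * D.τ ^ l) b' = b' ^ 2 := by
      apply R.inj
      rw [← htb']
      exact (hl ⟨b', hbP⟩).symm
    obtain ⟨α, hαd⟩ : ∃ α : MulAut X, α = MulAut.conj u * D.τ ^ k := ⟨_, rfl⟩
    obtain ⟨β, hβd⟩ : ∃ β : MulAut X, β = MulAut.conj w * D.τ ^ l := ⟨_, rfl⟩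
    rw [← hαd] at hα hαa
    rw [← hβd] at hβ hβa hβb
    have h1 : ¬ 3 ∣ l := fun h => Data.typ_false h hβ hb7' hb1' hβb
    have h2 : ¬ 3 ∣ k := fun h => Data.typ_false h hα ha7' ha1' hαa
    have h3 : ¬ 3 ∣ k + l := fun h => Data.typ_false h (hα.mul hβ) ha7' ha1' (by
      rw [MulAut.mul_apply, hβa, hαa])
    have h4 : ¬ 3 ∣ k + l + l := fun h => Data.typ_false h ((hα.mul hβ).mul hβ) ha7' ha1' (by
      rw [MulAut.mul_apply, hβa, MulAut.mul_apply, hβa, hαa])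
    have h5 : k % 3 = 1 ∨ k % 3 = 2 := by omega
    have h6 : l % 3 = 1 ∨ l % 3 = 2 := by (clear * - h1; omega)
    rcases h5 with h5 | h5 <;> rcases h6 with h6 | h6 <;> omega

end Real

end Cfsg.Agent.H772.Pearl
end

-- part: H772/EssDim
section
/-!
# Representations of a group with a rational extraspecial subgroup `7^{1+4}` (helper772)

`Ess H`: elements `z, a₁, b₁, a₂, b₂` generating an extraspecial group of order `7^5` with centre `⟨z⟩`, and `h` with
`h z h⁻¹ = z³`. A representation in characteristic different from 7 in which `z` acts nontrivially has dimension at least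
294 (`Ess.dim`, `Ess.dim'`, `Ess.dim_mat`).
-/

set_option autoImplicit false

namespace Cfsg.Agent.H772

open Module

universe u v w

/-- the elements -/
structure Ess (H : Type u) [Group H] where
  /-- central element -/
  z : H
  a₁ : H
  b₁ : H
  a₂ : H
  b₂ : H
  /-- the element normalizing `⟨z⟩` -/
  h : H
  z7 : z ^ 7 = 1
  a₁7 : a₁ ^ 7 = 1
  b₁7 : b₁ ^ 7 = 1
  a₂7 : a₂ ^ 7 = 1
  b₂7 : b₂ ^ 7 = 1
  z1 : z ≠ 1
  za₁ : z * a₁ = a₁ * z
  zb₁ : z * b₁ = b₁ * z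
  za₂ : z * a₂ = a₂ * z
  zb₂ : z * b₂ = b₂ * z
  c₁ : a₁ * b₁ = z * (b₁ * a₁)
  c₂ : a₂ * b₂ = z * (b₂ * a₂)
  caa : a₁ * a₂ = a₂ * a₁
  cab : a₁ * b₂ = b₂ * a₁
  cba : b₁ * a₂ = a₂ * b₁
  cbb : b₁ * b₂ = b₂ * b₁
  hz : h * z = z ^ 3 * h

section Lin

variable {K : Type v} {V : Type w} [Field K] [AddCommGroup V] [Module K V] [FiniteDimensional K V]

theorem mul_le_finrank (T : End K V) {m : ℕ} (μ : Fin m → K) (hμ : Function.Injective μ) (d : ℕ)
    (hd : ∀ i, d ≤ finrank K (T.eigenspace (μ i))) : m * d ≤ finrank K V := by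
  classical
  have h1 : iSupIndep (fun i : Fin m => T.eigenspace (μ i)) := (End.eigenspaces_iSupIndep T).comp hμ
  have h2 := h1.dfinsupp_lsum_injective
  have h3 := LinearMap.finrank_le_finrank_of_injective h2
  have h4 : finrank K (Π₀ i : Fin m, T.eigenspace (μ i)) = ∑ i, finrank K (T.eigenspace (μ i)) :=
    Module.finrank_directSum (R := K) (fun i : Fin m => T.eigenspace (μ i))
  rw [h4] at h3
  calc m * d = ∑ _i : Fin m, d := by simp only [_root_.Finset.sum_const, _root_.Finset.card_univ, _root_.Fintype.card_fin, _root_.smul_eq_mul]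
    _ ≤ ∑ i, finrank K (T.eigenspace (μ i)) := Finset.sum_le_sum fun i _ => hd i
    _ ≤ _ := h3

theorem mod_eq_of_pow_eq {K : Type*} [Field K] {l : K} (hl7 : l ^ 7 = 1) (hl1 : l ≠ 1) {i j : ℕ} (h : l ^ i = l ^ j) : i % 7 = j % 7 := by
  have : Fact (Nat.Prime 7) := ⟨by norm_num⟩
  have hl0 : l ≠ 0 := by
    rintro rfl
    norm_num at hl7
  have hord : orderOf (Units.mk0 l hl0) = 7 :=
    orderOf_eq_prime (p := 7) (Units.ext (by simpa only [_root_.Units.val_pow_eq_pow_val, _root_.Units.val_mk0, _root_.Units.val_one] using hl7)) (fun h => hl1 (by simpa using congrArg Units.val h))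
  have h1 : (Units.mk0 l hl0) ^ i = (Units.mk0 l hl0) ^ j := Units.ext (by simpa only [_root_.Units.val_pow_eq_pow_val, _root_.Units.val_mk0] using h)
  have h2 := (pow_inj_mod).1 h1
  rwa [hord] at h2

/-- an injective endomorphism multiplying eigenvalues -/
theorem finrank_eigenspace_le (T S : End K V) (hS : Function.Injective S) {α β : K}
    (h : ∀ v, T v = α • v → T (S v) = β • S v) : finrank K (T.eigenspace α) ≤ finrank K (T.eigenspace β) := by
  have h1 : ∀ v ∈ T.eigenspace α, S v ∈ T.eigenspace β := fun v hv =>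
    End.mem_eigenspace_iff.2 (h v (End.mem_eigenspace_iff.1 hv))
  exact LinearMap.finrank_le_finrank_of_injective (f := S.restrict h1) (fun v w hvw => by
    apply Subtype.ext
    apply hS
    exact congrArg Subtype.val hvw)

theorem seven_mul_le {l : K} (hl7 : l ^ 7 = 1) (hl1 : l ≠ 1) (T S : End K V) (hT : Function.Injective T)
    (hS : Function.Injective S) (hTS : ∀ v, T (S v) = l • S (T v)) {α : K} (hα : T.HasEigenvalue α) :
    7 * finrank K (T.eigenspace α) ≤ finrank K V := by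
  have hα0 : α ≠ 0 := by
    rintro rfl
    obtain ⟨v, hv, hv0⟩ := hα.exists_hasEigenvector
    rw [End.mem_eigenspace_iff, zero_smul] at hv
    exact hv0 (hT (by rw [hv, map_zero]))
  have hl0 : l ≠ 0 := by
    rintro rfl
    norm_num at hl7
  refine mul_le_finrank T (fun i : Fin 7 => l ^ (i : ℕ) * α) ?_ _ fun i => ?_
  · intro i j hij
    have h1 : l ^ (i : ℕ) = l ^ (j : ℕ) := mul_right_cancel₀ hα0 hij
    have h2 := mod_eq_of_pow_eq hl7 hl1 h1
    rw [Nat.mod_eq_of_lt i.2, Nat.mod_eq_of_lt j.2] at h2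
    exact Fin.ext h2
  · have h1 : ∀ n : ℕ, ∀ v, T v = α • v → T ((S ^ n) v) = (l ^ n * α) • (S ^ n) v := by
      intro n
      induction n with
      | zero => intro v hv; simpa using hv
      | succ n ih =>
        intro v hv
        rw [pow_succ', End.mul_apply, hTS, ih v hv, map_smul, smul_smul, pow_succ']
        congr 1
        ring
    have h2 : ∀ n : ℕ, Function.Injective (S ^ n : End K V) := by
      intro n
      induction n with
      | zero => exact Function.injective_id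
      | succ n ih =>
        intro v w hvw
        rw [pow_succ', End.mul_apply, End.mul_apply] at hvw
        exact ih (hS hvw)
    exact finrank_eigenspace_le T (S ^ (i : ℕ)) (h2 i) (h1 i)

end Lin

namespace Ess

variable {H : Type u} [Group H] (S : Ess H) {K : Type v} {V : Type w} [Field K] [AddCommGroup V] [Module K V]
  [FiniteDimensional K V]

omit [FiniteDimensional K V] in
theorem map_injective (ρ : H →* End K V) (g : H) : Function.Injective (ρ g) := by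
  intro v w hvw
  have h1 : ∀ v, ρ g⁻¹ (ρ g v) = v := by
    intro v
    rw [← End.mul_apply, ← map_mul, inv_mul_cancel, map_one]
    rfl
  rw [← h1 v, hvw, h1 w]

/-- the faithful part: 49 ≤ dim of every nontrivial eigenspace of `z` -/
theorem dim49 [IsAlgClosed K] (ρ : H →* End K V) {l : K} (hl7 : l ^ 7 = 1) (hl1 : l ≠ 1)
    (hl : (ρ S.z).HasEigenvalue l) : 49 ≤ finrank K ((ρ S.z).eigenspace l) := by
  -- restriction to the eigenspace
  have hmem : ∀ g, S.z * g = g * S.z → ∀ v ∈ (ρ S.z).eigenspace l, ρ g v ∈ (ρ S.z).eigenspace l := by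
    intro g hg v hv
    rw [End.mem_eigenspace_iff] at hv ⊢
    rw [← End.mul_apply, ← map_mul, hg, map_mul, End.mul_apply, hv, map_smul]
  let A₁ : End K ((ρ S.z).eigenspace l) := (ρ S.a₁).restrict (hmem _ S.za₁)
  let B₁ : End K ((ρ S.z).eigenspace l) := (ρ S.b₁).restrict (hmem _ S.zb₁)
  let A₂ : End K ((ρ S.z).eigenspace l) := (ρ S.a₂).restrict (hmem _ S.za₂)
  let B₂ : End K ((ρ S.z).eigenspace l) := (ρ S.b₂).restrict (hmem _ S.zb₂)
  have hinj : ∀ (g : H) (hg : S.z * g = g * S.z), Function.Injective ((ρ g).restrict (hmem _ hg)) := by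
    intro g hg v w hvw
    apply Subtype.ext
    exact map_injective ρ g (congrArg Subtype.val hvw)
  have hnt : Nontrivial ((ρ S.z).eigenspace l) := by
    rw [Submodule.nontrivial_iff_ne_bot]
    exact hl
  obtain ⟨α, hα⟩ := End.exists_eigenvalue A₁
  have h1 : 7 * finrank K (A₁.eigenspace α) ≤ finrank K ((ρ S.z).eigenspace l) := by
    refine seven_mul_le hl7 hl1 A₁ B₁ (hinj _ S.za₁) (hinj _ S.zb₁) (fun v => ?_) hα
    apply Subtype.ext
    show ρ S.a₁ (ρ S.b₁ v) = l • ρ S.b₁ (ρ S.a₁ v)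
    rw [← End.mul_apply, ← End.mul_apply, ← map_mul, ← map_mul, S.c₁, map_mul, End.mul_apply]
    have h2 : S.z * (S.b₁ * S.a₁) = S.b₁ * S.a₁ * S.z := by
      rw [← mul_assoc, S.zb₁, mul_assoc, S.za₁, ← mul_assoc]
    exact End.mem_eigenspace_iff.1 (hmem _ h2 v v.2)
  -- second step
  have hmem' : ∀ (g : H) (hg : S.z * g = g * S.z) (hg' : S.a₁ * g = g * S.a₁), ∀ v ∈ A₁.eigenspace α,
      (ρ g).restrict (hmem _ hg) v ∈ A₁.eigenspace α := by
    intro g hg hg' v hv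
    rw [End.mem_eigenspace_iff] at hv ⊢
    apply Subtype.ext
    show ρ S.a₁ (ρ g v) = α • ρ g v
    have h2 : ρ S.a₁ (v : V) = α • (v : V) := congrArg Subtype.val hv
    rw [← End.mul_apply, ← map_mul, hg', map_mul, End.mul_apply, h2, map_smul]
  have hnt' : Nontrivial (A₁.eigenspace α) := by
    rw [Submodule.nontrivial_iff_ne_bot]
    exact hα
  let A₃ : End K (A₁.eigenspace α) := A₂.restrict (hmem' _ S.za₂ S.caa)
  let B₃ : End K (A₁.eigenspace α) := B₂.restrict (hmem' _ S.zb₂ S.cab)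
  obtain ⟨β, hβ⟩ := End.exists_eigenvalue A₃
  have h2 : 7 * finrank K (A₃.eigenspace β) ≤ finrank K (A₁.eigenspace α) := by
    refine seven_mul_le hl7 hl1 A₃ B₃ ?_ ?_ (fun v => ?_) hβ
    · intro v w hvw
      apply Subtype.ext
      exact hinj _ S.za₂ (congrArg Subtype.val hvw)
    · intro v w hvw
      apply Subtype.ext
      exact hinj _ S.zb₂ (congrArg Subtype.val hvw)
    · apply Subtype.ext
      apply Subtype.ext
      show ρ S.a₂ (ρ S.b₂ v) = l • ρ S.b₂ (ρ S.a₂ v)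
      rw [← End.mul_apply, ← End.mul_apply, ← map_mul, ← map_mul, S.c₂, map_mul, End.mul_apply]
      have h2 : S.z * (S.b₂ * S.a₂) = S.b₂ * S.a₂ * S.z := by
        rw [← mul_assoc, S.zb₂, mul_assoc, S.za₂, ← mul_assoc]
      exact End.mem_eigenspace_iff.1 (hmem _ h2 v v.1.2)
  have h3 : 1 ≤ finrank K (A₃.eigenspace β) := by
    have hne : A₃.eigenspace β ≠ ⊥ := hβ
    by_contra h4
    have h5 : finrank K (A₃.eigenspace β) = 0 := by omega
    exact hne (Submodule.finrank_eq_zero.1 h5)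
  omega

theorem dim [IsAlgClosed K] (h7 : (7 : K) ≠ 0) (ρ : H →* End K V) (hz : ρ S.z ≠ 1) : 294 ≤ finrank K V := by
  classical
  -- an eigenvalue different from 1
  obtain ⟨l, hl, hl1⟩ : ∃ l, (ρ S.z).HasEigenvalue l ∧ l ≠ 1 := by
    let A : End K V := ρ S.z
    have hA7 : A ^ 7 = 1 := by
      show (ρ S.z) ^ 7 = 1
      rw [← map_pow, S.z7, map_one]
    let N : End K V := 1 + A + A ^ 2 + A ^ 3 + A ^ 4 + A ^ 5 + A ^ 6
    have hNA : N * (A - 1) = 0 := by
      have : N * (A - 1) = A ^ 7 - 1 := by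
        simp only [N]
        noncomm_ring
      rw [this, hA7, sub_self]
    have hAN : A * N = N * A := by
      simp only [N]
      noncomm_ring
    obtain ⟨v, hv⟩ : ∃ v, A v ≠ v := by
      by_contra hcon
      push Not at hcon
      exact hz (LinearMap.ext hcon)
    have hmem : ∀ w ∈ LinearMap.ker N, A w ∈ LinearMap.ker N := by
      intro w hw
      rw [LinearMap.mem_ker] at hw ⊢
      rw [← End.mul_apply, ← hAN, End.mul_apply, hw, map_zero]
    have hnt : Nontrivial (LinearMap.ker N) := by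
      rw [Submodule.nontrivial_iff_ne_bot]
      intro h
      have h1 : A v - v ∈ LinearMap.ker N := by
        rw [LinearMap.mem_ker]
        exact DFunLike.congr_fun hNA v
      rw [h, Submodule.mem_bot, sub_eq_zero] at h1
      exact hv h1
    obtain ⟨l, hl⟩ := End.exists_eigenvalue (A.restrict hmem)
    obtain ⟨u, hu, hu0⟩ := hl.exists_hasEigenvector
    rw [End.mem_eigenspace_iff] at hu
    have hu' : A (u : V) = l • (u : V) := congrArg Subtype.val hu
    have hu0' : (u : V) ≠ 0 := fun h => hu0 (Subtype.ext h)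
    refine ⟨l, End.hasEigenvalue_of_hasEigenvector ⟨End.mem_eigenspace_iff.2 hu', hu0'⟩, ?_⟩
    rintro rfl
    rw [one_smul] at hu'
    have h1 : ∀ n : ℕ, (A ^ n) (u : V) = u := by
      intro n
      induction n with
      | zero => rfl
      | succ n ih => rw [pow_succ', End.mul_apply, ih, hu']
    have h2 : N (u : V) = (7 : K) • (u : V) := by
      simp only [N, LinearMap.add_apply, h1, hu', End.one_apply]
      rw [show (7 : K) = 1 + 1 + 1 + 1 + 1 + 1 + 1 by norm_num]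
      simp only [add_smul, one_smul]
    have h3 : N (u : V) = 0 := u.2
    rw [h2] at h3
    rcases smul_eq_zero.1 h3 with h4 | h4
    · exact h7 h4
    · exact hu0' h4
  have hl7 : l ^ 7 = 1 := by
    obtain ⟨v, hv, hv0⟩ := hl.exists_hasEigenvector
    rw [End.mem_eigenspace_iff] at hv
    have h1 : ∀ n : ℕ, ((ρ S.z) ^ n) v = l ^ n • v := by
      intro n
      induction n with
      | zero => simp only [_root_.pow_zero, _root_.Module.End.one_apply, _root_.one_smul]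
      | succ n ih => rw [pow_succ', End.mul_apply, ih, map_smul, hv, smul_smul, pow_succ]
    have h2 := h1 7
    rw [← map_pow, S.z7, map_one, End.one_apply] at h2
    have h3 : (l ^ 7 - 1) • v = 0 := by rw [sub_smul, one_smul, ← h2, sub_self]
    rcases smul_eq_zero.1 h3 with h4 | h4
    · exact sub_eq_zero.1 h4
    · exact absurd h4 hv0
  -- the element `h` permutes the eigenspaces
  have hstep : ∀ (m : K) (v : V), ρ S.z v = m • v → ρ S.z (ρ S.h v) = m ^ 5 • ρ S.h v := by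
    intro m v hv
    have h1 : ρ (S.z ^ 3) (ρ S.h v) = m • ρ S.h v := by
      rw [← End.mul_apply, ← map_mul, ← S.hz, map_mul, End.mul_apply, hv, map_smul]
    have h2 : ∀ n : ℕ, (ρ (S.z ^ 3) ^ n) (ρ S.h v) = m ^ n • ρ S.h v := by
      intro n
      induction n with
      | zero => simp
      | succ n ih => rw [pow_succ', End.mul_apply, ih, map_smul, h1, smul_smul, pow_succ]
    have h3 := h2 5
    have h4 : (ρ (S.z ^ 3)) ^ 5 = ρ S.z := by
      rw [← map_pow, ← pow_mul]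
      have : S.z ^ (3 * 5) = S.z := by
        calc S.z ^ (3 * 5) = (S.z ^ 7) ^ 2 * S.z := by group
          _ = S.z := by rw [S.z7, one_pow, one_mul]
      rw [this]
    rwa [h4] at h3
  have hpow : ∀ (n : ℕ) (v : V), ρ S.z v = l • v → ρ S.z (((ρ S.h) ^ n) v) = l ^ 5 ^ n • ((ρ S.h) ^ n) v := by
    intro n
    induction n with
    | zero => intro v hv; simpa only [_root_.pow_zero, _root_.Module.End.one_apply, _root_.pow_one] using hv
    | succ n ih =>
      intro v hv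
      rw [pow_succ', End.mul_apply, hstep _ _ (ih v hv), ← pow_mul, pow_succ]
  have h49 := S.dim49 ρ hl7 hl1 hl
  have key := mul_le_finrank (ρ S.z) (fun i : Fin 6 => l ^ 5 ^ (i : ℕ)) (by
    intro i j hij
    have h1 := mod_eq_of_pow_eq hl7 hl1 hij
    have h2 : ∀ i j : Fin 6, 5 ^ (i : ℕ) % 7 = 5 ^ (j : ℕ) % 7 → i = j := by decide
    exact h2 i j h1) 49 (fun i => h49.trans (finrank_eigenspace_le (ρ S.z) ((ρ S.h) ^ (i : ℕ)) (by
      rw [← map_pow]
      exact map_injective ρ _) (hpow i)))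
  omega

/-- matrices over any field of characteristic different from 7 -/
theorem dim_mat {K : Type v} [Field K] (h7 : (7 : K) ≠ 0) {n : Type*} [Fintype n] [DecidableEq n]
    (ρ : H →* Matrix n n K) (hz : ρ S.z ≠ 1) : 294 ≤ Fintype.card n := by
  let f : K →+* AlgebraicClosure K := algebraMap K (AlgebraicClosure K)
  let ρ' : H →* End (AlgebraicClosure K) (n → AlgebraicClosure K) :=
    ((Matrix.toLinAlgEquiv' (R := AlgebraicClosure K) (n := n)).toMonoidHom.comp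
      (f.mapMatrix (m := n)).toMonoidHom).comp ρ
  have h1 := S.dim (K := AlgebraicClosure K) (V := n → AlgebraicClosure K) (by
    intro h
    apply h7
    apply f.injective
    rw [map_zero, map_ofNat]
    exact h) ρ' (by
    intro h
    apply hz
    have h2 : f.mapMatrix (ρ S.z) = 1 := by
      apply (Matrix.toLinAlgEquiv' (R := AlgebraicClosure K) (n := n)).injective
      rw [map_one]
      exact h
    ext i j
    have h3 := congrFun (congrFun h2 i) j
    apply f.injective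
    rw [RingHom.mapMatrix_apply, Matrix.map_apply] at h3
    rw [h3, Matrix.one_apply, Matrix.one_apply]
    split_ifs
    · rw [map_one]
    · rw [map_zero])
  rwa [finrank_fintype_fun_eq_card] at h1

/-- endomorphisms over any field of characteristic different from 7 -/
theorem dim' {K : Type v} [Field K] {V : Type w} [AddCommGroup V] [Module K V] [FiniteDimensional K V]
    (h7 : (7 : K) ≠ 0) (ρ : H →* End K V) (hz : ρ S.z ≠ 1) : 294 ≤ finrank K V := by
  let b := Module.finBasis K V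
  have h1 := S.dim_mat h7 ((LinearMap.toMatrixAlgEquiv b).toMonoidHom.comp ρ) (by
    intro h
    apply hz
    apply (LinearMap.toMatrixAlgEquiv b).injective
    rw [map_one]
    exact h)
  rwa [Fintype.card_fin] at h1

end Ess

end Cfsg.Agent.H772
end

-- part: H772/EssLift
section
/-!
# Lifting `7^{1+4}` through a central extension by a group of order prime to 7 (helper772)
-/

set_option autoImplicit false

namespace Cfsg.Agent.H772

universe u v

namespace Ess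

section Lift

variable {H : Type u} {L : Type v} [Group H] [Group L] {π : H →* L} {m : ℕ}

theorem eq_of_pow7 (hc : ∀ k, π k = 1 → ∀ g, k * g = g * k) (hm : Nat.Coprime 7 m) (hk : ∀ k, π k = 1 → k ^ m = 1)
    {x y : H} (hx : x ^ 7 = 1) (hy : y ^ 7 = 1) (h : π x = π y) : x = y := by
  have h1 : π (x⁻¹ * y) = 1 := by rw [map_mul, map_inv, h, inv_mul_cancel]
  have h2 : Commute x (x⁻¹ * y) := (hc _ h1 x).symm
  have h3 : (x⁻¹ * y) ^ 7 = 1 := by
    have h4 : (x * (x⁻¹ * y)) ^ 7 = x ^ 7 * (x⁻¹ * y) ^ 7 := h2.mul_pow 7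
    rw [mul_inv_cancel_left, hx, hy, one_mul] at h4
    exact h4.symm
  have h4 := hk _ h1
  have h5 : orderOf (x⁻¹ * y) ∣ 1 := by
    have := Nat.dvd_gcd (orderOf_dvd_of_pow_eq_one h3) (orderOf_dvd_of_pow_eq_one h4)
    rwa [hm] at this
  have h6 := orderOf_eq_one_iff.1 (Nat.dvd_one.1 h5)
  exact inv_mul_eq_one.1 h6

theorem exists_lift7 (hs : Function.Surjective π) (hm : Nat.Coprime 7 m) (hk : ∀ k, π k = 1 → k ^ m = 1)
    {g : L} (hg : g ^ 7 = 1) : ∃ x : H, x ^ 7 = 1 ∧ π x = g := by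
  obtain ⟨k, rfl⟩ := hs g
  obtain ⟨u, hu⟩ := Nat.exists_mul_mod_eq_one_of_coprime hm.symm (by norm_num : 1 < 7)
  have h1 : π (k ^ 7) = 1 := by rw [map_pow, hg]
  refine ⟨k ^ (m * u), ?_, ?_⟩
  · rw [← pow_mul, show m * u * 7 = 7 * m * u by ring, pow_mul, pow_mul, hk _ h1, one_pow]
  · rw [map_pow, pow_eq_pow_mod _ hg]
    have h2 : m * u % 7 = 1 := hu.2
    rw [h2, pow_one]

theorem lift (S : Ess L) (hs : Function.Surjective π) (hc : ∀ k, π k = 1 → ∀ g, k * g = g * k) (hm : Nat.Coprime 7 m)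
    (hk : ∀ k, π k = 1 → k ^ m = 1) : ∃ S' : Ess H, π S'.z = S.z := by
  obtain ⟨z, hz7, hz⟩ := exists_lift7 hs hm hk S.z7
  obtain ⟨a₁, ha₁7, ha₁⟩ := exists_lift7 hs hm hk S.a₁7
  obtain ⟨b₁, hb₁7, hb₁⟩ := exists_lift7 hs hm hk S.b₁7
  obtain ⟨a₂, ha₂7, ha₂⟩ := exists_lift7 hs hm hk S.a₂7
  obtain ⟨b₂, hb₂7, hb₂⟩ := exists_lift7 hs hm hk S.b₂7
  obtain ⟨h, hh⟩ := hs S.h
  have hcomm : ∀ {x y : H}, y ^ 7 = 1 → π x * π y = π y * π x → x * y = y * x := by
    intro x y hy hxy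
    have h1 : x * y * x⁻¹ = y := by
      refine eq_of_pow7 hc hm hk ?_ hy ?_
      · rw [conj_pow, hy, mul_one, mul_inv_cancel]
      · rw [map_mul, map_mul, map_inv, hxy, mul_inv_cancel_right]
    rw [mul_inv_eq_iff_eq_mul] at h1
    exact h1
  have hzb₁ : z * b₁ = b₁ * z := hcomm hb₁7 (by rw [hz, hb₁, S.zb₁])
  have hzb₂ : z * b₂ = b₂ * z := hcomm hb₂7 (by rw [hz, hb₂, S.zb₂])
  refine ⟨{ z := z, a₁ := a₁, b₁ := b₁, a₂ := a₂, b₂ := b₂, h := h
            z7 := hz7, a₁7 := ha₁7, b₁7 := hb₁7, a₂7 := ha₂7, b₂7 := hb₂7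
            z1 := ?_
            za₁ := hcomm ha₁7 (by rw [hz, ha₁, S.za₁])
            zb₁ := hzb₁
            za₂ := hcomm ha₂7 (by rw [hz, ha₂, S.za₂])
            zb₂ := hzb₂
            c₁ := ?_
            c₂ := ?_
            caa := hcomm ha₂7 (by rw [ha₁, ha₂, S.caa])
            cab := hcomm hb₂7 (by rw [ha₁, hb₂, S.cab])
            cba := hcomm ha₂7 (by rw [hb₁, ha₂, S.cba])
            cbb := hcomm hb₂7 (by rw [hb₁, hb₂, S.cbb])
            hz := ?_ }, hz⟩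
  · rintro rfl
    rw [map_one] at hz
    exact S.z1 hz.symm
  · have h1 : a₁ * b₁ * a₁⁻¹ = z * b₁ := by
      refine eq_of_pow7 hc hm hk ?_ ?_ ?_
      · rw [conj_pow, hb₁7, mul_one, mul_inv_cancel]
      · rw [(show Commute z b₁ from hzb₁).mul_pow, hz7, hb₁7, one_mul]
      · rw [map_mul, map_mul, map_inv, map_mul, ha₁, hb₁, hz, S.c₁]
        group
    rw [mul_inv_eq_iff_eq_mul, mul_assoc] at h1
    exact h1
  · have h1 : a₂ * b₂ * a₂⁻¹ = z * b₂ := by
      refine eq_of_pow7 hc hm hk ?_ ?_ ?_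
      · rw [conj_pow, hb₂7, mul_one, mul_inv_cancel]
      · rw [(show Commute z b₂ from hzb₂).mul_pow, hz7, hb₂7, one_mul]
      · rw [map_mul, map_mul, map_inv, map_mul, ha₂, hb₂, hz, S.c₂]
        group
    rw [mul_inv_eq_iff_eq_mul, mul_assoc] at h1
    exact h1
  · have h1 : h * z * h⁻¹ = z ^ 3 := by
      refine eq_of_pow7 hc hm hk ?_ ?_ ?_
      · rw [conj_pow, hz7, mul_one, mul_inv_cancel]
      · rw [← pow_mul, mul_comm, pow_mul, hz7, one_pow]
      · rw [map_mul, map_mul, map_inv, map_pow, hh, hz, S.hz, mul_inv_cancel_right]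
    rw [mul_inv_eq_iff_eq_mul] at h1
    exact h1

end Lift

/-- transport -/
def map {H : Type u} {L : Type v} [Group H] [Group L] (S : Ess H) (f : H →* L) (hf : Function.Injective f) : Ess L where
  z := f S.z
  a₁ := f S.a₁
  b₁ := f S.b₁
  a₂ := f S.a₂
  b₂ := f S.b₂
  h := f S.h
  z7 := by rw [← map_pow, S.z7, map_one]
  a₁7 := by rw [← map_pow, S.a₁7, map_one]
  b₁7 := by rw [← map_pow, S.b₁7, map_one]
  a₂7 := by rw [← map_pow, S.a₂7, map_one]
  b₂7 := by rw [← map_pow, S.b₂7, map_one]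
  z1 := fun h => S.z1 (hf (by rw [h, map_one]))
  za₁ := by rw [← map_mul, S.za₁, map_mul]
  zb₁ := by rw [← map_mul, S.zb₁, map_mul]
  za₂ := by rw [← map_mul, S.za₂, map_mul]
  zb₂ := by rw [← map_mul, S.zb₂, map_mul]
  c₁ := by rw [← map_mul, S.c₁, map_mul, map_mul]
  c₂ := by rw [← map_mul, S.c₂, map_mul, map_mul]
  caa := by rw [← map_mul, S.caa, map_mul]
  cab := by rw [← map_mul, S.cab, map_mul]
  cba := by rw [← map_mul, S.cba, map_mul]
  cbb := by rw [← map_mul, S.cbb, map_mul]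
  hz := by rw [← map_mul, S.hz, map_mul, map_pow]

end Ess

end Cfsg.Agent.H772
end

-- part: H772/EssExc
section
/-!
# `7^{1+4}` with a rational centre is not contained in an exceptional group of characteristic different from 7, nor in a
small alternating group (helper772)
-/

set_option autoImplicit false

namespace Cfsg.Agent.H772

open Cfsg

universe u v

theorem charP_seven {F : Type*} [Field F] (h : (7 : F) = 0) : CharP F 7 := by
  have hd : ringChar F ∣ 7 := (ringChar.spec F 7).1 (by exact_mod_cast h)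
  rcases (Nat.dvd_prime (by norm_num)).1 hd with h1 | h1
  · exact absurd h1 CharP.ringChar_ne_one
  · rw [← h1]
    exact ringChar.charP F

theorem card_idx (D : Lie.ChevalleyDatum) : Fintype.card D.Idx = D.rank + D.nroots := by
  rw [Fintype.card_sum, Fintype.card_fin, Fintype.card_fin]

namespace Ess

variable {L : Type u} [Group L] (S : Ess L)

include S

/-- subgroups of the general linear group -/
theorem gl_false {ι : Type*} [Fintype ι] [DecidableEq ι] {K : Type*} [Field K] (h7 : (7 : K) ≠ 0)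
    (hι : Fintype.card ι < 294) (f : L →* GL ι K) (hf : f S.z ≠ 1) : False := by
  have h1 := S.dim_mat h7 ((Units.coeHom (Matrix ι ι K)).comp f) (by
    intro h
    apply hf
    exact Units.ext h)
  omega

theorem iso_false {ι : Type*} [Fintype ι] [DecidableEq ι] {K : Type*} [Field K] (h7 : (7 : K) ≠ 0)
    (hι : Fintype.card ι < 294) {H : Subgroup (GL ι K)} (e : L ≃* H) : False :=
  S.gl_false h7 hι (H.subtype.comp e.toMonoidHom) (fun h => S.z1 (e.injective (Subtype.ext (by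
    rw [map_one]
    exact h))))

theorem exceptional (h : IsExceptionalLieType L) : IsLieTypeChar 7 L := by
  rcases h with h | h | h | h | h | h | h | h | h | h | h
  · obtain ⟨F, _, _, h3, ⟨e⟩⟩ := h
    by_cases h7 : (7 : F) = 0
    · exact Or.inr (Or.inr (Or.inr (Or.inr (Or.inr (Or.inr (Or.inl
        ⟨F, _, inferInstance, charP_seven h7, Or.inl ⟨h3, ⟨e⟩⟩⟩))))))
    · exact (S.iso_false h7 (by rw [card_idx]; decide) e).elim
  · obtain ⟨F, _, _, ⟨e⟩⟩ := h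
    by_cases h7 : (7 : F) = 0
    · exact Or.inr (Or.inr (Or.inr (Or.inr (Or.inr (Or.inr (Or.inl
        ⟨F, _, inferInstance, charP_seven h7, Or.inr (Or.inl ⟨e⟩)⟩))))))
    · exact (S.iso_false h7 (by rw [card_idx]; decide) e).elim
  · obtain ⟨F, _, _, ⟨e⟩⟩ := h
    by_cases h7 : (7 : F) = 0
    · exact Or.inr (Or.inr (Or.inr (Or.inr (Or.inr (Or.inr (Or.inl
        ⟨F, _, inferInstance, charP_seven h7, Or.inr (Or.inr (Or.inl ⟨e⟩))⟩))))))
    · exact (S.iso_false h7 (by rw [card_idx]; decide) e).elim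
  · obtain ⟨F, _, _, ⟨e⟩⟩ := h
    by_cases h7 : (7 : F) = 0
    · exact Or.inr (Or.inr (Or.inr (Or.inr (Or.inr (Or.inr (Or.inl
        ⟨F, _, inferInstance, charP_seven h7, Or.inr (Or.inr (Or.inr (Or.inl ⟨e⟩)))⟩))))))
    · exact (S.iso_false h7 (by rw [card_idx]; decide) e).elim
  · obtain ⟨F, _, _, ⟨e⟩⟩ := h
    by_cases h7 : (7 : F) = 0
    · exact Or.inr (Or.inr (Or.inr (Or.inr (Or.inr (Or.inr (Or.inl
        ⟨F, _, inferInstance, charP_seven h7, Or.inr (Or.inr (Or.inr (Or.inr ⟨e⟩)))⟩))))))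
    · exact (S.iso_false h7 (by rw [card_idx]; decide) e).elim
  · obtain ⟨F, _, _, q, hq, hF, ⟨e⟩⟩ := h
    by_cases h7 : (7 : F) = 0
    · exact Or.inr (Or.inr (Or.inr (Or.inr (Or.inr (Or.inr (Or.inr (Or.inl
        ⟨F, _, inferInstance, charP_seven h7, q, hq, Or.inl ⟨hF, ⟨e⟩⟩⟩)))))))
    · exact (S.iso_false h7 (by rw [card_idx]; decide) e).elim
  · obtain ⟨F, _, _, q, hq, hF, ⟨e⟩⟩ := h
    by_cases h7 : (7 : F) = 0
    · exact Or.inr (Or.inr (Or.inr (Or.inr (Or.inr (Or.inr (Or.inr (Or.inl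
        ⟨F, _, inferInstance, charP_seven h7, q, hq, Or.inr ⟨hF, ⟨e⟩⟩⟩)))))))
    · exact (S.iso_false h7 (by rw [card_idx]; decide) e).elim
  · obtain ⟨F, _, _, m, hm, hF, ⟨e⟩⟩ := h
    have h7 : (7 : F) ≠ 0 := by
      intro h7
      have := charP_seven h7
      have h1 := FiniteField.cast_card_eq_zero F
      rw [CharP.cast_eq_zero_iff F 7, hF] at h1
      have h2 := Nat.Prime.dvd_of_dvd_pow (by norm_num) h1
      norm_num at h2
    exact (S.iso_false h7 (by decide) e).elim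
  · obtain ⟨F, _, _, m, hm, hF, ⟨e⟩⟩ := h
    have h7 : (7 : F) ≠ 0 := by
      intro h7
      have := charP_seven h7
      have h1 := FiniteField.cast_card_eq_zero F
      rw [CharP.cast_eq_zero_iff F 7, hF] at h1
      have h2 := Nat.Prime.dvd_of_dvd_pow (by norm_num) h1
      norm_num at h2
    exact (S.iso_false h7 (by rw [card_idx]; decide) e).elim
  · obtain ⟨F, _, _, m, hm, hF, ⟨e⟩⟩ := h
    have h7 : (7 : F) ≠ 0 := by
      intro h7
      have := charP_seven h7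
      have h1 := FiniteField.cast_card_eq_zero F
      rw [CharP.cast_eq_zero_iff F 7, hF] at h1
      have h2 := Nat.Prime.dvd_of_dvd_pow (by norm_num) h1
      norm_num at h2
    exact (S.iso_false h7 (by rw [card_idx]; decide) e).elim
  · obtain ⟨e⟩ := h
    refine (S.gl_false (K := ZMod 2) (by decide) (by rw [card_idx]; decide : Fintype.card Lie.chevF4.Idx < 294)
      ((Lie.twistedF4 (ZMod 2) 1).subtype.comp ((commutator (Lie.twistedF4 (ZMod 2) 1)).subtype.comp e.toMonoidHom))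
      fun h => S.z1 (e.injective (Subtype.ext (Subtype.ext ?_)))).elim
    rw [map_one]
    exact h

/-- alternating groups -/
theorem alternating {n : ℕ} (e : L ≃* alternatingGroup (Fin n)) : 294 ≤ n := by
  let ρ : L →* Module.End ℚ (Fin n → ℚ) :=
    { toFun := fun g => LinearMap.funLeft ℚ ℚ ((e g : Equiv.Perm (Fin n))⁻¹ : Equiv.Perm (Fin n))
      map_one' := by
        rw [map_one]
        rfl
      map_mul' := fun g h => by
        rw [map_mul]
        apply LinearMap.ext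
        intro f
        funext i
        show f _ = f _
        rw [Subgroup.coe_mul, mul_inv_rev]
        rfl }
  have h1 := S.dim' (K := ℚ) (by norm_num) ρ (by
    intro h
    apply S.z1
    apply e.injective
    rw [map_one]
    apply Subtype.ext
    apply inv_injective
    apply Equiv.ext
    intro i
    have h2 := congrFun (LinearMap.congr_fun h (fun j => ((j : ℕ) : ℚ))) i
    have h3 : (((((e S.z : Equiv.Perm (Fin n))⁻¹ : Equiv.Perm (Fin n)) i : Fin n) : ℕ) : ℚ) = ((i : ℕ) : ℚ) := h2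
    have h4 := Fin.ext (Nat.cast_injective h3)
    rw [h4]
    rfl)
  rwa [Module.finrank_fintype_fun_eq_card, Fintype.card_fin] at h1

end Ess

end Cfsg.Agent.H772
end

-- part: H772/SevenNT
section
/-!
# The 7-part of the orders of the classical groups (helper772)
-/

set_option autoImplicit false

namespace Cfsg.Agent.H772.SevenNT

open Finset

theorem pow_card_dvd {f : ℕ → ℕ} {m : ℕ} (S : Finset ℕ) (hS : S ⊆ range m) (h : ∀ j ∈ S, 7 ∣ f j) :
    7 ^ S.card ∣ ∏ j ∈ range m, f j := by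
  rw [← Finset.prod_const]
  exact (Finset.prod_dvd_prod_of_dvd _ _ h).trans (Finset.prod_dvd_prod_of_subset _ _ _ hS)

theorem pow_six {q : ℕ} (hq : ¬ 7 ∣ q) (k : ℕ) : q ^ (6 * k) ≡ 1 [MOD 7] := by
  have h1 : Nat.Coprime q 7 := ((Nat.Prime.coprime_iff_not_dvd (by norm_num)).2 hq).symm
  have h2 := Nat.ModEq.pow_totient h1
  rw [show Nat.totient 7 = 6 by decide] at h2
  have h3 := h2.pow k
  rwa [← pow_mul, one_pow] at h3

theorem dvd_six {q : ℕ} (hq : ¬ 7 ∣ q) (k : ℕ) : 7 ∣ q ^ (6 * k) - 1 := by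
  have h0 : 0 < q := by
    rcases Nat.eq_zero_or_pos q with h | h
    · exact absurd (h ▸ dvd_zero 7) hq
    · exact h
  exact (Nat.modEq_iff_dvd' (Nat.one_le_pow _ _ h0)).1 (pow_six hq k).symm

theorem dvd_of_sub_one {q : ℕ} (h0 : 0 < q) (hq : 7 ∣ q - 1) (k : ℕ) : 7 ∣ q ^ k - 1 := by
  have h1 : 1 ≡ q [MOD 7] := (Nat.modEq_iff_dvd' h0).2 hq
  have h2 := h1.pow k
  rw [one_pow] at h2
  exact (Nat.modEq_iff_dvd' (Nat.one_le_pow _ _ h0)).1 h2

/-! ### linear groups -/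

theorem psl_dvd {q n c : ℕ} (h0 : 2 ≤ q) (hn : 2 ≤ n)
    (h : Nat.gcd n (q - 1) * ((q - 1) * c) = ∏ i : Fin n, (q ^ n - q ^ (i : ℕ))) :
    ∏ j ∈ range (n - 2), (q ^ (j + 3) - 1) ∣ c := by
  obtain ⟨m, rfl⟩ : ∃ m, n = m + 2 := ⟨n - 2, by omega⟩
  rw [Fin.prod_univ_eq_prod_range (fun i => q ^ (m + 2) - q ^ i) (m + 2),
    ← Finset.prod_range_reflect] at h
  have h1 : ∏ j ∈ range (m + 2), (q ^ (m + 2) - q ^ (m + 2 - 1 - j)) =
      (∏ j ∈ range (m + 2), q ^ (m + 2 - 1 - j)) * ∏ j ∈ range (m + 2), (q ^ (j + 1) - 1) := by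
    rw [← Finset.prod_mul_distrib]
    refine Finset.prod_congr rfl fun j hj => ?_
    rw [mem_range] at hj
    rw [Nat.mul_sub, mul_one, ← pow_add]
    congr 2
    omega
  rw [h1, Finset.prod_range_succ' (fun j => q ^ (j + 1) - 1) (m + 1),
    Finset.prod_range_succ' (fun j => q ^ (j + 1 + 1) - 1) m] at h
  obtain ⟨k, hk⟩ : Nat.gcd (m + 2) (q - 1) * (q - 1) ∣ (q ^ (0 + 1 + 1) - 1) * (q ^ (0 + 1) - 1) := by
    rw [zero_add, pow_one]
    refine Nat.mul_dvd_mul ((Nat.gcd_dvd_right _ _).trans ?_) dvd_rfl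
    have := Nat.sub_dvd_pow_sub_pow q 1 2
    rwa [one_pow] at this
  have hG : 0 < Nat.gcd (m + 2) (q - 1) * (q - 1) :=
    Nat.mul_pos (Nat.gcd_pos_of_pos_left _ (by omega)) (by omega)
  have h2 : Nat.gcd (m + 2) (q - 1) * (q - 1) * c = Nat.gcd (m + 2) (q - 1) * (q - 1) *
      ((∏ j ∈ range m, (q ^ (j + 1 + 1 + 1) - 1)) * (k * ∏ j ∈ range (m + 2), q ^ (m + 2 - 1 - j))) := by
    rw [mul_assoc, h]
    calc _ = (∏ j ∈ range (m + 2), q ^ (m + 2 - 1 - j)) * (∏ j ∈ range m, (q ^ (j + 1 + 1 + 1) - 1)) *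
          ((q ^ (0 + 1 + 1) - 1) * (q ^ (0 + 1) - 1)) := by ring
      _ = _ := by rw [hk]; ring
  have h3 := Nat.eq_of_mul_eq_mul_left hG h2
  rw [h3]
  exact Dvd.intro _ rfl

theorem psl_seven {q n c : ℕ} (h0 : 2 ≤ q) (hq : ¬ 7 ∣ q) (hn : 42 ≤ n ∨ (7 ∣ q - 1 ∧ 18 ≤ n))
    (h : Nat.gcd n (q - 1) * ((q - 1) * c) = ∏ i : Fin n, (q ^ n - q ^ (i : ℕ))) : 7 ^ 7 ∣ c := by
  refine dvd_trans ?_ (psl_dvd h0 (by omega) h)
  rcases hn with hn | ⟨h7, hn⟩
  · refine pow_card_dvd {3, 9, 15, 21, 27, 33, 39} ?_ ?_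
    · intro j hj
      simp only [mem_insert, mem_singleton] at hj
      rw [mem_range]
      omega
    · intro j hj
      simp only [mem_insert, mem_singleton] at hj
      rcases hj with rfl | rfl | rfl | rfl | rfl | rfl | rfl
      · exact dvd_six hq 1
      · exact dvd_six hq 2
      · exact dvd_six hq 3
      · exact dvd_six hq 4
      · exact dvd_six hq 5
      · exact dvd_six hq 6
      · exact dvd_six hq 7
  · refine pow_card_dvd (range 7) ?_ ?_
    · intro j hj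
      rw [mem_range] at hj ⊢
      omega
    · intro j _
      exact dvd_of_sub_one (by omega) h7 _

/-! ### unitary groups -/

theorem psu_dvd {q n c : ℕ} (h0 : 2 ≤ q) (hn : 2 ≤ n)
    (h : Nat.gcd n (q + 1) * ((q + 1) * c) = q ^ (n * (n - 1) / 2) *
      ∏ i ∈ range n, (if Even i then q ^ (i + 1) + 1 else q ^ (i + 1) - 1)) :
    ∏ j ∈ range (n - 2), (if Even j then q ^ (j + 3) + 1 else q ^ (j + 3) - 1) ∣ c := by
  obtain ⟨m, rfl⟩ : ∃ m, n = m + 2 := ⟨n - 2, by omega⟩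
  rw [Finset.prod_range_succ' _ (m + 1), Finset.prod_range_succ'] at h
  have e0 : (if Even 0 then q ^ (0 + 1) + 1 else q ^ (0 + 1) - 1) = q + 1 := by simp only [_root_.Even.zero, ↓ _root_.reduceIte, _root_.zero_add, _root_.pow_one, _root_.Nat.add_left_cancel_iff]
  have e1 : (if Even (0 + 1) then q ^ (0 + 1 + 1) + 1 else q ^ (0 + 1 + 1) - 1) = q ^ 2 - 1 := by simp only [_root_.zero_add, _root_.Nat.not_even_one, ↓ _root_.reduceIte, _root_.Nat.reduceAdd]
  rw [e0, e1] at h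
  obtain ⟨k, hk⟩ : Nat.gcd (m + 2) (q + 1) * (q + 1) ∣ (q ^ 2 - 1) * (q + 1) := by
    refine Nat.mul_dvd_mul ((Nat.gcd_dvd_right _ _).trans ?_) dvd_rfl
    rw [show q ^ 2 - 1 = (q + 1) * (q - 1) by
      have := Nat.sq_sub_sq q 1
      rwa [one_pow] at this]
    exact Dvd.intro _ rfl
  have hG : 0 < Nat.gcd (m + 2) (q + 1) * (q + 1) :=
    Nat.mul_pos (Nat.gcd_pos_of_pos_left _ (by omega)) (by omega)
  have h2 : Nat.gcd (m + 2) (q + 1) * (q + 1) * c = Nat.gcd (m + 2) (q + 1) * (q + 1) *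
      ((∏ j ∈ range m, (if Even (j + 1 + 1) then q ^ (j + 1 + 1 + 1) + 1 else q ^ (j + 1 + 1 + 1) - 1)) *
        (k * q ^ ((m + 2) * (m + 2 - 1) / 2))) := by
    rw [mul_assoc, h]
    calc _ = q ^ ((m + 2) * (m + 2 - 1) / 2) *
          (∏ j ∈ range m, (if Even (j + 1 + 1) then q ^ (j + 1 + 1 + 1) + 1 else q ^ (j + 1 + 1 + 1) - 1)) *
          ((q ^ 2 - 1) * (q + 1)) := by ring
      _ = _ := by rw [hk]; ring
  have h3 := Nat.eq_of_mul_eq_mul_left hG h2
  rw [h3]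
  have h4 : ∏ j ∈ range (m + 2 - 2), (if Even j then q ^ (j + 3) + 1 else q ^ (j + 3) - 1) =
      ∏ j ∈ range m, (if Even (j + 1 + 1) then q ^ (j + 1 + 1 + 1) + 1 else q ^ (j + 1 + 1 + 1) - 1) := by
    refine Finset.prod_congr rfl fun j _ => ?_
    have h5 : Even (j + 1 + 1) ↔ Even j := by
      rw [show j + 1 + 1 = j + 2 by ring, Nat.even_add]
      simp only [_root_.even_two, _root_.iff_true]
    simp only [h5]
  rw [h4]
  exact Dvd.intro _ rfl

theorem psu_seven {q n c : ℕ} (h0 : 2 ≤ q) (hq : ¬ 7 ∣ q) (hn : 42 ≤ n ∨ (7 ∣ q + 1 ∧ 18 ≤ n))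
    (h : Nat.gcd n (q + 1) * ((q + 1) * c) = q ^ (n * (n - 1) / 2) *
      ∏ i ∈ range n, (if Even i then q ^ (i + 1) + 1 else q ^ (i + 1) - 1)) : 7 ^ 7 ∣ c := by
  refine dvd_trans ?_ (psu_dvd h0 (by omega) h)
  rcases hn with hn | ⟨h7, hn⟩
  · refine pow_card_dvd {3, 9, 15, 21, 27, 33, 39} ?_ ?_
    · intro j hj
      simp only [mem_insert, mem_singleton] at hj
      rw [mem_range]
      omega
    · intro j hj
      simp only [mem_insert, mem_singleton] at hj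
      rcases hj with rfl | rfl | rfl | rfl | rfl | rfl | rfl
      · rw [if_neg (by decide)]; exact dvd_six hq 1
      · rw [if_neg (by decide)]; exact dvd_six hq 2
      · rw [if_neg (by decide)]; exact dvd_six hq 3
      · rw [if_neg (by decide)]; exact dvd_six hq 4
      · rw [if_neg (by decide)]; exact dvd_six hq 5
      · rw [if_neg (by decide)]; exact dvd_six hq 6
      · rw [if_neg (by decide)]; exact dvd_six hq 7
  · refine pow_card_dvd (range 7) ?_ ?_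
    · intro j hj
      rw [mem_range] at hj ⊢
      omega
    · intro j _
      refine h7.trans ?_
      split_ifs with he
      · have h1 : Odd (j + 3) := by
          obtain ⟨t, rfl⟩ := he
          exact ⟨t + 1, by ring⟩
        have := h1.nat_add_dvd_pow_add_pow q 1
        rwa [one_pow] at this
      · obtain ⟨t, ht⟩ := Nat.not_even_iff_odd.1 he
        have h1 : j + 3 = 2 * (t + 2) := by omega
        rw [h1, pow_mul]
        have h2 : q + 1 ∣ q ^ 2 - 1 := by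
          rw [show q ^ 2 - 1 = (q + 1) * (q - 1) by
            have := Nat.sq_sub_sq q 1
            rwa [one_pow] at this]
          exact Dvd.intro _ rfl
        refine h2.trans ?_
        have := Nat.sub_dvd_pow_sub_pow (q ^ 2) 1 (t + 2)
        rwa [one_pow] at this

/-! ### symplectic and orthogonal groups -/

theorem sp_seven {q m : ℕ} (hq : ¬ 7 ∣ q) (hm : 21 ≤ m) : 7 ^ 7 ∣ ∏ i ∈ range m, (q ^ (2 * (i + 1)) - 1) := by
  refine pow_card_dvd {2, 5, 8, 11, 14, 17, 20} ?_ ?_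
  · intro j hj
    simp only [mem_insert, mem_singleton] at hj
    rw [mem_range]
    omega
  · intro j hj
    simp only [mem_insert, mem_singleton] at hj
    rcases hj with rfl | rfl | rfl | rfl | rfl | rfl | rfl
    · exact dvd_six hq 1
    · exact dvd_six hq 2
    · exact dvd_six hq 3
    · exact dvd_six hq 4
    · exact dvd_six hq 5
    · exact dvd_six hq 6
    · exact dvd_six hq 7

theorem coprime_gcd_of_dvd {a b : ℕ} (h : a ∣ 4) : Nat.Coprime (7 ^ 7) (Nat.gcd a b) :=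
  Nat.Coprime.pow_left 7 (Nat.Coprime.coprime_dvd_right ((Nat.gcd_dvd_left _ _).trans h) (by norm_num))

theorem psp_seven {q m c : ℕ} (hq : ¬ 7 ∣ q) (hm : 21 ≤ m)
    (h : Nat.gcd 2 (q - 1) * c = q ^ (m ^ 2) * ∏ i ∈ range m, (q ^ (2 * (i + 1)) - 1)) : 7 ^ 7 ∣ c := by
  have h1 : 7 ^ 7 ∣ Nat.gcd 2 (q - 1) * c := by
    rw [h]
    exact Dvd.dvd.mul_left (sp_seven hq hm) _
  exact (coprime_gcd_of_dvd (by norm_num)).dvd_of_dvd_mul_left h1

theorem odd_seven {q m c : ℕ} (hq : ¬ 7 ∣ q) (hm : 21 ≤ m)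
    (h : 2 * c = q ^ (m ^ 2) * ∏ i ∈ range m, (q ^ (2 * (i + 1)) - 1)) : 7 ^ 7 ∣ c := by
  have h1 : 7 ^ 7 ∣ 2 * c := by
    rw [h]
    exact Dvd.dvd.mul_left (sp_seven hq hm) _
  exact (Nat.Coprime.pow_left 7 (by norm_num : Nat.Coprime 7 2)).dvd_of_dvd_mul_left h1

theorem even_seven {q m c A e f : ℕ} (hq : ¬ 7 ∣ q) (hm : 22 ≤ m)
    (h : Nat.gcd 4 A * c = e * f * ∏ i ∈ range (m - 1), (q ^ (2 * (i + 1)) - 1)) : 7 ^ 7 ∣ c := by
  have h1 : 7 ^ 7 ∣ Nat.gcd 4 A * c := by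
    rw [h]
    exact Dvd.dvd.mul_left (sp_seven hq (by omega)) _
  exact (coprime_gcd_of_dvd (by norm_num)).dvd_of_dvd_mul_left h1

end Cfsg.Agent.H772.SevenNT
end

-- part: H772/EssClass
section
/-!
# `7^{1+4}` with a rational centre is not contained in a classical group of characteristic different from 7 and 7-part at
most `7^6` (helper772)
-/

set_option autoImplicit false

namespace Cfsg.Agent.H772

open Cfsg Subgroup

universe u v

namespace Ess

/-- quotients by a centre of order prime to 7 -/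
theorem of_quo {H : Type*} [Group H] (S : Ess (H ⧸ center H)) {m : ℕ} (hm : Nat.Coprime 7 m)
    (hk : ∀ k ∈ center H, k ^ m = 1) : Nonempty (Ess H) := by
  obtain ⟨S', -⟩ := S.lift (π := QuotientGroup.mk' (center H)) (QuotientGroup.mk'_surjective _) (m := m)
    (fun k hk g => (mem_center_iff.1 ((QuotientGroup.eq_one_iff k).1 hk) g).symm) hm
    (fun k hk' => hk k ((QuotientGroup.eq_one_iff k).1 hk'))
  exact ⟨S'⟩

/-- conjugation on matrices -/
theorem adj {H : Type*} [Group H] {K : Type*} [Field K] (h7 : (7 : K) ≠ 0) {n : ℕ} (f : H →* GL (Fin n) K)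
    (hc : ∀ h, h ∈ center H ↔ ∀ M : Matrix (Fin n) (Fin n) K, (f h : Matrix (Fin n) (Fin n) K) * M = M * f h)
    (S : Ess (H ⧸ center H)) : 294 ≤ n * n := by
  let ρ₀ : H →* Module.End K (Matrix (Fin n) (Fin n) K) :=
    { toFun := fun h =>
        { toFun := fun M => (f h : Matrix (Fin n) (Fin n) K) * M * (f h⁻¹ : GL (Fin n) K)
          map_add' := fun M N => by rw [Matrix.mul_add, Matrix.add_mul]
          map_smul' := fun c M => by
            rw [Matrix.mul_smul, Matrix.smul_mul]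
            rfl }
      map_one' := by
        apply LinearMap.ext
        intro M
        show (f 1 : Matrix (Fin n) (Fin n) K) * M * (f 1⁻¹ : GL (Fin n) K) = M
        rw [inv_one, map_one, Units.val_one, one_mul, mul_one]
      map_mul' := fun g h => by
        apply LinearMap.ext
        intro M
        show (f (g * h) : Matrix (Fin n) (Fin n) K) * M * (f (g * h)⁻¹ : GL (Fin n) K) =
          (f g : Matrix (Fin n) (Fin n) K) * ((f h : Matrix (Fin n) (Fin n) K) * M * (f h⁻¹ : GL (Fin n) K)) *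
            (f g⁻¹ : GL (Fin n) K)
        rw [mul_inv_rev, map_mul, map_mul, Units.val_mul, Units.val_mul]
        simp only [mul_assoc] }
  have hρ : ∀ h, ρ₀ h = 1 ↔ h ∈ center H := by
    intro h
    rw [hc]
    have hinv : (f h⁻¹ : Matrix (Fin n) (Fin n) K) * (f h : Matrix (Fin n) (Fin n) K) = 1 := by
      rw [← Units.val_mul, ← map_mul, inv_mul_cancel, map_one, Units.val_one]
    have hinv' : (f h : Matrix (Fin n) (Fin n) K) * (f h⁻¹ : Matrix (Fin n) (Fin n) K) = 1 := by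
      rw [← Units.val_mul, ← map_mul, mul_inv_cancel, map_one, Units.val_one]
    constructor
    · intro h1 M
      have h2 : (f h : Matrix (Fin n) (Fin n) K) * M * (f h⁻¹ : GL (Fin n) K) = M := LinearMap.congr_fun h1 M
      calc (f h : Matrix (Fin n) (Fin n) K) * M =
          (f h : Matrix (Fin n) (Fin n) K) * M * (f h⁻¹ : GL (Fin n) K) * f h := by
            rw [mul_assoc _ (f h⁻¹ : Matrix (Fin n) (Fin n) K), hinv, mul_one]
        _ = M * f h := by rw [h2]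
    · intro h1
      apply LinearMap.ext
      intro M
      show (f h : Matrix (Fin n) (Fin n) K) * M * (f h⁻¹ : GL (Fin n) K) = M
      rw [h1, mul_assoc, hinv', mul_one]
  let ρ : H ⧸ center H →* Module.End K (Matrix (Fin n) (Fin n) K) :=
    QuotientGroup.lift (center H) ρ₀ (fun h hh => (hρ h).2 hh)
  have h1 := S.dim' h7 ρ (by
    intro h
    apply S.z1
    obtain ⟨k, hk⟩ := QuotientGroup.mk_surjective S.z
    rw [← hk] at h ⊢
    exact (QuotientGroup.eq_one_iff k).2 ((hρ k).1 h))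
  rwa [Module.finrank_matrix, Module.finrank_self, Fintype.card_fin, mul_one] at h1

variable {F : Type} [Field F] [Fintype F]

omit [Fintype F] in
theorem not_dvd_card [Fintype F] (h7 : (7 : F) ≠ 0) : ¬ 7 ∣ Fintype.card F := by
  intro h
  obtain ⟨p, hp⟩ := CharP.exists F
  obtain ⟨n, hpp, hn⟩ := FiniteField.card F p
  rw [hn] at h
  have h1 : 7 ∣ p := Nat.Prime.dvd_of_dvd_pow (by norm_num) h
  have h2 : 7 = p := ((Nat.prime_dvd_prime_iff_eq (by norm_num) hpp).1 h1)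
  subst h2
  apply h7
  have := CharP.cast_eq_zero F 7
  exact_mod_cast this

/-! ### `PSL` -/

theorem psl {n : ℕ} (hn : 2 ≤ n) (h7 : (7 : F) ≠ 0) (S : Ess (Matrix.ProjectiveSpecialLinearGroup (Fin n) F))
    (h : ¬ 7 ^ 7 ∣ Nat.card (Matrix.ProjectiveSpecialLinearGroup (Fin n) F)) : False := by
  have hq : ¬ 7 ∣ Fintype.card F := not_dvd_card h7
  have h2 : 2 ≤ Fintype.card F := Fintype.one_lt_card
  have hord := S0243.result (F := F) rfl n hn
  let f : Matrix.SpecialLinearGroup (Fin n) F →* GL (Fin n) F := Matrix.SpecialLinearGroup.toGL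
  have hcard : Nat.card (center (Matrix.SpecialLinearGroup (Fin n) F)) = Nat.gcd n (Fintype.card F - 1) :=
    S0280.card_center_SL (by omega)
  by_cases hn17 : n ≤ 17
  · have h1 := adj h7 f (fun g => ?_) S
    · have h3 : n * n ≤ 17 * 17 := Nat.mul_le_mul hn17 hn17
      omega
    · constructor
      · intro hg M
        obtain ⟨r, -, hr⟩ := Matrix.SpecialLinearGroup.mem_center_iff.1 hg
        show (g : Matrix (Fin n) (Fin n) F) * M = M * (g : Matrix (Fin n) (Fin n) F)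
        rw [← hr]
        exact (Matrix.scalar_commute r (fun r' => mul_comm r r') M).eq
      · intro hM
        rw [mem_center_iff]
        intro k
        apply Subtype.ext
        exact (hM k).symm
  · by_cases h71 : 7 ∣ Fintype.card F - 1
    · exact h (SevenNT.psl_seven h2 hq (Or.inr ⟨h71, by omega⟩) hord)
    · by_cases hn42 : 42 ≤ n
      · exact h (SevenNT.psl_seven h2 hq (Or.inl hn42) hord)
      · obtain ⟨S'⟩ := S.of_quo (m := Nat.gcd n (Fintype.card F - 1)) (Nat.Coprime.coprime_dvd_right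
          (Nat.gcd_dvd_right _ _) ((Nat.Prime.coprime_iff_not_dvd (by norm_num)).2 h71)) (by
          intro k hk
          have h3 := pow_card_eq_one' (x := (⟨k, hk⟩ : center (Matrix.SpecialLinearGroup (Fin n) F)))
          rw [hcard] at h3
          exact congrArg Subtype.val h3)
        refine S'.gl_false h7 (by rw [Fintype.card_fin]; omega) f (fun h3 => S'.z1 ?_)
        exact Matrix.SpecialLinearGroup.toGL_injective (by rw [map_one]; exact h3)

/-! ### `PSU` -/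

theorem psu {n q : ℕ} (hF : Fintype.card F = q ^ 2) (hn : 3 ≤ n) (h7 : (7 : F) ≠ 0) (S : Ess (PSU n F q))
    (h : ¬ 7 ^ 7 ∣ Nat.card (PSU n F q)) : False := by
  have hq : ¬ 7 ∣ q := fun h1 => not_dvd_card h7 (by rw [hF]; exact h1.trans (dvd_pow_self q two_ne_zero))
  have h2 : 2 ≤ q := LieClassical.HermBasic.two_le hF
  have hord := S0280.result hF n (by omega)
  let f : SU n F q →* GL (Fin n) F := (Matrix.SpecialLinearGroup.toGL).comp (SU n F q).subtype
  have hcard : Nat.card (center (SU n F q)) = Nat.gcd n (q + 1) := S0280.card_center hF n (by omega)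
  by_cases hn17 : n ≤ 17
  · have h1 := adj h7 f (fun g => ?_) S
    · have h3 : n * n ≤ 17 * 17 := Nat.mul_le_mul hn17 hn17
      omega
    · constructor
      · intro hg M
        obtain ⟨c, hcn, hcq, rfl⟩ := (LieClassical.SUBasic.mem_center_SU_iff hF hn g).1 hg
        show Matrix.diagonal (fun _ => c) * M = M * Matrix.diagonal (fun _ => c)
        ext i j
        rw [Matrix.mul_diagonal, Matrix.diagonal_mul, mul_comm]
      · intro hM
        rw [mem_center_iff]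
        intro k
        apply Subtype.ext
        apply Subtype.ext
        exact (hM ((k : Matrix.SpecialLinearGroup (Fin n) F) : Matrix (Fin n) (Fin n) F)).symm
  · by_cases h71 : 7 ∣ q + 1
    · exact h (SevenNT.psu_seven h2 hq (Or.inr ⟨h71, by omega⟩) hord)
    · by_cases hn42 : 42 ≤ n
      · exact h (SevenNT.psu_seven h2 hq (Or.inl hn42) hord)
      · obtain ⟨S'⟩ := S.of_quo (m := Nat.gcd n (q + 1)) (Nat.Coprime.coprime_dvd_right
          (Nat.gcd_dvd_right _ _) ((Nat.Prime.coprime_iff_not_dvd (by norm_num)).2 h71)) (by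
          intro k hk
          have h3 := pow_card_eq_one' (x := (⟨k, hk⟩ : center (SU n F q)))
          rw [hcard] at h3
          exact congrArg Subtype.val h3)
        refine S'.gl_false h7 (by rw [Fintype.card_fin]; omega) f (fun h3 => S'.z1 (Subtype.ext ?_))
        exact Matrix.SpecialLinearGroup.toGL_injective (by rw [Subgroup.coe_one, map_one]; exact h3)

/-! ### `PSp` -/

theorem psp {m : ℕ} (hm : 2 ≤ m) (h7 : (7 : F) ≠ 0) (S : Ess (PSp m F)) (h : ¬ 7 ^ 7 ∣ Nat.card (PSp m F)) :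
    False := by
  have hq : ¬ 7 ∣ Fintype.card F := not_dvd_card h7
  have hcard := S0246.result (F := F) rfl m (by omega)
  have hord : Nat.gcd 2 (Fintype.card F - 1) * Nat.card (PSp m F) =
      Fintype.card F ^ (m ^ 2) * ∏ i ∈ Finset.range m, (Fintype.card F ^ (2 * (i + 1)) - 1) := by
    rw [← S0245.result (F := F) rfl m, ← hcard, mul_comm]
    exact (Subgroup.card_eq_card_quotient_mul_card_subgroup _).symm
  by_cases hm21 : 21 ≤ m
  · exact h (SevenNT.psp_seven hq hm21 hord)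
  · obtain ⟨S'⟩ := S.of_quo (m := Nat.gcd 2 (Fintype.card F - 1)) (Nat.Coprime.coprime_dvd_right
      (Nat.gcd_dvd_left _ _) (by norm_num)) (by
      intro k hk
      have h3 := pow_card_eq_one' (x := (⟨k, hk⟩ : center (Matrix.symplecticGroup (Fin m) F)))
      rw [hcard] at h3
      exact congrArg Subtype.val h3)
    have h1 := S'.dim_mat h7 (Matrix.symplecticGroup (Fin m) F).subtype (fun h3 => S'.z1 (Subtype.ext h3))
    rw [Fintype.card_sum, Fintype.card_fin] at h1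
    omega

/-! ### orthogonal groups -/

open QuadraticMap in
omit [Fintype F] in
theorem pomega {ι : Type} [Fintype ι] [DecidableEq ι] (h7 : (7 : F) ≠ 0) (Q : QuadraticForm F (ι → F))
    (hQ : (polarBilin Q).Nondegenerate) (hn : 3 ≤ Fintype.card ι) (hs : ∃ u : ι → F, u ≠ 0 ∧ Q u = 0)
    (hι : Fintype.card ι < 294) (S : Ess (POmega F (⇑Q))) : False := by
  obtain ⟨S'⟩ := S.of_quo (m := 2) (by norm_num) (by
    intro k hk
    have h1 := LieClassical.OrthCenter.eq_one_or_neg_one_of_commute_omega hQ hn hs (k : isometryGroup F (⇑Q))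
      (fun g hg => (congrArg Subtype.val (mem_center_iff.1 hk ⟨g, hg⟩)).symm)
    have h2 : (((k : isometryGroup F (⇑Q)) : GL ι F) : Matrix ι ι F) *
        (((k : isometryGroup F (⇑Q)) : GL ι F) : Matrix ι ι F) = 1 := by
      rcases h1 with h1 | h1
      · rw [h1, mul_one]
      · rw [h1, neg_mul_neg, mul_one]
    apply Subtype.ext
    apply Subtype.ext
    apply Units.ext
    rw [pow_two]
    exact h2)
  exact S'.gl_false h7 hι ((isometryGroup F (⇑Q)).subtype.comp (Omega F (⇑Q)).subtype)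
    (fun h3 => S'.z1 (Subtype.ext (Subtype.ext h3)))

theorem podd {m : ℕ} (hm : 3 ≤ m) (hodd : Odd (Fintype.card F)) (h7 : (7 : F) ≠ 0)
    (S : Ess (POmega F (quadFormOdd m F))) (h : ¬ 7 ^ 7 ∣ Nat.card (POmega F (quadFormOdd m F))) : False := by
  have hq : ¬ 7 ∣ Fintype.card F := not_dvd_card h7
  by_cases hm21 : 21 ≤ m
  · exact h (SevenNT.odd_seven hq hm21 (S0292.result rfl hodd m hm))
  · have h2 : (2 : F) ≠ 0 := by
      rw [← LieClassical.PomegaCard.odd_card_iff]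
      exact hodd
    have hc : Fintype.card (Unit ⊕ (Fin m ⊕ Fin m)) = 2 * m + 1 := by
      simp only [_root_.Fintype.card_sum, _root_.Fintype.card_unique, _root_.Fintype.card_fin]
      ring
    rw [← LieClassical.QuadForms.coe_oddForm] at S
    exact pomega h7 _ (S0292.oddForm_nondegenerate h2 m) (by omega) (S0292.exists_singular (by omega)) (by omega) S

theorem pplus {m : ℕ} (hm : 4 ≤ m) (h7 : (7 : F) ≠ 0)
    (S : Ess (POmega F (quadFormPlus m F))) (h : ¬ 7 ^ 7 ∣ Nat.card (POmega F (quadFormPlus m F))) : False := by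
  have hq : ¬ 7 ∣ Fintype.card F := not_dvd_card h7
  by_cases hm21 : 22 ≤ m
  · exact h (SevenNT.even_seven hq hm21 (S0293.result rfl m hm))
  · have hc : Fintype.card (Fin m ⊕ Fin m) = 2 * m := by
      simp only [_root_.Fintype.card_sum, _root_.Fintype.card_fin]
      ring
    rw [← LieClassical.OmegaReindex.coe_quadPlus] at S
    exact pomega h7 _ LieClassical.OmegaReindex.quadPlus_nondegenerate (by omega)
      (LieClassical.OmegaReindex.quadPlus_isotropic (by omega)) (by omega) S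

theorem pminus {m : ℕ} (hm : 4 ≤ m) (h7 : (7 : F) ≠ 0) {a b : F}
    (hab : ∀ z₁ z₂ : F, z₁ ^ 2 + a * z₁ * z₂ + b * z₂ ^ 2 = 0 → z₁ = 0 ∧ z₂ = 0)
    (S : Ess (POmega F (quadFormMinus (m - 1) F a b)))
    (h : ¬ 7 ^ 7 ∣ Nat.card (POmega F (quadFormMinus (m - 1) F a b))) : False := by
  have hq : ¬ 7 ∣ Fintype.card F := not_dvd_card h7
  by_cases hm21 : 22 ≤ m
  · exact h (SevenNT.even_seven hq hm21 (S0294.result rfl m hm a b hab))
  · have hc : Fintype.card ((Fin (m - 1) ⊕ Fin (m - 1)) ⊕ Fin 2) = 2 * m := by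
      simp only [Fintype.card_sum, Fintype.card_fin]
      omega
    rw [← LieClassical.OmegaReindex.coe_quadMinus] at S
    exact pomega h7 _ (LieClassical.OmegaReindex.quadMinus_nondegenerate hab) (by omega)
      (LieClassical.OmegaReindex.quadMinus_isotropic (by omega) a b) (by omega) S

/-! ### all classical groups -/

theorem _root_.Cfsg.Agent.H772.Ess.classical {L : Type u} [Group L] (S : Ess L) (h : ¬ 7 ^ 7 ∣ Nat.card L)
    (hL : IsPSL L ∨ IsPSp L ∨ IsPSU L ∨ IsPOmegaOdd L ∨ IsPOmegaPlus L ∨ IsPOmegaMinus L) : IsLieTypeChar 7 L := by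
  rcases hL with hL | hL | hL | hL | hL | hL
  · obtain ⟨F, _, _, n, hn, hn2, ⟨e⟩⟩ := hL
    by_cases h7 : (7 : F) = 0
    · exact Or.inl ⟨F, _, inferInstance, charP_seven h7, n, hn, hn2, ⟨e⟩⟩
    · rw [Nat.card_congr e.toEquiv] at h
      exact (psl hn h7 (S.map e.toMonoidHom e.injective) h).elim
  · obtain ⟨F, _, _, n, hn, hn2, ⟨e⟩⟩ := hL
    by_cases h7 : (7 : F) = 0
    · exact Or.inr (Or.inl ⟨F, _, inferInstance, charP_seven h7, n, hn, hn2, ⟨e⟩⟩)
    · rw [Nat.card_congr e.toEquiv] at h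
      exact (psp hn h7 (S.map e.toMonoidHom e.injective) h).elim
  · obtain ⟨F, _, _, n, q, hF, hn, hn2, ⟨e⟩⟩ := hL
    by_cases h7 : (7 : F) = 0
    · exact Or.inr (Or.inr (Or.inl ⟨F, _, inferInstance, charP_seven h7, n, q, hF, hn, hn2, ⟨e⟩⟩))
    · rw [Nat.card_congr e.toEquiv] at h
      exact (psu hF hn h7 (S.map e.toMonoidHom e.injective) h).elim
  · obtain ⟨F, _, _, m, hm, ho, ⟨e⟩⟩ := hL
    by_cases h7 : (7 : F) = 0
    · exact Or.inr (Or.inr (Or.inr (Or.inl ⟨F, _, inferInstance, charP_seven h7, m, hm, ho, ⟨e⟩⟩)))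
    · rw [Nat.card_congr e.toEquiv] at h
      exact (podd hm ho h7 (S.map e.toMonoidHom e.injective) h).elim
  · obtain ⟨F, _, _, m, hm, ⟨e⟩⟩ := hL
    by_cases h7 : (7 : F) = 0
    · exact Or.inr (Or.inr (Or.inr (Or.inr (Or.inl ⟨F, _, inferInstance, charP_seven h7, m, hm, ⟨e⟩⟩))))
    · rw [Nat.card_congr e.toEquiv] at h
      exact (pplus hm h7 (S.map e.toMonoidHom e.injective) h).elim
  · obtain ⟨F, _, _, m, a, b, hm, hab, ⟨e⟩⟩ := hL
    by_cases h7 : (7 : F) = 0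
    · exact Or.inr (Or.inr (Or.inr (Or.inr (Or.inr (Or.inl
        ⟨F, _, inferInstance, charP_seven h7, m, a, b, hm, hab, ⟨e⟩⟩)))))
    · rw [Nat.card_congr e.toEquiv] at h
      exact (pminus hm h7 hab (S.map e.toMonoidHom e.injective) h).elim

end Ess

end Cfsg.Agent.H772
end

-- part: H772/EssKnown
section
/-!
# Known simple groups with `7^{1+4}`, a rational centre and 7-part `7^6` (helper772)
-/

set_option autoImplicit false

namespace Cfsg.Agent.H772

open Cfsg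

universe u v

theorem Ess.known {L : Type u} [Group L] (S : Ess L) (h6 : 7 ^ 6 ∣ Nat.card L) (h7 : ¬ 7 ^ 7 ∣ Nat.card L)
    (hK : IsKnownSimple' L) : IsLieTypeChar 7 L ∨ Spor.IsoM L := by
  rcases hK with h | h | h | h | h | h | h | h | h | h
  · exfalso
    have h1 : (Nat.card L).Prime := h
    have h2 : 7 ∣ Nat.card L := dvd_trans (by norm_num) h6
    have h3 := (Nat.prime_dvd_prime_iff_eq (by norm_num) h1).1 h2
    rw [← h3] at h6
    norm_num at h6
  · exfalso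
    obtain ⟨n, -, ⟨e⟩⟩ := h
    have hn := S.alternating e
    apply h7
    rw [Nat.card_congr e.toEquiv]
    have : Nontrivial (Fin n) := Fin.nontrivial_iff_two_le.2 (by omega)
    have h1 : 2 * Nat.card (alternatingGroup (Fin n)) = n.factorial := by
      have := two_mul_nat_card_alternatingGroup (α := Fin n)
      rwa [Nat.card_perm, Nat.card_fin] at this
    have h2 : 7 ^ 7 ∣ 2 * Nat.card (alternatingGroup (Fin n)) := by
      rw [h1]
      have h3 : 7 ^ 7 ∣ Nat.factorial 49 := by decide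
      exact h3.trans (Nat.factorial_dvd_factorial (by omega))
    exact (Nat.Coprime.pow_left 7 (by norm_num : Nat.Coprime 7 2)).dvd_of_dvd_mul_left h2
  · exact Or.inl (S.classical h7 (Or.inl h))
  · exact Or.inl (S.classical h7 (Or.inr (Or.inl h)))
  · exact Or.inl (S.classical h7 (Or.inr (Or.inr (Or.inl h))))
  · exact Or.inl (S.classical h7 (Or.inr (Or.inr (Or.inr (Or.inl h)))))
  · exact Or.inl (S.classical h7 (Or.inr (Or.inr (Or.inr (Or.inr (Or.inl h))))))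
  · exact Or.inl (S.classical h7 (Or.inr (Or.inr (Or.inr (Or.inr (Or.inr h))))))
  · exact Or.inl (S.exceptional h)
  · rcases h with h | h | h | h | h | h | h | h | h | h | h | h | h | h | h | h | h | h | h | h | h | h | h | h | h | h
    · rw [NotCT.Orders.m11 h] at h6; norm_num at h6
    · rw [NotCT.Orders.m12 h] at h6; norm_num at h6
    · rw [NotCT.Orders.m22 h] at h6; norm_num at h6
    · rw [NotCT.Orders.m23 h] at h6; norm_num at h6
    · rw [NotCT.Orders.m24 h] at h6; norm_num at h6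
    · rw [NotCT.Orders.j1 h] at h6; norm_num at h6
    · rw [NotCT.Orders.j2 h] at h6; norm_num at h6
    · rw [NotCT.Orders.j3 h] at h6; norm_num at h6
    · rw [NotCT.Orders.j4 h] at h6; norm_num at h6
    · rw [NotCT.Orders.co1 h] at h6; norm_num at h6
    · rw [NotCT.Orders.co2 h] at h6; norm_num at h6
    · rw [NotCT.Orders.co3 h] at h6; norm_num at h6
    · rw [NotCT.Orders.mcl h] at h6; norm_num at h6
    · rw [NotCT.Orders.hs h] at h6; norm_num at h6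
    · rw [NotCT.Orders.suz h] at h6; norm_num at h6
    · rw [NotCT.Orders.he h] at h6; norm_num at h6
    · rw [NotCT.Orders.ru h] at h6; norm_num at h6
    · rw [NotCT.Orders.on h] at h6; norm_num at h6
    · rw [NotCT.Orders.ly h] at h6; norm_num at h6
    · rw [NotCT.Orders.fi22 h] at h6; norm_num at h6
    · rw [NotCT.Orders.fi23 h] at h6; norm_num at h6
    · rw [NotCT.Orders.fi24 h] at h6; norm_num at h6
    · rw [NotCT.Orders.hn h] at h6; norm_num at h6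
    · rw [NotCT.Orders.th h] at h6; norm_num at h6
    · rw [NotCT.Orders.b h] at h6; norm_num at h6
    · exact Or.inr h

end Cfsg.Agent.H772
end

-- part: H772/PearlMain
section
/-!
# The system with a pearl is not realizable, given the classification and `(7:3) × (7:3) ≤ M` (helper772)
-/

set_option autoImplicit false

namespace Cfsg.Agent.H772.Pearl

open Subgroup Cfsg Cfsg.FusionSystem Cfsg.Agent.H386.Factor

universe u v

variable {X : Type u} [Group X] {D : Data X} {G : Type v} [Group G]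

/-- the elements of `(7:3) × (7:3)` -/
def Torus (L : Type u) [Group L] : Prop :=
  ∃ a b s t : L, a ^ 7 = 1 ∧ b ^ 7 = 1 ∧ a ≠ 1 ∧ b ≠ 1 ∧ a * b = b * a ∧ a ∉ zpowers b ∧ s * a * s⁻¹ = a ^ 2 ∧
    s * b * s⁻¹ = b ∧ t * b * t⁻¹ = b ^ 2 ∧ t * a * t⁻¹ = a

/-- the element `diag(5, 3)` -/
def A53 : Matrix.SpecialLinearGroup (Fin 2) (ZMod 7) := ⟨!![5, 0; 0, 3], by rw [Matrix.det_fin_two_of]; decide⟩

theorem Data.A53_z : ((D.ρ A53 (D.pt 0 1) : D.E) : X) = D.z ^ 3 := by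
  rw [D.ρ_pt, D.coe_pt]
  show D.x ^ ((5 : ZMod 7) * 0 + 0 * 1).val * D.z ^ ((0 : ZMod 7) * 0 + 3 * 1).val = _
  have e1 : ((5 : ZMod 7) * 0 + 0 * 1).val = 0 := by decide
  have e2 : ((0 : ZMod 7) * 0 + 3 * 1).val = 3 := by decide
  rw [e1, e2, pow_zero, one_mul]

namespace Real

variable {ι : X →* G} (R : Real D ι)

include R

/-- the extraspecial group in `N` -/
theorem exists_ess [Finite G] {N : Subgroup G} [hN : N.Normal] (h7 : 7 ∣ Nat.card N) : Nonempty (Ess N) := by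
  have htop := R.comap_eq_top h7
  have hιN : ∀ y, ι y ∈ N := fun y => by
    have : y ∈ N.comap ι := by rw [htop]; exact mem_top y
    exact this
  let f : X →* N := ι.codRestrict N hιN
  have hf : Function.Injective f := fun y w h => R.inj (congrArg Subtype.val h)
  obtain ⟨n, hn, hne⟩ := R.exists_n h7 A53
  have h1 := hne (D.pt 0 1)
  rw [Data.A53_z, D.coe_pt01] at h1
  refine ⟨{ z := f D.z, a₁ := f D.a₁, b₁ := f D.b₁, a₂ := f D.a₂, b₂ := f D.b₂, h := ⟨n, hn⟩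
            z7 := by rw [← map_pow, D.z7, map_one]
            a₁7 := by rw [← map_pow, D.a₁7, map_one]
            b₁7 := by rw [← map_pow, D.b₁7, map_one]
            a₂7 := by rw [← map_pow, D.a₂7, map_one]
            b₂7 := by rw [← map_pow, D.b₂7, map_one]
            z1 := fun h => D.z1 (hf (by rw [h, map_one]))
            za₁ := by rw [← map_mul, D.zc, map_mul]
            zb₁ := by rw [← map_mul, D.zc, map_mul]
            za₂ := by rw [← map_mul, D.zc, map_mul]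
            zb₂ := by rw [← map_mul, D.zc, map_mul]
            c₁ := by rw [← map_mul, D.c₁, map_mul, map_mul]
            c₂ := by rw [← map_mul, D.c₂, map_mul, map_mul]
            caa := by rw [← map_mul, D.caa, map_mul]
            cab := by rw [← map_mul, D.cab, map_mul]
            cba := by rw [← map_mul, D.cba, map_mul]
            cbb := by rw [← map_mul, D.cbb, map_mul]
            hz := ?_ }⟩
  apply Subtype.ext
  show n * ι D.z = (ι D.z) ^ 3 * n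
  rw [← map_pow, h1]
  group

theorem pow_six_dvd [Finite G] {N : Subgroup G} [hN : N.Normal] (h7 : 7 ∣ Nat.card N) : 7 ^ 6 ∣ Nat.card N := by
  have htop := R.comap_eq_top h7
  rw [← R.card_range]
  refine card_dvd_of_le ?_
  rintro _ ⟨y, rfl⟩
  have : y ∈ N.comap ι := by rw [htop]; exact mem_top y
  exact this

theorem not_pow_seven_dvd [Finite G] (N : Subgroup G) : ¬ 7 ^ 7 ∣ Nat.card N := by
  intro h
  obtain ⟨T, hT⟩ := R.syl
  have h1 : Nat.card T = 7 ^ 6 := by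
    rw [← R.card_range, ← hT]
  have h2 := T.card_eq_multiplicity
  rw [h1] at h2
  have h3 := Nat.pow_right_injective (le_refl 2 |>.trans (by norm_num)) h2
  have h4 : 7 ^ 7 ∣ Nat.card G := h.trans (Subgroup.card_subgroup_dvd_card N)
  have h5 := (Nat.Prime.pow_dvd_iff_le_factorization (by norm_num) Nat.card_pos.ne').1 h4
  omega

end Real

theorem not_realizable [Fact (Nat.Prime 7)] (D : Data X)
    (hK : ∀ (L : Type u) [Group L] [Finite L] [IsSimpleGroup L], IsKnownSimple' L)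
    (hM : ∀ (L : Type u) [Group L] [Finite L], Spor.IsoM L → Torus L) : ¬ D.F.IsRealizable 7 := by
  intro h
  obtain ⟨G, _, _, ι, R, hO⟩ := exists_real D h
  have hnt : Nontrivial G := R.nontrivial_G
  obtain ⟨N, hN, hN1, hmin⟩ := exists_min_normal (G := G)
  obtain ⟨h7, hna⟩ := R.min_normal hO hN1
  have hs := R.isSimple_of_minimal hmin h7 hna
  obtain ⟨S⟩ := R.exists_ess h7
  have hc : ∃ a b : N, a * b ≠ b * a := by
    by_contra hcon
    push Not at hcon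
    exact hna fun x hx y hy => congrArg Subtype.val (hcon ⟨x, hx⟩ ⟨y, hy⟩)
  rcases S.known (R.pow_six_dvd h7) (R.not_pow_seven_dvd N) (hK N) with h1 | h1
  · exact R.not_lieTypeChar h7 hc h1
  · obtain ⟨a, b, s, t, ha7, hb7, ha1, hb1, hab, hne, hsa, hsb, htb, hta⟩ := hM N h1
    refine R.no_torus (a := a) (b := b) (s := s) (t := t) (congrArg Subtype.val ha7) (congrArg Subtype.val hb7)
      (fun h => ha1 (Subtype.ext h)) (fun h => hb1 (Subtype.ext h)) (congrArg Subtype.val hab) (fun h => hne ?_)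
      (congrArg Subtype.val hsa) (congrArg Subtype.val hsb) (congrArg Subtype.val htb) (congrArg Subtype.val hta)
    obtain ⟨k, hk⟩ := mem_zpowers_iff.1 h
    refine mem_zpowers_iff.2 ⟨k, Subtype.ext ?_⟩
    rw [Subgroup.coe_zpow]
    exact hk

end Cfsg.Agent.H772.Pearl
end
end
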