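import Cfsg.Agent.H752.Inv
import Cfsg.Agent.H802.FusSub
import Cfsg.Agent.H802.FusAlp
import Cfsg.Agent.H802.FusCentric
import Cfsg.Agent.H802.FusEss
import Cfsg.Agent.H752.Ext
import Cfsg.Agent.H802.FusKSat
set_option linter.all false

-- part: H770/Fr
section
/-!
# Frattini factors of maps (helper770)

`Fr E F P f a`: on `P` the function `f` is a map of `E` followed by the automorphism `a ∈ Aut_F(T)`.
Constructor of subsystems from predicates on functions.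
-/

set_option autoImplicit false

namespace Cfsg.Agent.H770

open Cfsg Cfsg.FusionSystem Cfsg.Agent.H752

variable {Ω : Type*} [Group Ω] {S T : Subgroup Ω}

/-- An automorphism of `T` as a function on `Ω`. -/
noncomputable def ac (a : MulAut T) : Ω → Ω := ex fun x : T => ((a x : T) : Ω)

theorem ac_apply (a : MulAut T) {x : Ω} (hx : x ∈ T) : ac a x = ((a ⟨x, hx⟩ : T) : Ω) :=
  ex_apply _ hx

theorem ac_mem (a : MulAut T) {x : Ω} (hx : x ∈ T) : ac a x ∈ T := by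
  rw [ac_apply a hx]
  exact (a _).2

theorem ac_mul (a b : MulAut T) {x : Ω} (hx : x ∈ T) : ac (a * b) x = ac a (ac b x) := by
  rw [ac_apply _ hx, ac_apply b hx, ac_apply a (b _).2]
  rfl

theorem ac_one {x : Ω} (hx : x ∈ T) : ac (1 : MulAut T) x = x := by
  rw [ac_apply _ hx]
  rfl

theorem ac_inv_ac (a : MulAut T) {x : Ω} (hx : x ∈ T) : ac a⁻¹ (ac a x) = x := by
  rw [← ac_mul _ _ hx, inv_mul_cancel, ac_one hx]

theorem ac_ac_inv (a : MulAut T) {x : Ω} (hx : x ∈ T) : ac a (ac a⁻¹ x) = x := by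
  rw [← ac_mul _ _ hx, mul_inv_cancel, ac_one hx]

theorem mp_ac {F : FusionSystem S} (hT : T ≤ S) {a : MulAut T} (ha : a ∈ F.autGroup T) :
    Mp F T (ac a) := (mp_iff_autGroup hT a).1 ha

theorem mem_of_mp_ac {F : FusionSystem S} {a : MulAut T} (ha : Mp F T (ac a)) :
    a ∈ F.autGroup T := (mp_iff_autGroup ha.le a).2 ha

/-- A map of `F` from `T` to `T` comes from an element of the automorphism group. -/
theorem exists_ac {F : FusionSystem S} [Finite T] {f : Ω → Ω} (h : Mp F T f)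
    (hm : ∀ x ∈ T, f x ∈ T) : ∃ a ∈ F.autGroup T, ∀ x ∈ T, f x = ac a x := by
  obtain ⟨a, ha, h1⟩ := h.exists_aut hm
  exact ⟨a, ha, fun x hx => by rw [h1 x hx, ac_apply a hx]⟩

/-- On `P`, `f` is a map of `E` followed by the automorphism `a` of `T` in `F`. -/
def Fr (E : FusionSystem T) (F : FusionSystem S) (P : Subgroup Ω) (f : Ω → Ω) (a : MulAut T) :
    Prop :=
  a ∈ F.autGroup T ∧ ∃ f₀, Mp E P f₀ ∧ ∀ x ∈ P, f x = ac a (f₀ x)

variable {E : FusionSystem T} {F : FusionSystem S} {P Q R : Subgroup Ω} {f g h : Ω → Ω}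
  {a b : MulAut T}

theorem Fr.mem (h : Fr E F P f a) : a ∈ F.autGroup T := h.1

theorem Fr.res (h : Fr E F P f a) (hR : R ≤ P) : Fr E F R f a := by
  obtain ⟨ha, f₀, hf₀, h1⟩ := h
  exact ⟨ha, f₀, hf₀.res hR, fun x hx => h1 x (hR hx)⟩

theorem Fr.congr (h : Fr E F P f a) (he : ∀ x ∈ P, g x = f x) : Fr E F P g a := by
  obtain ⟨ha, f₀, hf₀, h1⟩ := h
  exact ⟨ha, f₀, hf₀, fun x hx => (he x hx).trans (h1 x hx)⟩

theorem Fr.one (h : Mp E P f) : Fr E F P f 1 :=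
  ⟨one_mem _, f, h, fun _ hx => (ac_one (h.mem hx)).symm⟩

theorem Fr.of_aut (ha : a ∈ F.autGroup T) (hP : P ≤ T) : Fr E F P (ac a) a :=
  ⟨ha, fun x => x, mp_id E hP, fun _ _ => rfl⟩

theorem Fr.le (h : Fr E F P f a) : P ≤ T := by
  obtain ⟨-, f₀, hf₀, -⟩ := h
  exact hf₀.le

theorem Fr.apply_mem (h : Fr E F P f a) {x : Ω} (hx : x ∈ P) : f x ∈ T := by
  obtain ⟨-, f₀, hf₀, h1⟩ := h
  rw [h1 x hx]
  exact ac_mem a (hf₀.mem hx)

theorem Fr.mp (hTS : T ≤ S) (hE : E.IsSubsystemOf F) (h : Fr E F P f a) : Mp F P f := by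
  obtain ⟨ha, f₀, hf₀, h1⟩ := h
  exact ((mp_mono hE hf₀).comp (mp_ac hTS ha) fun x hx => hf₀.mem hx).congr h1

theorem Fr.comp (hTS : T ≤ S) (hI : InvC E F) (hf : Fr E F P f a) (hg : Fr E F Q g b)
    (hPQ : ∀ x ∈ P, f x ∈ Q) : Fr E F P (fun x => g (f x)) (b * a) := by
  obtain ⟨ha, f₀, hf₀, h1⟩ := hf
  obtain ⟨hb, g₀, hg₀, h2⟩ := hg
  obtain ⟨R, hR, hRT, -⟩ := hf₀.exists_image le_rfl
  have hk : Mp E R (fun y => ac a⁻¹ (g₀ (ac a y))) := by
    refine hI Q R g₀ (ac a⁻¹) _ hg₀ (mp_ac hTS (inv_mem ha)) fun y hy =>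
      ⟨ac a y, ?_, ac_inv_ac a (hRT hy), rfl⟩
    obtain ⟨x, hx, rfl⟩ := (hR y).1 hy
    rw [← h1 x hx]
    exact hPQ x hx
  refine ⟨mul_mem hb ha, _, hf₀.comp hk fun x hx => (hR _).2 ⟨x, hx, rfl⟩, fun x hx => ?_⟩
  have h5 : ac a (f₀ x) ∈ Q := by
    rw [← h1 x hx]
    exact hPQ x hx
  show g (f x) = ac (b * a) (ac a⁻¹ (g₀ (ac a (f₀ x))))
  rw [← ac_mul _ _ (hg₀.mem h5), mul_assoc, mul_inv_cancel, mul_one, h1 x hx, h2 _ h5]

theorem Fr.symm (hTS : T ≤ S) (hI : InvC E F) (hf : Fr E F P f a)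
    (hg : ∀ y ∈ R, ∃ x ∈ P, f x = y ∧ g y = x) : Fr E F R g a⁻¹ := by
  obtain ⟨ha, f₀, hf₀, h1⟩ := hf
  obtain ⟨R₀, hR₀, hRT, -⟩ := hf₀.exists_image le_rfl
  obtain ⟨f₁, hf₁, h5, h6⟩ := hf₀.exists_symm le_rfl hR₀
  have hk : Mp E R (fun y => ac a (g y)) := by
    refine hI R₀ R f₁ (ac a) _ hf₁ (mp_ac hTS ha) fun y hy => ?_
    obtain ⟨x, hx, hxy, hgy⟩ := hg y hy
    refine ⟨f₀ x, (hR₀ _).2 ⟨x, hx, rfl⟩, ?_, ?_⟩
    · rw [← h1 x hx, hxy]
    · rw [h5 x hx, hgy]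
  refine ⟨inv_mem ha, _, hk, fun y hy => ?_⟩
  obtain ⟨x, hx, hxy, hgy⟩ := hg y hy
  show g y = ac a⁻¹ (ac a (g y))
  rw [hgy, ac_inv_ac a (hf₀.le hx)]

theorem FratC.exists_fr [Finite T] (h : FratC E F P f) (hT : F.StronglyClosed T) :
    ∃ a, Fr E F P f a := by
  obtain ⟨a, ha, f₀, hf₀, h1⟩ := h
  obtain ⟨α, hα, h2⟩ := exists_ac ha fun x hx => mp_mem_of_stronglyClosed hT ha hx hx
  exact ⟨α, hα, f₀, hf₀, fun x hx => by rw [h1 x hx, h2 _ (hf₀.mem hx)]⟩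

theorem Fr.fratC (hTS : T ≤ S) (h : Fr E F P f a) : FratC E F P f := by
  obtain ⟨ha, f₀, hf₀, h1⟩ := h
  exact ⟨ac a, mp_ac hTS ha, f₀, hf₀, h1⟩

/-- Two Frattini factors of the same map differ by a Frattini factor of the identity. -/
theorem Fr.div (hTS : T ≤ S) (hEF : E.IsSubsystemOf F) (hI : InvC E F) (hf : Fr E F P f a)
    (hg : Fr E F P f b) : Fr E F P (fun x => x) (b⁻¹ * a) := by
  have hm := hf.mp hTS hEF
  obtain ⟨R, hR, -⟩ := hm.exists_image le_rfl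
  obtain ⟨g, -, h1, h2⟩ := hm.exists_symm le_rfl hR
  have h3 : Fr E F R g b⁻¹ := hg.symm hTS hI fun y hy => by
    obtain ⟨x, hx, rfl⟩ := (hR y).1 hy
    exact ⟨x, hx, rfl, h1 x hx⟩
  exact (hf.comp hTS hI h3 fun x hx => (hR _).2 ⟨x, hx, rfl⟩).congr fun x hx => (h1 x hx).symm

/-- If the identity of `P` has the Frattini factor `a`, then `a` on `P` is a map of `E`. -/
theorem Fr.mp_of_id (hTS : T ≤ S) (hI : InvC E F) (h : Fr E F P (fun x => x) a) :
    Mp E P (ac a) := by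
  have h1 : Fr E F P (fun x => x) a⁻¹ := by
    have := h.symm hTS hI (R := P) (g := fun x => x) fun y hy => ⟨y, hy, rfl, rfl⟩
    exact this
  obtain ⟨-, f₀, hf₀, h2⟩ := h1
  refine hf₀.congr fun x hx => ?_
  have h3 : x = ac a⁻¹ (f₀ x) := h2 x hx
  calc ac a x = ac a (ac a⁻¹ (f₀ x)) := congrArg _ h3
    _ = f₀ x := ac_ac_inv a (hf₀.mem hx)

/-- If `a` on `P` is a map of `E`, then the identity of `P` has the Frattini factor `a`. -/
theorem Fr.of_mp (hTS : T ≤ S) (hI : InvC E F) (ha : a ∈ F.autGroup T) (h : Mp E P (ac a)) :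
    Fr E F P (fun x => x) a := by
  have h1 : Fr E F P (fun x => x) a⁻¹ := ⟨inv_mem ha, _, h, fun x hx => (ac_inv_ac a (h.le hx)).symm⟩
  have := h1.symm hTS hI (R := P) (g := fun x => x) fun y hy => ⟨y, hy, rfl, rfl⟩
  rwa [inv_inv] at this

theorem Fr.mul_right (hTS : T ≤ S) (hI : InvC E F) (h : Fr E F P f a)
    (hb : b ∈ E.autGroup T) (hEF : E.IsSubsystemOf F) : Fr E F P f (a * b) := by
  have hbF : b ∈ F.autGroup T := mem_of_mp_ac (mp_mono hEF (mp_ac le_rfl hb))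
  have h1 : Fr E F P (fun x => x) b :=
    Fr.of_mp hTS hI hbF ((mp_ac le_rfl hb).res h.le)
  exact h1.comp hTS hI h fun x hx => hx

/-! ### Subsystems from predicates on functions -/

/-- The subsystem over `T` of `F` given by a predicate on functions. -/
noncomputable def subSys (F : FusionSystem S) (T : Subgroup Ω)
    (M : Subgroup Ω → (Ω → Ω) → Prop)
    (h_congr : ∀ (P : Subgroup Ω) (f g : Ω → Ω), Mp F P f → M P f → (∀ x ∈ P, g x = f x) → M P g)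
    (h_mem : ∀ (P : Subgroup Ω) (f : Ω → Ω), Mp F P f → M P f → P ≤ T ∧ ∀ x ∈ P, f x ∈ T)
    (h_conj : ∀ P : Subgroup Ω, P ≤ T → ∀ s ∈ T,
      Mp F P (fun x => s * x * s⁻¹) ∧ M P (fun x => s * x * s⁻¹))
    (h_comp : ∀ (P Q : Subgroup Ω) (f g : Ω → Ω), Mp F P f → Mp F Q g → M P f → M Q g →
      (∀ x ∈ P, f x ∈ Q) → M P (fun x => g (f x)))
    (h_inv : ∀ (P R : Subgroup Ω) (f g : Ω → Ω), Mp F P f → M P f → Mp F R g →
      (∀ y ∈ R, ∃ x ∈ P, f x = y ∧ g y = x) → (∀ x ∈ P, f x ∈ R) → M R g) : FusionSystem T where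
  Hom P := {φ | φ ∈ F.Hom P ∧ M P (ex φ)}
  le_of_mem := by
    rintro P φ ⟨h1, h2⟩
    obtain ⟨h3, h4⟩ := h_mem P _ (mp_ex h1) h2
    exact ⟨h3, fun x => by have := h4 x x.2; rwa [ex_coe] at this⟩
  injective_of_mem h := F.injective_of_mem h.1
  conj_mem := by
    intro P s hP hs
    obtain ⟨h1, h2⟩ := h_conj P hP s hs
    have h3 : conjHom P s ∈ F.Hom P := h1.mem_hom fun _ _ => rfl
    exact ⟨h3, h_congr P _ _ h1 h2 fun x hx => ex_apply _ hx⟩
  comp_mem := by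
    rintro P Q φ ψ ⟨h1, h2⟩ ⟨h3, h4⟩ h
    have h5 : ∀ x ∈ P, ex φ x ∈ Q := fun x hx => by rw [ex_apply _ hx]; exact h _
    refine ⟨F.comp_mem h1 h3 h, h_congr P _ _ ((mp_ex h1).comp (mp_ex h3) h5)
      (h_comp P Q _ _ (mp_ex h1) (mp_ex h3) h2 h4 h5) fun x hx => ?_⟩
    have h6 := h5 x hx
    rw [ex_apply _ hx] at h6 ⊢
    rw [ex_apply (φ : P → Ω) hx, ex_apply _ h6]
    rfl
  inv_mem := by
    rintro P φ ⟨h1, h2⟩
    obtain ⟨ψ, hψ, h3⟩ := F.inv_mem h1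
    refine ⟨ψ, ⟨hψ, h_inv P _ (ex φ) _ (mp_ex h1) h2 (mp_ex hψ) ?_ ?_⟩, h3⟩
    · rintro _ ⟨x, rfl⟩
      refine ⟨x, x.2, ex_coe _ x, ?_⟩
      rw [ex_apply _ (show φ x ∈ φ.range from ⟨x, rfl⟩), h3]
    · intro x hx
      rw [ex_apply _ hx]
      exact ⟨_, rfl⟩

section subSys

variable {M : Subgroup Ω → (Ω → Ω) → Prop}
    {h_congr : ∀ (P : Subgroup Ω) (f g : Ω → Ω), Mp F P f → M P f → (∀ x ∈ P, g x = f x) → M P g}
    {h_mem : ∀ (P : Subgroup Ω) (f : Ω → Ω), Mp F P f → M P f → P ≤ T ∧ ∀ x ∈ P, f x ∈ T}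
    {h_conj : ∀ P : Subgroup Ω, P ≤ T → ∀ s ∈ T,
      Mp F P (fun x => s * x * s⁻¹) ∧ M P (fun x => s * x * s⁻¹)}
    {h_comp : ∀ (P Q : Subgroup Ω) (f g : Ω → Ω), Mp F P f → Mp F Q g → M P f → M Q g →
      (∀ x ∈ P, f x ∈ Q) → M P (fun x => g (f x))}
    {h_inv : ∀ (P R : Subgroup Ω) (f g : Ω → Ω), Mp F P f → M P f → Mp F R g →
      (∀ y ∈ R, ∃ x ∈ P, f x = y ∧ g y = x) → (∀ x ∈ P, f x ∈ R) → M R g}

theorem mp_subSys_iff : Mp (subSys F T M h_congr h_mem h_conj h_comp h_inv) P f ↔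
    Mp F P f ∧ M P f := by
  constructor
  · rintro ⟨φ, ⟨h1, h2⟩, h3⟩
    exact ⟨⟨φ, h1, h3⟩, h_congr P _ _ (mp_ex h1) h2 fun x hx => by rw [ex_apply _ hx, h3]⟩
  · rintro ⟨⟨φ, h1, h3⟩, h2⟩
    exact ⟨φ, ⟨h1, h_congr P _ _ ⟨φ, h1, h3⟩ h2 fun x hx => by rw [ex_apply _ hx, h3]⟩, h3⟩

theorem subSys_isSubsystemOf :
    (subSys F T M h_congr h_mem h_conj h_comp h_inv).IsSubsystemOf F := fun _ _ hφ => hφ.1

end subSys

end Cfsg.Agent.H770
end

-- part: H770/MpExt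
section
/-!
# Extension lemmas for functions (helper770)
-/

set_option autoImplicit false

namespace Cfsg.Agent.H770

open Cfsg Cfsg.FusionSystem Cfsg.Agent.H752

variable {Ω : Type*} [Group Ω] {S T : Subgroup Ω} {F : FusionSystem S} {p : ℕ}

/-- `Q` is the image of `P` under `f`. -/
def Im (f : Ω → Ω) (P Q : Subgroup Ω) : Prop := ∀ y, y ∈ Q ↔ ∃ x ∈ P, f x = y

theorem Im.apply {f : Ω → Ω} {P Q : Subgroup Ω} (h : Im f P Q) {x : Ω} (hx : x ∈ P) : f x ∈ Q :=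
  (h _).2 ⟨x, hx, rfl⟩

theorem Im.congr {f g : Ω → Ω} {P Q : Subgroup Ω} (h : Im f P Q) (he : ∀ x ∈ P, g x = f x) :
    Im g P Q := fun y => by
  rw [h y]
  constructor
  · rintro ⟨x, hx, rfl⟩; exact ⟨x, hx, he x hx⟩
  · rintro ⟨x, hx, rfl⟩; exact ⟨x, hx, (he x hx).symm⟩

theorem Im.comp {f g : Ω → Ω} {P Q R : Subgroup Ω} (h : Im f P Q) (h' : Im g Q R) :
    Im (fun x => g (f x)) P R := fun y => by
  rw [h' y]
  constructor
  · rintro ⟨z, hz, rfl⟩
    obtain ⟨x, hx, rfl⟩ := (h z).1 hz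
    exact ⟨x, hx, rfl⟩
  · rintro ⟨x, hx, rfl⟩
    exact ⟨f x, h.apply hx, rfl⟩

theorem Im.id (P : Subgroup Ω) : Im (fun x => x) P P := fun _ => ⟨fun h => ⟨_, h, rfl⟩, by
  rintro ⟨x, hx, rfl⟩; exact hx⟩

theorem Im.symm {f g : Ω → Ω} {P Q : Subgroup Ω} (h : Im f P Q) (hg : ∀ x ∈ P, g (f x) = x) :
    Im g Q P := fun y => by
  constructor
  · intro hy; exact ⟨f y, h.apply hy, hg y hy⟩
  · rintro ⟨z, hz, rfl⟩
    obtain ⟨x, hx, rfl⟩ := (h z).1 hz
    rw [hg x hx]; exact hx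

theorem Mp.exists_im {f : Ω → Ω} {P R : Subgroup Ω} (hf : Mp F P f) (hR : R ≤ P) :
    ∃ T : Subgroup Ω, Im f R T ∧ T ≤ S ∧ Nat.card T = Nat.card R := hf.exists_image hR

theorem Mp.im_card {f : Ω → Ω} {P R : Subgroup Ω} (hf : Mp F P f) (h : Im f P R) :
    Nat.card R = Nat.card P := by
  obtain ⟨R', hR', -, h3⟩ := hf.exists_image le_rfl
  have : R = R' := by ext y; rw [h y, hR' y]
  rw [this, h3]

theorem Mp.im_le {f : Ω → Ω} {P R : Subgroup Ω} (hf : Mp F P f) (h : Im f P R) : R ≤ S := by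
  intro y hy
  obtain ⟨x, hx, rfl⟩ := (h y).1 hy
  exact hf.mem hx

theorem Mp.isConj {f : Ω → Ω} {P R : Subgroup Ω} (hf : Mp F P f) (h : Im f P R) :
    F.IsConj P R := by
  obtain ⟨φ, hφ, h1⟩ := hf
  refine ⟨φ, hφ, ?_⟩
  ext y
  rw [h y]
  constructor
  · rintro ⟨x, rfl⟩
    exact ⟨x, x.2, (h1 x x.2).symm⟩
  · rintro ⟨x, hx, rfl⟩
    exact ⟨⟨x, hx⟩, h1 x hx⟩

theorem exists_mp_of_isConj {P R : Subgroup Ω} (h : F.IsConj P R) :
    ∃ f, Mp F P f ∧ Im f P R := by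
  obtain ⟨φ, hφ, rfl⟩ := h
  refine ⟨ex φ, mp_ex hφ, fun y => ?_⟩
  constructor
  · rintro ⟨x, rfl⟩
    exact ⟨x, x.2, ex_coe _ x⟩
  · rintro ⟨x, hx, rfl⟩
    exact ⟨⟨x, hx⟩, (ex_apply _ hx).symm⟩

theorem im_ac {P : Subgroup Ω} (a : MulAut P) : Im (ac a) P P := fun y => by
  constructor
  · intro hy
    exact ⟨ac a⁻¹ y, ac_mem _ hy, ac_ac_inv a hy⟩
  · rintro ⟨x, hx, rfl⟩
    exact ac_mem a hx

theorem Mp.im_of_maps {P : Subgroup Ω} [Finite P] {f : Ω → Ω} (h : Mp F P f)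
    (hm : ∀ x ∈ P, f x ∈ P) : Im f P P := fun y => by
  constructor
  · exact fun hy => h.surj hm hy
  · rintro ⟨x, hx, rfl⟩
    exact hm x hx

/-- A map of the system carrying `P` onto `Q` carries the elements of its source which normalize `P` to
elements normalizing `Q`. -/
theorem Mp.mem_normalizer {W P Q : Subgroup Ω} {f : Ω → Ω} (h : Mp F W f) (hP : P ≤ W)
    (hI : Im f P Q) {g : Ω} (hg : g ∈ W) (hgn : g ∈ Subgroup.normalizer (P : Set Ω)) :
    f g ∈ Subgroup.normalizer (Q : Set Ω) := by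
  rw [Subgroup.mem_normalizer_iff]
  have key : ∀ g ∈ W, g ∈ Subgroup.normalizer (P : Set Ω) → ∀ y ∈ Q, f g * y * (f g)⁻¹ ∈ Q := by
    intro g hg hgn y hy
    obtain ⟨x, hx, rfl⟩ := (hI y).1 hy
    rw [← h.inv hg, ← h.mul hg (hP hx), ← h.mul (mul_mem hg (hP hx)) (inv_mem hg)]
    exact hI.apply ((Subgroup.mem_normalizer_iff.1 hgn x).1 hx)
  intro y
  refine ⟨key g hg hgn y, fun hy => ?_⟩
  have h1 := key g⁻¹ (inv_mem hg) (inv_mem hgn) _ hy
  rw [h.inv hg] at h1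
  simpa [mul_assoc] using h1

theorem Mp.mem_centralizer {W P Q : Subgroup Ω} {f : Ω → Ω} (h : Mp F W f) (hP : P ≤ W)
    (hI : Im f P Q) {g : Ω} (hg : g ∈ W) (hgn : g ∈ Subgroup.centralizer (P : Set Ω)) :
    f g ∈ Subgroup.centralizer (Q : Set Ω) := by
  rw [Subgroup.mem_centralizer_iff]
  intro y hy
  obtain ⟨x, hx, rfl⟩ := (hI y).1 hy
  rw [← h.mul hg (hP hx), ← h.mul (hP hx) hg, Subgroup.mem_centralizer_iff.1 hgn x hx]

section sat

variable [Finite S] [Fact p.Prime]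

/-- Extension to the normalizer, for functions. -/
theorem mp_normalizer (hS : IsPGroup p S) (hF : F.IsSaturated p) {P Q : Subgroup Ω} {f : Ω → Ω}
    (hQ : F.IsFullyNormalized Q) (hf : Mp F P f) (hI : Im f P Q) :
    ∃ k, Mp F (normalizerIn S P) k ∧ Im k P Q := by
  have hQa := H802.isFullyAutomized_of_isFullyNormalized hS hF hQ
  have hQr := H802.isReceptive_of_isFullyNormalized hS hF hQ
  have hle : P ≤ normalizerIn S P := le_inf hf.le Subgroup.le_normalizer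
  obtain ⟨χ, hχ, h1⟩ := hf
  have hr : χ.range = Q := by
    ext y
    rw [hI y]
    constructor
    · rintro ⟨x, rfl⟩
      exact ⟨x, x.2, (h1 x x.2).symm⟩
    · rintro ⟨x, hx, rfl⟩
      exact ⟨⟨x, hx⟩, h1 x hx⟩
  obtain ⟨k, hk, ψ, hψ, h2⟩ := H759.exists_normalizer_hom F hS hQa hQr hχ hr
  refine ⟨ex ψ, mp_ex hψ, ?_⟩
  have h3 : Im (fun x => ac k (f x)) P Q := hI.comp (im_ac k)
  refine h3.congr fun x hx => ?_
  have hm : χ ⟨x, hx⟩ ∈ Q := by rw [h1]; exact hI.apply hx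
  rw [ex_apply _ (hle hx), h2 ⟨x, hx⟩ hm (hle hx), ← h1 x hx, ac_apply k hm]

omit [Finite S] in
/-- Receptivity for functions. -/
theorem mp_receptive {P Q : Subgroup Ω} {f : Ω → Ω}
    (hQr : F.IsReceptive Q) (hf : Mp F P f) (hI : Im f P Q) :
    ∃ (X : Subgroup Ω) (k : Ω → Ω), Mp F X k ∧ (∀ x ∈ P, k x = f x) ∧ P ≤ X ∧
      centralizerIn S P ≤ X ∧ X ≤ normalizerIn S P ∧
      ∀ g ∈ S, g ∈ Subgroup.normalizer (P : Set Ω) →
        (∃ s ∈ S, ∀ x ∈ P, f (g * x * g⁻¹) = s * f x * s⁻¹) → g ∈ X := by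
  have hPS := hf.le
  obtain ⟨χ, hχ, h1⟩ := hf
  have hr : χ.range = Q := by
    ext y
    rw [hI y]
    constructor
    · rintro ⟨x, rfl⟩
      exact ⟨x, x.2, (h1 x x.2).symm⟩
    · rintro ⟨x, hx, rfl⟩
      exact ⟨⟨x, hx⟩, h1 x hx⟩
  obtain ⟨ψ, hψ, h2⟩ := hQr.2 P χ hχ hr
  have hPe : P ≤ extender S P χ := H802.le_extender hPS (H802.hom_apply_mem hχ)
  refine ⟨extender S P χ, ex ψ, mp_ex hψ, fun x hx => ?_, hPe,
    H802.centralizerIn_le_extender _ _ _, H802.extender_le_normalizerIn _ _ _, ?_⟩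
  · rw [ex_apply _ (hPe hx), h2 x hx (hPe hx), h1]
  · rintro g hg hgn ⟨s, hs, h3⟩
    rw [H802.mem_extender_iff]
    refine ⟨hg, hgn, s, hs, fun x hx => ?_⟩
    rw [h1, h1 x x.2]
    exact h3 x x.2

/-- The extension lemma with kernel `K`, for automorphisms as functions. -/
theorem mp_ext_kernel (hS : IsPGroup p S) {Q N : Subgroup Ω}
    (hQa : F.IsFullyAutomized p Q) (hQr : F.IsReceptive Q) {α : MulAut Q}
    (hα : α ∈ F.autGroup Q) (K : Subgroup (MulAut Q)) (hKA : K ≤ F.autGroup Q)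
    (hK : ∀ a ∈ F.autGroup Q, ∀ k ∈ K, a * k * a⁻¹ ∈ K) (hNS : N ≤ S)
    (hN : N ≤ Subgroup.normalizer (Q : Set Ω))
    (h : ∀ g ∈ N, ∃ k ∈ K, ∃ s ∈ S, s ∈ Subgroup.normalizer (Q : Set Ω) ∧
      ∀ x ∈ Q, ac α (g * x * g⁻¹) = ac k (s * ac α x * s⁻¹)) :
    ∃ k ∈ K, ∃ ψ, Mp F (Q ⊔ N) ψ ∧ ∀ x ∈ Q, ψ x = ac k (ac α x) := by
  have hQS := hQa.1
  have hfQ : Finite Q := H802.finite_of_le hQS
  have hαm := (H759.mem_autGroup F hQS).1 hα
  obtain ⟨k, hk, ψ, hψ, h2⟩ := H759.exists_extension F hS hQa hQr hαm (by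
      ext y
      constructor
      · rintro ⟨x, rfl⟩; exact (α x).2
      · intro hy
        exact ⟨α⁻¹ ⟨y, hy⟩, by
          show ((α (α⁻¹ ⟨y, hy⟩) : Q) : Ω) = y
          rw [MulAut.apply_inv_self]⟩) K hKA hK N hNS hN (by
      intro g hg
      obtain ⟨k, hk, s, hs, hsn, h3⟩ := h g hg
      refine ⟨k, hk, s, hs, hsn, fun x hx hy => ?_⟩
      have h4 := h3 x x.2
      rw [ac_apply α hx, ac_apply α x.2] at h4
      have h5 : s * ((α x : Q) : Ω) * s⁻¹ ∈ Q := hy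
      rw [ac_apply k h5] at h4
      exact h4)
  refine ⟨k, hk, ex ψ, mp_ex hψ, fun x hx => ?_⟩
  have hx' : x ∈ Q ⊔ N := (le_sup_left : Q ≤ Q ⊔ N) hx
  rw [ex_apply _ hx', ac_apply α hx, ac_apply k (α _).2]
  exact h2 ⟨x, hx⟩ (α _).2 hx'

end sat

end Cfsg.Agent.H770
end

-- part: H770/Chain
section
/-!
# The chain lemma (helper770)

`E ≤ F` systems over `S`, `E` invariant under `Aut_F(S)` and with the Frattini property, generated by its maps on a
family `𝒬`. For a fully normalized `Q ∉ 𝒬` the Frattini factors of the identity of `Q` are realized on a bigger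
subgroup `X` as soon as this holds "locally".
-/

set_option autoImplicit false

namespace Cfsg.Agent.H770

open Cfsg Cfsg.FusionSystem Cfsg.Agent.H752

variable {Ω : Type*} [Group Ω] {S T : Subgroup Ω} {p : ℕ}

/-- `f` on `Q` extends to a map from `X` to `X` with Frattini factor `a`. -/
def Th (E : FusionSystem T) (F : FusionSystem S) (Q X : Subgroup Ω) (f : Ω → Ω) (a : MulAut T) :
    Prop :=
  ∃ g, Fr E F X g a ∧ (∀ x ∈ X, g x ∈ X) ∧ ∀ x ∈ Q, g x = f x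

section Th

variable {E : FusionSystem T} {F : FusionSystem S} {Q X : Subgroup Ω} {f g : Ω → Ω}
  {a b : MulAut T}

theorem Th.congr (h : Th E F Q X f a) (he : ∀ x ∈ Q, g x = f x) : Th E F Q X g a := by
  obtain ⟨k, h1, h2, h3⟩ := h
  exact ⟨k, h1, h2, fun x hx => (h3 x hx).trans (he x hx).symm⟩

theorem Th.comp (hTS : T ≤ S) (hI : InvC E F) (hf : Th E F Q X f a) (hg : Th E F Q X g b)
    (hQ : ∀ x ∈ Q, f x ∈ Q) : Th E F Q X (fun x => g (f x)) (b * a) := by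
  obtain ⟨k, h1, h2, h3⟩ := hf
  obtain ⟨k', h1', h2', h3'⟩ := hg
  refine ⟨_, h1.comp hTS hI h1' h2, fun x hx => h2' _ (h2 x hx), fun x hx => ?_⟩
  show k' (k x) = _
  rw [h3 x hx, h3' _ (hQ x hx)]

theorem Th.symm [Finite X] (hTS : T ≤ S) (hEF : E.IsSubsystemOf F) (hI : InvC E F)
    (hQX : Q ≤ X) (hf : Th E F Q X f a)
    (hg : ∀ y ∈ Q, ∃ x ∈ Q, f x = y ∧ g y = x) : Th E F Q X g a⁻¹ := by
  obtain ⟨k, h1, h2, h3⟩ := hf
  have hm := h1.mp hTS hEF
  obtain ⟨k', h4, h5, h6⟩ := hm.exists_symm le_rfl (T := X) (Mp.im_of_maps hm h2)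
  refine ⟨k', h1.symm hTS hI fun y hy => ?_, fun x hx => (h6 x hx).1, fun y hy => ?_⟩
  · exact ⟨k' y, (h6 y hy).1, (h6 y hy).2, rfl⟩
  · obtain ⟨x, hx, rfl, hgy⟩ := hg y hy
    rw [hgy, ← h3 x hx, h5 x (hQX hx)]

end Th

section chain

variable {E F : FusionSystem S}

/-- The transport condition. -/
def Cl (E F : FusionSystem S) (Q X : Subgroup Ω) (P : Subgroup Ω) (f : Ω → Ω) : Prop :=
  ∀ (P' P'' : Subgroup Ω) (k' k'' g : Ω → Ω) (t' t'' : MulAut S), P' ≤ P → Im f P' P'' →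
    Fr E F (normalizerIn S P') k' t' → Im k' P' Q →
    Fr E F (normalizerIn S P'') k'' t'' → Im k'' P'' Q →
    (∀ x ∈ P', g (k' x) = k'' (f x)) → Th E F Q X g (t'' * t'⁻¹)

/-- The one-step lemma. -/
theorem chain_step [Finite S] (hEF : E.IsSubsystemOf F) (hI : InvC E F) {Q X : Subgroup Ω}
    (hext : ∀ (W : Subgroup Ω) (f : Ω → Ω) (a : MulAut S), Q ≤ W → Q ≠ W → W ≤ normalizerIn S Q →
      Fr E F W f a → (∀ x ∈ Q, f x ∈ Q) → Th E F Q X f a)
    {P' P'' Y : Subgroup Ω} {k' k'' f g : Ω → Ω} {t' t'' : MulAut S} (hP'Y : P' ≤ Y)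
    (hne : P' ≠ Y) (hYN : Y ≤ normalizerIn S P') (hf : Mp E Y f) (hfI : Im f P' P'')
    (h1 : Fr E F (normalizerIn S P') k' t') (h2 : Im k' P' Q)
    (h3 : Fr E F (normalizerIn S P'') k'' t'') (h4 : Im k'' P'' Q)
    (hg : ∀ x ∈ P', g (k' x) = k'' (f x)) : Th E F Q X g (t'' * t'⁻¹) := by
  have hk'm := h1.mp le_rfl hEF
  have hk''m := h3.mp le_rfl hEF
  obtain ⟨W, hW, hWS, hWc⟩ := Mp.exists_im hk'm hYN
  obtain ⟨i, hi, hi1, hi2⟩ := hk'm.exists_symm hYN hW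
  have hPN : P' ≤ normalizerIn S P' := hP'Y.trans hYN
  have hfY : ∀ x ∈ Y, f x ∈ normalizerIn S P'' := fun x hx =>
    ⟨hf.mem hx, Mp.mem_normalizer hf hP'Y hfI hx (hYN hx).2⟩
  have hFi : Fr E F W i t'⁻¹ := (h1.res hYN).symm le_rfl hI fun y hy =>
    ⟨i y, (hi2 y hy).1, (hi2 y hy).2, rfl⟩
  have hη : Fr E F W (fun w => k'' (f (i w))) (t'' * (1 * t'⁻¹)) :=
    (hFi.comp le_rfl hI (Fr.one hf) fun y hy => (hi2 y hy).1).comp le_rfl hI h3
      fun y hy => hfY _ (hi2 y hy).1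
  rw [one_mul] at hη
  have hQW : Q ≤ W := by
    intro y hy
    obtain ⟨x, hx, rfl⟩ := (h2 y).1 hy
    exact hW.apply (hP'Y hx)
  have hfin : Finite Y := H802.finite_of_le (hYN.trans inf_le_left)
  have hQW' : Q ≠ W := by
    rintro rfl
    have h5 := Mp.im_card (hk'm.res hPN) h2
    exact hne (Subgroup.eq_of_le_of_card_ge hP'Y (by rw [← hWc, h5]))
  refine (hext W _ _ hQW hQW' ?_ hη ?_).congr ?_
  · intro w hw
    obtain ⟨y, hy, rfl⟩ := (hW w).1 hw
    exact ⟨hWS hw, Mp.mem_normalizer (hk'm) hPN h2 (hYN hy) (hYN hy).2⟩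
  · intro y hy
    obtain ⟨x, hx, rfl⟩ := (h2 y).1 hy
    rw [hi1 x (hP'Y hx)]
    exact h4.apply (hfI.apply hx)
  · intro y hy
    obtain ⟨x, hx, rfl⟩ := (h2 y).1 hy
    rw [hi1 x (hP'Y hx), hg x hx]

/-- **Chain lemma.** -/
theorem chain_lemma [Finite S] [Fact p.Prime] (hS : IsPGroup p S) (hF : F.IsSaturated p)
    (hEF : E.IsSubsystemOf F) (hI : InvC E F)
    (hFr : ∀ (P : Subgroup Ω) (f : Ω → Ω), Mp F P f → ∃ a, Fr E F P f a)
    (𝒬 : Subgroup Ω → Prop) (h𝒬S : 𝒬 S)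
    (hgen : ∀ D : FusionSystem S, (∀ P f, 𝒬 P → Mp E P f → Mp D P f) → ∀ P f, Mp E P f → Mp D P f)
    {Q X : Subgroup Ω} (hQ : F.IsFullyNormalized Q) (hQX : Q ≤ X) (hXS : X ≤ S)
    (hQ𝒬 : ∀ P, F.IsConj Q P → ¬ 𝒬 P)
    (hext : ∀ (W : Subgroup Ω) (f : Ω → Ω) (a : MulAut S), Q ≤ W → Q ≠ W → W ≤ normalizerIn S Q →
      Fr E F W f a → (∀ x ∈ Q, f x ∈ Q) → Th E F Q X f a)
    {a : MulAut S} (ha : Fr E F Q (fun x => x) a) : Th E F Q X (fun x => x) a := by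
  have hQS := hQ.1
  have hfX : Finite X := H802.finite_of_le hXS
  -- the maps of `E` on members of `𝒬` satisfy the transport condition
  have hkey : ∀ (P : Subgroup Ω) (f : Ω → Ω), 𝒬 P → Mp E P f → Cl E F Q X P f := by
    intro P f hP hf P' P'' k' k'' g t' t'' hP'P hfI h1 h2 h3 h4 hg
    have hk'm := h1.mp le_rfl hEF
    have hPN : P' ≤ normalizerIn S P' := le_inf (hP'P.trans hf.le) Subgroup.le_normalizer
    have hconj : F.IsConj Q P' := H802.isConj_symm (Mp.isConj (hk'm.res hPN) h2)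
    have hne : P' ≠ P := fun h => hQ𝒬 P' hconj (h ▸ hP)
    have hlt := H802.lt_inf_normalizer hS hP'P hf.le hne
    exact chain_step hEF hI hext (Y := P ⊓ Subgroup.normalizer (P' : Set Ω)) hlt.le hlt.ne
      (inf_le_inf_right _ hf.le) (hf.res inf_le_left) hfI h1 h2 h3 h4 hg
  let D : FusionSystem S := subSys F S (Cl E F Q X)
    (by
      intro P f g hf h he P' P'' k' k'' g' t' t'' hP'P hfI h1 h2 h3 h4 hg
      exact h P' P'' k' k'' g' t' t'' hP'P (hfI.congr fun x hx => (he x (hP'P hx)).symm) h1 h2 h3 h4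
        fun x hx => by rw [hg x hx, he x (hP'P hx)])
    (fun P f hf _ => ⟨hf.le, fun x hx => hf.mem hx⟩)
    (by
      intro P hP s hs
      refine ⟨mp_conj F hP hs, ?_⟩
      intro P' P'' k' k'' g' t' t'' hP'P hfI h1 h2 h3 h4 hg
      exact hkey S _ h𝒬S (mp_conj E le_rfl hs) P' P'' k' k'' g' t' t'' (hP'P.trans hP) hfI h1 h2
        h3 h4 hg)
    (by
      intro P R f h hf hh hCf hCh hPR P' P''' k' k''' g t' t''' hP'P hI3 h1 h2 h3 h4 hg
      obtain ⟨P'', hP'', hP''S, -⟩ := Mp.exists_im hf hP'P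
      have hP''R : P'' ≤ R := by
        intro y hy
        obtain ⟨x, hx, rfl⟩ := (hP'' y).1 hy
        exact hPR x (hP'P hx)
      have hI4 : Im h P'' P''' := fun y => by
        rw [hI3 y]
        constructor
        · rintro ⟨x, hx, rfl⟩
          exact ⟨f x, hP''.apply hx, rfl⟩
        · rintro ⟨z, hz, rfl⟩
          obtain ⟨x, hx, rfl⟩ := (hP'' z).1 hz
          exact ⟨x, hx, rfl⟩
      -- a map `P'' → Q`
      have hk'm := h1.mp le_rfl hEF
      have hk'''m := h3.mp le_rfl hEF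
      have hPN''' : P''' ≤ normalizerIn S P''' := le_inf (Mp.im_le (hh.res hP''R) hI4)
        Subgroup.le_normalizer
      have hQ'' : Mp F P'' (fun x => k''' (h x)) :=
        (hh.res hP''R).comp hk'''m fun x hx => hPN''' (hI4.apply hx)
      obtain ⟨k'', hk''m, hk''I⟩ := mp_normalizer hS hF hQ hQ'' (hI4.comp h4)
      obtain ⟨t'', ht''⟩ := hFr _ _ hk''m
      -- the maps of `Q`
      obtain ⟨i', hi'm, hi'1, hi'2⟩ := hk'm.exists_symm (le_inf (hP'P.trans hf.le)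
        Subgroup.le_normalizer) h2
      have hP''N : P'' ≤ normalizerIn S P'' := le_inf hP''S Subgroup.le_normalizer
      obtain ⟨i'', hi''m, hi''1, hi''2⟩ := hk''m.exists_symm hP''N hk''I
      have hA := hCf P' P'' k' k'' (fun y => k'' (f (i' y))) t' t'' hP'P hP'' h1 h2 ht'' hk''I
        fun x hx => by
          show k'' (f (i' (k' x))) = _
          rw [hi'1 x hx]
      have hB := hCh P'' P''' k'' k''' (fun y => k''' (h (i'' y))) t'' t''' hP''R hI4 ht'' hk''I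
        h3 h4 fun x hx => by
          show k''' (h (i'' (k'' x))) = _
          rw [hi''1 x hx]
      have hC := hA.comp le_rfl hI hB fun y hy => by
        show k'' (f (i' y)) ∈ Q
        exact hk''I.apply (hP''.apply (hi'2 y hy).1)
      have e1 : t''' * t''⁻¹ * (t'' * t'⁻¹) = t''' * t'⁻¹ := by group
      rw [e1] at hC
      refine hC.congr fun y hy => ?_
      obtain ⟨x, hx, rfl⟩ := (h2 y).1 hy
      show g (k' x) = k''' (h (i'' (k'' (f (i' (k' x))))))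
      rw [hi'1 x hx, hi''1 _ (hP''.apply hx)]
      exact hg x hx)
    (by
      intro P R f g hf hCf hgm hinv hfR P' P'' k' k'' u t' t'' hP'R hgI h1 h2 h3 h4 hu
      have hP''P : P'' ≤ P := by
        intro y hy
        obtain ⟨x, hx, rfl⟩ := (hgI y).1 hy
        obtain ⟨z, hz, rfl, h5⟩ := hinv x (hP'R hx)
        rw [h5]; exact hz
      have hfg : ∀ x ∈ P', f (g x) = x := by
        intro x hx
        obtain ⟨z, hz, hzx, h5⟩ := hinv x (hP'R hx)
        rw [h5]; exact hzx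
      have hfI : Im f P'' P' := hgI.symm hfg
      have hk'm := h1.mp le_rfl hEF
      have hk''m := h3.mp le_rfl hEF
      have hP''S : P'' ≤ S := hP''P.trans hf.le
      have hP''N : P'' ≤ normalizerIn S P'' := le_inf hP''S Subgroup.le_normalizer
      obtain ⟨i'', hi''m, hi''1, hi''2⟩ := hk''m.exists_symm hP''N h4
      have hA := hCf P'' P' k'' k' (fun y => k' (f (i'' y))) t'' t' hP''P hfI h3 h4 h1 h2
        fun x hx => by
          show k' (f (i'' (k'' x))) = _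
          rw [hi''1 x hx]
      have hB := hA.symm le_rfl hEF hI hQX (g := u) ?_
      · have e1 : (t' * t''⁻¹)⁻¹ = t'' * t'⁻¹ := by group
        rwa [e1] at hB
      · intro y hy
        obtain ⟨x, hx, rfl⟩ := (h2 y).1 hy
        refine ⟨k'' (g x), h4.apply (hgI.apply hx), ?_, hu x hx⟩
        show k' (f (i'' (k'' (g x)))) = k' x
        rw [hi''1 _ (hgI.apply hx), hfg x hx])
  obtain ⟨haF, f₀, hf₀, hid⟩ := ha
  have h1 : Mp D Q f₀ := hgen D (fun P f hP hf => mp_subSys_iff.2 ⟨mp_mono hEF hf, hkey P f hP hf⟩)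
    Q f₀ hf₀
  have h2 : Cl E F Q X Q f₀ := (mp_subSys_iff.1 h1).2
  obtain ⟨P'', hP'', hP''S, -⟩ := Mp.exists_im hf₀ le_rfl
  have h3 := h2 Q P'' (fun x => x) (ac a) (fun x => x) 1 a le_rfl hP''
    (Fr.one (mp_id E inf_le_left)) (Im.id Q) (Fr.of_aut haF inf_le_left) (fun y => by
      constructor
      · intro hy
        exact ⟨f₀ y, hP''.apply hy, (hid y hy).symm⟩
      · rintro ⟨z, hz, rfl⟩
        obtain ⟨x, hx, rfl⟩ := (hP'' z).1 hz
        rw [← hid x hx]; exact hx) (fun x hx => hid x hx)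
  simpa using h3

end chain

end Cfsg.Agent.H770
end

-- part: H770/Frat
section
/-!
# The Frattini property from automizers of centric subgroups (helper770)
-/

set_option autoImplicit false

namespace Cfsg.Agent.H770

open Cfsg Cfsg.FusionSystem Cfsg.Agent.H752

variable {Ω : Type*} [Group Ω] {S T : Subgroup Ω} {p : ℕ}

/-- A normal `p`-subgroup of `Aut_F(Q)` is contained in `Aut_S(Q)`, for `Q` fully automized. -/
theorem le_autInducedBy_of_normal [Fact p.Prime] {F : FusionSystem S} {Q : Subgroup Ω} [Finite Q]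
    (hQa : F.IsFullyAutomized p Q) (K : Subgroup (MulAut Q)) (hKA : K ≤ F.autGroup Q)
    (hK : ∀ a ∈ F.autGroup Q, ∀ k ∈ K, a * k * a⁻¹ ∈ K) (hKp : IsPGroup p K) :
    K ≤ autInducedBy S Q := by
  obtain ⟨-, R, hR⟩ := hQa
  have hn : (K.subgroupOf (F.autGroup Q)).Normal := ⟨fun n hn g => by
    rw [Subgroup.mem_subgroupOf] at hn ⊢
    exact hK g g.2 n hn⟩
  have hp : IsPGroup p (K.subgroupOf (F.autGroup Q)) :=
    hKp.of_injective (Subgroup.subgroupOfEquivOfLe hKA).toMonoidHom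
      (Subgroup.subgroupOfEquivOfLe hKA).injective
  have h1 := hp.le_sylow_of_normal R
  intro k hk
  have h2 : (⟨k, hKA hk⟩ : F.autGroup Q) ∈ (R : Subgroup (F.autGroup Q)) :=
    h1 (Subgroup.mem_subgroupOf.2 hk)
  rw [hR] at h2
  exact h2

/-- The elements of `p`-power order of a group of automorphisms generate a normal subgroup. -/
theorem closure_ppow_conj {A : Type*} [Group A] (B : Subgroup A) {a : A} (ha : a ∈ B) {k : A}
    (hk : k ∈ Subgroup.closure {x : A | x ∈ B ∧ ∃ n : ℕ, x ^ p ^ n = 1}) :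
    a * k * a⁻¹ ∈ Subgroup.closure {x : A | x ∈ B ∧ ∃ n : ℕ, x ^ p ^ n = 1} := by
  induction hk using Subgroup.closure_induction with
  | mem x hx =>
    obtain ⟨hx, n, hn⟩ := hx
    refine Subgroup.subset_closure ⟨mul_mem (mul_mem ha hx) (inv_mem ha), n, ?_⟩
    rw [conj_pow, hn, mul_one, mul_inv_cancel]
  | one => simp
  | mul x y _ _ hx hy =>
    have : a * (x * y) * a⁻¹ = (a * x * a⁻¹) * (a * y * a⁻¹) := by group
    rw [this]; exact mul_mem hx hy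
  | inv x _ hx =>
    have : a * x⁻¹ * a⁻¹ = (a * x * a⁻¹)⁻¹ := by group
    rw [this]; exact inv_mem hx

theorem ac_conj_apply {Q : Subgroup Ω} {α : MulAut Q} {g : Ω}
    (hg : g ∈ Subgroup.normalizer (Q : Set Ω)) {x : Ω} (hx : x ∈ Q) :
    ac (α * H759.conjAut Q g hg * α⁻¹) (ac α x) = ac α (g * x * g⁻¹) := by
  rw [ac_mul _ _ (ac_mem α hx), ac_inv_ac α hx, ac_mul _ _ hx]
  congr 1
  rw [ac_apply _ hx]
  rfl

theorem conjAut_ppow [Finite S] [Fact p.Prime] (hS : IsPGroup p S) {Q : Subgroup Ω} {g : Ω}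
    (hgS : g ∈ S) (hg : g ∈ Subgroup.normalizer (Q : Set Ω)) :
    ∃ n : ℕ, (H759.conjAut Q g hg) ^ p ^ n = 1 := by
  obtain ⟨n, hn⟩ := hS ⟨g, hgS⟩
  have hn' : g ^ p ^ n = 1 := congrArg Subtype.val hn
  refine ⟨n, ?_⟩
  have key : ∀ m : ℕ, ∀ x : Q, (((H759.conjAut Q g hg ^ m) x : Q) : Ω) = g ^ m * x * (g ^ m)⁻¹ := by
    intro m
    induction m with
    | zero => intro x; simp
    | succ m ih =>
      intro x
      rw [pow_succ', MulAut.mul_apply, H759.coe_conjAut, ih, pow_succ']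
      group
  ext x
  rw [key, hn']
  simp

theorem conjAut_mem_autGroup {F : FusionSystem S} {Q : Subgroup Ω} (hQS : Q ≤ S) {g : Ω}
    (hgS : g ∈ S) (hg : g ∈ Subgroup.normalizer (Q : Set Ω)) :
    H759.conjAut Q g hg ∈ F.autGroup Q :=
  H759.autGroup_map F (H759.conj_mem' F hQS hgS (fun _ => rfl))

section

variable [Finite S] [Fact p.Prime] {E F : FusionSystem S}

/-- **Frattini property.** -/
theorem exists_fr (hS : IsPGroup p S) (hF : F.IsSaturated p)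
    (hEF : E.IsSubsystemOf F) (hI : InvC E F) (𝒬 : Subgroup Ω → Prop)
    (hE2 : ∀ R : Subgroup Ω, F.IsFullyNormalized R → F.IsCentric R → 𝒬 R → R ≠ S →
      ∀ α ∈ F.autGroup R, (∃ n : ℕ, α ^ p ^ n = 1) → Mp E R (ac α))
    (hcr : ∀ R : Subgroup Ω, F.IsFullyNormalized R → F.IsCentric R → ¬ 𝒬 R →
      ∃ K : Subgroup (MulAut R), K ≤ F.autGroup R ∧ (∀ a ∈ F.autGroup R, ∀ k ∈ K, a * k * a⁻¹ ∈ K) ∧
        IsPGroup p K ∧ ¬ K ≤ Inn R)
    {P : Subgroup Ω} {f : Ω → Ω} (hf : Mp F P f) : ∃ a, Fr E F P f a := by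
  let D : FusionSystem S := subSys F S (fun P f => ∃ a, Fr E F P f a)
    (fun P f g _ h he => by
      obtain ⟨a, ha⟩ := h
      exact ⟨a, ha.congr he⟩)
    (fun P f hf _ => ⟨hf.le, fun x hx => hf.mem hx⟩)
    (fun P hP s hs => ⟨mp_conj F hP hs, 1, Fr.one (mp_conj E hP hs)⟩)
    (fun P Q f g _ _ h1 h2 hPQ => by
      obtain ⟨a, ha⟩ := h1
      obtain ⟨b, hb⟩ := h2
      exact ⟨_, ha.comp le_rfl hI hb hPQ⟩)
    (fun P R f g _ h _ hinv _ => by
      obtain ⟨a, ha⟩ := h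
      exact ⟨_, ha.symm le_rfl hI hinv⟩)
  have hD : ∀ P, F.Hom P ⊆ D.Hom P := by
    intro P
    refine H802.le_of_centric hS hF D (fun Q hQn hQc hbig α hα => ?_) P
    have hQS := hQn.1
    have hfQ : Finite Q := H802.finite_of_le hQS
    have hQa := H802.isFullyAutomized_of_isFullyNormalized hS hF hQn
    have hQr := H802.isReceptive_of_isFullyNormalized hS hF hQn
    have hbig' : ∀ (R : Subgroup Ω) (k : Ω → Ω), Nat.card Q < Nat.card R → Mp F R k →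
        ∃ a, Fr E F R k a := by
      intro R k hR hk
      obtain ⟨φ, hφ, h1⟩ := hk
      have h2 : Mp D R k := ⟨φ, hbig R hR hφ, h1⟩
      exact (mp_subSys_iff.1 h2).2
    apply mem_of_mp_ac
    refine mp_subSys_iff.2 ⟨mp_ac hQS hα, ?_⟩
    by_cases hQeS : Q = S
    · subst hQeS
      exact ⟨α, Fr.of_aut hα le_rfl⟩
    by_cases hQ𝒬 : 𝒬 Q
    · -- the generic case
      let K : Subgroup (MulAut Q) :=
        Subgroup.closure {x : MulAut Q | x ∈ F.autGroup Q ∧ ∃ n : ℕ, x ^ p ^ n = 1}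
      have hKA : K ≤ F.autGroup Q := by
        rw [Subgroup.closure_le]
        exact fun x hx => hx.1
      have hKE : K ≤ E.autGroup Q := by
        rw [Subgroup.closure_le]
        rintro x ⟨hx, hn⟩
        exact mem_of_mp_ac (hE2 Q hQn hQc hQ𝒬 hQeS x hx hn)
      obtain ⟨k, hk, ψ, hψ, h1⟩ := mp_ext_kernel (F := F) hS (N := normalizerIn S Q) hQa hQr hα K hKA
        (fun a ha k hk => closure_ppow_conj (F.autGroup Q) ha hk) inf_le_left inf_le_right (by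
          intro g hg
          refine ⟨α * H759.conjAut Q g hg.2 * α⁻¹, Subgroup.subset_closure
            ⟨mul_mem (mul_mem hα (conjAut_mem_autGroup hQS hg.1 hg.2)) (inv_mem hα), ?_⟩, 1,
            one_mem _, one_mem _, fun x hx => ?_⟩
          · obtain ⟨n, hn⟩ := conjAut_ppow (p := p) hS hg.1 hg.2
            exact ⟨n, by rw [conj_pow, hn, mul_one, mul_inv_cancel]⟩
          · rw [one_mul, inv_one, mul_one, ac_conj_apply hg.2 hx])
      have hcard : Nat.card Q < Nat.card (Q ⊔ normalizerIn S Q : Subgroup Ω) := by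
        have hfin : Finite (Q ⊔ normalizerIn S Q : Subgroup Ω) :=
          H802.finite_of_le (sup_le hQS inf_le_left)
        exact (H802.card_lt_card_normalizerIn hS hQS hQeS).trans_le
          (Nat.card_mono (Set.toFinite _) (le_sup_right : normalizerIn S Q ≤ _))
      obtain ⟨a, ha⟩ := hbig' _ _ hcard hψ
      have hk' : Mp E Q (ac k⁻¹) := mp_ac hQS (inv_mem (hKE hk))
      have h2 := (ha.res le_sup_left).comp le_rfl hI (Fr.one hk') fun x hx => by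
        rw [h1 x hx]
        exact ac_mem _ (ac_mem _ hx)
      refine ⟨_, h2.congr fun x hx => ?_⟩
      show ac α x = ac k⁻¹ (ψ x)
      rw [h1 x hx, ac_inv_ac k (ac_mem _ hx)]
    · -- extension along a normal `p`-subgroup
      obtain ⟨K, hKA, hK, hKp, hKI⟩ := hcr Q hQn hQc hQ𝒬
      have hKS := le_autInducedBy_of_normal hQa K hKA hK hKp
      obtain ⟨κ, hκ, hκI⟩ := SetLike.not_le_iff_exists.1 hKI
      obtain ⟨s, hs, hsκ⟩ := (H802.mem_autInducedBy_iff S Q κ).1 (hKS hκ)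
      have hsn : s ∈ Subgroup.normalizer (Q : Set Ω) := H802.mem_normalizer_of_aut hsκ
      obtain ⟨t, ht, htκ⟩ := (H802.mem_autInducedBy_iff S Q _).1 (hKS (hK α hα κ hκ))
      obtain ⟨X, k, hk, hke, hQX, -, -, hX⟩ := mp_receptive hQr (mp_ac hQS hα) (im_ac α)
      have hsX : s ∈ X := hX s hs hsn ⟨t, ht, fun x hx => by
        have h1 := htκ (α ⟨x, hx⟩)
        rw [ac_apply α hx, ← h1]
        have h2 : s * x * s⁻¹ ∈ Q := by rw [← hsκ ⟨x, hx⟩]; exact (κ _).2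
        rw [ac_apply α h2]
        have h3 : (⟨s * x * s⁻¹, h2⟩ : Q) = κ ⟨x, hx⟩ := Subtype.ext (hsκ ⟨x, hx⟩).symm
        rw [h3]
        simp⟩
      have hsQ : s ∉ Q := by
        intro hsQ
        apply hκI
        have : κ = MulAut.conj (⟨s, hsQ⟩ : Q) := by
          ext x
          rw [hsκ]
          simp
        rw [this]
        exact ⟨_, rfl⟩
      have hcard : Nat.card Q < Nat.card X := by
        have hfin : Finite X := H802.finite_of_le hk.le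
        refine lt_of_le_of_ne (Nat.card_mono (Set.toFinite _) hQX) fun h => hsQ ?_
        rw [Subgroup.eq_of_le_of_card_ge hQX h.ge]
        exact hsX
      obtain ⟨a, ha⟩ := hbig' _ _ hcard hk
      exact ⟨a, (ha.res hQX).congr fun x hx => (hke x hx).symm⟩
  obtain ⟨φ, hφ, h1⟩ := hf
  have h2 : Mp D P f := ⟨φ, hD P hφ, h1⟩
  exact (mp_subSys_iff.1 h2).2

end

end Cfsg.Agent.H770
end

-- part: H770/E3
section
/-!
# Index prime to `p`: extension of the character from `𝒬` to the centric subgroups (helper770)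
-/

set_option autoImplicit false

namespace Cfsg.Agent.H770

open Cfsg Cfsg.FusionSystem Cfsg.Agent.H752

variable {Ω : Type*} [Group Ω] {S T : Subgroup Ω} {p : ℕ}

/-- Downward induction on the order of the subgroups of `S`. -/
theorem down_ind [Finite S] (C : Subgroup Ω → Prop)
    (h : ∀ P : Subgroup Ω, P ≤ S → (∀ R : Subgroup Ω, R ≤ S → Nat.card P < Nat.card R → C R) → C P) :
    ∀ P : Subgroup Ω, P ≤ S → C P := by
  have key : ∀ n : ℕ, ∀ P : Subgroup Ω, P ≤ S → Nat.card S - Nat.card P ≤ n → C P := by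
    intro n
    induction n with
    | zero =>
      intro P hP hn
      refine h P hP fun R hR hlt => ?_
      have h1 : Nat.card R ≤ Nat.card S := Subgroup.card_le_of_le hR
      omega
    | succ n ih =>
      intro P hP hn
      refine h P hP fun R hR hlt => ih R hR ?_
      have h1 : Nat.card R ≤ Nat.card S := Subgroup.card_le_of_le hR
      omega
  exact fun P hP => key _ P hP le_rfl

theorem mp_agree_centric [Fact p.Prime] [Finite S] (hS : IsPGroup p S) {F : FusionSystem S}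
    (hF : F.IsSaturated p) {Q P : Subgroup Ω} {f g : Ω → Ω} (hQ : F.IsCentric Q) (hQP : Q ≤ P)
    (h1 : Mp F P f) (h2 : Mp F P g) (he : ∀ x ∈ Q, f x = g x) :
    ∃ z ∈ Q, z ∈ Subgroup.centralizer (Q : Set Ω) ∧ ∀ x ∈ P, z * x * z⁻¹ ∈ P ∧
      g x = f (z * x * z⁻¹) := by
  obtain ⟨φ, hφ, h3⟩ := h1
  obtain ⟨ψ, hψ, h4⟩ := h2
  obtain ⟨z, hz, hzc, h5⟩ := H802.exists_conj_of_agree_on_centric hS hF hQ hQP hφ hψ
    (fun x hx => by rw [h3, h4, he x hx])
  refine ⟨z, hz, hzc, fun x hx => ?_⟩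
  have h6 : z * x * z⁻¹ ∈ P := mul_mem (mul_mem (hQP hz) hx) (inv_mem (hQP hz))
  refine ⟨h6, ?_⟩
  rw [← h4 x hx, ← h3 _ h6]
  exact h5 ⟨x, hx⟩ h6

/-- The property (E3). -/
def E3 (E F : FusionSystem S) (P : Subgroup Ω) : Prop :=
  ∀ a, Fr E F P (fun x => x) a → a ∈ E.autGroup S

section

variable {E F : FusionSystem S}

theorem autGroup_conj (hI : InvC E F) {a b : MulAut S} (hb : b ∈ F.autGroup S)
    (ha : a ∈ E.autGroup S) : b * a * b⁻¹ ∈ E.autGroup S := by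
  apply mem_of_mp_ac
  refine hI S S (ac a) (ac b) _ (mp_ac le_rfl ha) (mp_ac le_rfl hb) fun y hy =>
    ⟨ac b⁻¹ y, ac_mem _ hy, ac_ac_inv b hy, ?_⟩
  rw [ac_mul _ _ hy, ac_mul _ _ (ac_mem _ hy)]

theorem E3.of_im (hEF : E.IsSubsystemOf F) (hI : InvC E F) {P P' : Subgroup Ω} {f : Ω → Ω}
    {b : MulAut S} (hf : Fr E F P f b) (hP' : Im f P P') (h : E3 E F P) : E3 E F P' := by
  intro a ha
  have hm := hf.mp le_rfl hEF
  obtain ⟨i, hi, h1, h2⟩ := hm.exists_symm le_rfl hP'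
  have hi' : Fr E F P' i b⁻¹ := hf.symm le_rfl hI fun y hy => ⟨i y, (h2 y hy).1, (h2 y hy).2, rfl⟩
  have h3 := (hf.comp le_rfl hI ha fun x hx => hP'.apply hx).comp le_rfl hI hi'
    fun x hx => hP'.apply hx
  have h4 := h _ (h3.congr fun x hx => (h1 x hx).symm)
  have h5 := autGroup_conj hI hf.mem h4
  have h6 : b * (b⁻¹ * (a * b)) * b⁻¹ = a := by group
  rwa [h6] at h5

/-- In the presence of (E3), the Frattini factor of an extension. -/
theorem Fr.extend (hEF : E.IsSubsystemOf F) (hI : InvC E F) {P R : Subgroup Ω} {f : Ω → Ω}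
    {a b : MulAut S} (hb : Fr E F R f b) (hPR : P ≤ R) (ha : Fr E F P f a) (h3 : E3 E F P) :
    Fr E F R f a := by
  have h1 := ha.div le_rfl hEF hI (hb.res hPR)
  have h2 := hb.mul_right le_rfl hI (h3 _ h1) hEF
  rwa [mul_inv_cancel_left] at h2

/-- The elements of `N_S(Q)` that act on `Q` as elements of `K`. -/
def NK (S Q : Subgroup Ω) (K : Subgroup (MulAut Q)) : Subgroup Ω where
  carrier := {s | s ∈ S ∧ s ∈ Subgroup.normalizer (Q : Set Ω) ∧ ∃ κ ∈ K, ∀ x ∈ Q,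
    s * x * s⁻¹ = ac κ x}
  one_mem' := ⟨one_mem _, one_mem _, 1, one_mem _, fun x hx => by rw [ac_one hx]; simp⟩
  mul_mem' := by
    rintro s t ⟨hs, hsn, κ, hκ, h1⟩ ⟨ht, htn, κ', hκ', h2⟩
    refine ⟨mul_mem hs ht, mul_mem hsn htn, κ * κ', mul_mem hκ hκ', fun x hx => ?_⟩
    rw [ac_mul _ _ hx, ← h1 _ (ac_mem _ hx), ← h2 x hx]
    group
  inv_mem' := by
    rintro s ⟨hs, hsn, κ, hκ, h1⟩
    refine ⟨inv_mem hs, inv_mem hsn, κ⁻¹, inv_mem hκ, fun x hx => ?_⟩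
    have h2 := h1 (ac κ⁻¹ x) (ac_mem _ hx)
    rw [ac_ac_inv κ hx] at h2
    generalize ac κ⁻¹ x = A at h2 ⊢
    rw [← h2]
    group

theorem NK_le {Q : Subgroup Ω} {K : Subgroup (MulAut Q)} : NK S Q K ≤ normalizerIn S Q :=
  fun _ hs => ⟨hs.1, hs.2.1⟩

/-- The image of `Q ⊔ NK` under an extension of an automorphism of `Q`. -/
theorem NK_maps {Q : Subgroup Ω} {K : Subgroup (MulAut Q)}
    (hK : ∀ a ∈ F.autGroup Q, ∀ k ∈ K, a * k * a⁻¹ ∈ K) {α : MulAut Q} (hα : α ∈ F.autGroup Q)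
    {k : Ω → Ω} (hk : Mp F (Q ⊔ NK S Q K) k) (he : ∀ x ∈ Q, k x = ac α x) :
    ∀ x ∈ Q ⊔ NK S Q K, k x ∈ Q ⊔ NK S Q K := by
  refine hk.mem_sup (fun x hx => ?_) (fun s hs => ?_)
  · rw [he x hx]
    exact (le_sup_left : Q ≤ _) (ac_mem _ hx)
  · refine (le_sup_right : NK S Q K ≤ _) ⟨hk.mem ((le_sup_right : NK S Q K ≤ _) hs), ?_, ?_⟩
    · exact Mp.mem_normalizer hk le_sup_left ((im_ac α).congr he) ((le_sup_right : NK S Q K ≤ _) hs)
        hs.2.1
    · have hs' : s ∈ Q ⊔ NK S Q K := (le_sup_right : NK S Q K ≤ _) hs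
      obtain ⟨-, hsn, κ, hκ, h1⟩ := hs
      refine ⟨α * κ * α⁻¹, hK α hα κ hκ, fun y hy => ?_⟩
      have hx : ac α⁻¹ y ∈ Q := ac_mem _ hy
      have hx' : ac α⁻¹ y ∈ Q ⊔ NK S Q K := (le_sup_left : Q ≤ _) hx
      have h2 : k (ac α⁻¹ y) = y := by rw [he _ hx, ac_ac_inv α hy]
      have h3 : s * ac α⁻¹ y * s⁻¹ ∈ Q := (Subgroup.mem_normalizer_iff.1 hsn _).1 hx
      rw [ac_mul _ _ hy, ac_mul _ _ hx, ← h1 _ hx, ← he _ h3,
        hk.mul (mul_mem hs' hx') (inv_mem hs'), hk.mul hs' hx', hk.inv hs', h2]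

variable [Finite S] [Fact p.Prime]

/-- (C1): the property (E3) holds for all centric subgroups. -/
theorem e3_of_centric (hS : IsPGroup p S) (hF : F.IsSaturated p)
    (hEF : E.IsSubsystemOf F) (hI : InvC E F)
    (hFr : ∀ (P : Subgroup Ω) (f : Ω → Ω), Mp F P f → ∃ a, Fr E F P f a)
    (𝒬 : Subgroup Ω → Prop) (h𝒬S : 𝒬 S) (h𝒬c : ∀ P Q, 𝒬 P → F.IsConj P Q → 𝒬 Q)
    (hgen : ∀ D : FusionSystem S, (∀ P f, 𝒬 P → Mp E P f → Mp D P f) → ∀ P f, Mp E P f → Mp D P f)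
    (hE3 : ∀ P, 𝒬 P → E3 E F P)
    (hcr : ∀ R : Subgroup Ω, F.IsFullyNormalized R → F.IsCentric R → ¬ 𝒬 R →
      ∃ K : Subgroup (MulAut R), K ≤ F.autGroup R ∧ (∀ a ∈ F.autGroup R, ∀ k ∈ K, a * k * a⁻¹ ∈ K) ∧
        IsPGroup p K ∧ ¬ K ≤ Inn R)
    {P : Subgroup Ω} (hP : F.IsCentric P) : E3 E F P := by
  have main : ∀ P : Subgroup Ω, P ≤ S → F.IsCentric P → E3 E F P := by
    refine down_ind _ ?_
    intro P hPS IH hPc
    by_cases hP𝒬 : 𝒬 P
    · exact hE3 P hP𝒬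
    -- pass to a fully normalized conjugate
    obtain ⟨Q, hPQ, hQn⟩ := H802.exists_isFullyNormalized hS hF hPS
    have hQc := H802.isCentric_of_isConj hPc hPQ
    have hQ𝒬 : ∀ R, F.IsConj Q R → ¬ 𝒬 R := fun R hQR hR =>
      hP𝒬 (h𝒬c R P hR (H802.isConj_symm (H802.isConj_trans hPQ hQR)))
    have hcard := H802.isConj_card_eq hPQ
    suffices hQE : E3 E F Q by
      obtain ⟨f, hf, hfI⟩ := exists_mp_of_isConj (H802.isConj_symm hPQ)
      obtain ⟨b, hb⟩ := hFr _ _ hf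
      exact hQE.of_im hEF hI hb hfI
    have hQS := hQn.1
    have hfQ : Finite Q := H802.finite_of_le hQS
    have hQa := H802.isFullyAutomized_of_isFullyNormalized hS hF hQn
    have hQr := H802.isReceptive_of_isFullyNormalized hS hF hQn
    have IH' : ∀ R : Subgroup Ω, Q ≤ R → Q ≠ R → R ≤ S → E3 E F R := by
      intro R hQR hne hRS
      have hfR : Finite R := H802.finite_of_le hRS
      refine IH R hRS ?_ (H802.isCentric_of_le hQc hQR hRS)
      rw [hcard]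
      exact lt_of_le_of_ne (Subgroup.card_le_of_le hQR) fun h =>
        hne (Subgroup.eq_of_le_of_card_ge hQR h.ge)
    obtain ⟨K, hKA, hK, hKp, hKI⟩ := hcr Q hQn hQc (hQ𝒬 Q (H802.isConj_refl F hQS))
    have hKS := le_autInducedBy_of_normal hQa K hKA hK hKp
    have hXS : Q ⊔ NK S Q K ≤ S := sup_le hQS (NK_le.trans inf_le_left)
    have hQX : Q ≠ Q ⊔ NK S Q K := by
      obtain ⟨κ, hκ, hκI⟩ := SetLike.not_le_iff_exists.1 hKI
      obtain ⟨s, hs, hsκ⟩ := (H802.mem_autInducedBy_iff S Q κ).1 (hKS hκ)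
      have hsn : s ∈ Subgroup.normalizer (Q : Set Ω) := H802.mem_normalizer_of_aut hsκ
      intro h
      apply hκI
      have hsQ : s ∈ Q := by
        rw [h]
        exact (le_sup_right : NK S Q K ≤ _) ⟨hs, hsn, κ, hκ, fun x hx => by
          rw [ac_apply κ hx]; exact (hsκ ⟨x, hx⟩).symm⟩
      have : κ = MulAut.conj (⟨s, hsQ⟩ : Q) := by
        ext x
        rw [hsκ]
        simp
      rw [this]
      exact ⟨_, rfl⟩
    -- extension of automorphisms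
    have hextend : ∀ (W : Subgroup Ω) (f : Ω → Ω) (a : MulAut S), Q ≤ W → Q ≠ W →
        W ≤ normalizerIn S Q → Fr E F W f a → (∀ x ∈ Q, f x ∈ Q) →
        Th E F Q (Q ⊔ NK S Q K) f a := by
      intro W f a hQW hne hWN hf hfQ
      have hfm := hf.mp le_rfl hEF
      obtain ⟨α, hα, hαf⟩ := exists_ac (hfm.res hQW) hfQ
      have hIm : Im f Q Q := Mp.im_of_maps (hfm.res hQW) hfQ
      obtain ⟨X', k, hk, hke, hQX', -, -, hX'⟩ := mp_receptive hQr (hfm.res hQW) hIm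
      have hWX' : W ≤ X' := fun g hg => hX' g (hWN hg).1 (hWN hg).2 ⟨f g, hfm.mem hg, fun x hx => by
        rw [← hfm.inv hg, ← hfm.mul hg (hQW hx), ← hfm.mul (mul_mem hg (hQW hx)) (inv_mem hg)]⟩
      have hNX' : NK S Q K ≤ X' := by
        rintro s ⟨hs, hsn, κ, hκ, h1⟩
        obtain ⟨t, ht, htκ⟩ := (H802.mem_autInducedBy_iff S Q _).1 (hKS (hK α hα κ hκ))
        refine hX' s hs hsn ⟨t, ht, fun x hx => ?_⟩
        rw [h1 x hx, hαf x hx, hαf _ (ac_mem _ hx)]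
        have h2 := htκ ⟨ac α x, ac_mem _ hx⟩
        rw [← ac_apply _ (ac_mem α hx), ac_mul _ _ (ac_mem _ hx), ac_inv_ac α hx,
          ac_mul _ _ hx] at h2
        exact h2
      obtain ⟨b, hb⟩ := hFr _ _ hk
      -- compare on `W`
      obtain ⟨z, hz, hzc, hzk⟩ := mp_agree_centric hS hF hQc hQW hfm (hk.res hWX')
        (fun x hx => (hke x hx).symm)
      have hkW : Fr E F W k a := by
        have h1 : Fr E F W (fun x => z * x * z⁻¹) 1 := Fr.one (mp_conj E hfm.le (hQS hz))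
        have h2 := h1.comp le_rfl hI hf fun x hx => (hzk x hx).1
        rw [mul_one] at h2
        exact h2.congr fun x hx => (hzk x hx).2
      have hkX' := Fr.extend hEF hI hb hWX' hkW (IH' W hQW hne (hWN.trans inf_le_left))
      have hkX := hkX'.res (sup_le hQX' hNX')
      exact ⟨k, hkX, NK_maps hK hα (hkX.mp le_rfl hEF) fun x hx => by rw [hke x hx, hαf x hx], hke⟩
    intro a ha
    obtain ⟨g, hg, -, hge⟩ := chain_lemma hS hF hEF hI hFr 𝒬 h𝒬S hgen hQn le_sup_left hXS hQ𝒬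
      hextend ha
    obtain ⟨z, hz, hzc, hzk⟩ := mp_agree_centric hS hF hQc (le_sup_left : Q ≤ Q ⊔ NK S Q K)
      (mp_id F hXS) (hg.mp le_rfl hEF) (fun x hx => (hge x hx).symm)
    have h1 : Fr E F (Q ⊔ NK S Q K) g 1 :=
      Fr.one ((mp_conj E hXS (hQS hz)).congr fun x hx => (hzk x hx).2)
    have h2 := hg.div le_rfl hEF hI h1
    rw [inv_one, one_mul] at h2
    exact IH' _ le_sup_left hQX hXS a h2
  exact main P hP.1 hP

end

end Cfsg.Agent.H770
end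

-- part: H770/NSys
section
/-!
# The normalizer system in terms of functions (helper770)
-/

set_option autoImplicit false

namespace Cfsg.Agent.H770

open Cfsg Cfsg.FusionSystem Cfsg.Agent.H752

variable {Ω : Type*} [Group Ω] {S T : Subgroup Ω} {p : ℕ}

section

variable {F : FusionSystem S} {Q : Subgroup Ω} {N : FusionSystem (normalizerIn S Q)}

theorem mp_normalizerSystem_iff (hN : F.IsNormalizerSystem Q N) {P : Subgroup Ω} {f : Ω → Ω} :
    Mp N P f ↔ P ≤ normalizerIn S Q ∧ (∀ x ∈ P, f x ∈ normalizerIn S Q) ∧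
      ∃ k, Mp F (P ⊔ Q) k ∧ (∀ x ∈ P, k x = f x) ∧ Im k Q Q := by
  constructor
  · rintro ⟨φ, hφ, h1⟩
    rw [hN P] at hφ
    obtain ⟨h2, h3, h4, ψ, hψ, h5, h6⟩ := hφ
    refine ⟨h3, fun x hx => by rw [← h1 x hx]; exact h4 _, ex ψ, mp_ex hψ, fun x hx => ?_, ?_⟩
    · rw [ex_apply _ ((le_sup_left : P ≤ P ⊔ Q) hx), ← h1 x hx]
      exact h5 ⟨x, hx⟩
    · intro y
      constructor
      · intro hy
        rw [← h6] at hy
        obtain ⟨x, hx, hxy⟩ := hy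
        exact ⟨x, hx, by rw [ex_coe]; exact hxy⟩
      · rintro ⟨x, hx, rfl⟩
        have hx' : x ∈ P ⊔ Q := (le_sup_right : Q ≤ P ⊔ Q) hx
        rw [ex_apply _ hx']
        exact h6.le ⟨⟨x, hx'⟩, hx, rfl⟩
  · rintro ⟨h3, h4, k, ⟨ψ, hψ, hk⟩, h5, h6⟩
    refine ⟨ψ.comp (Subgroup.inclusion le_sup_left), ?_, fun x hx => ?_⟩
    · rw [hN P]
      refine ⟨H802.restrict_mem hψ _, h3, fun x => ?_, ψ, hψ, fun x => rfl, ?_⟩
      · have h7 : (ψ.comp (Subgroup.inclusion (le_sup_left : P ≤ P ⊔ Q))) x = f x := by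
          rw [← h5 x x.2, ← hk x ((le_sup_left : P ≤ P ⊔ Q) x.2)]
          rfl
        rw [h7]
        exact h4 x x.2
      · ext y
        rw [h6 y]
        constructor
        · rintro ⟨x, hx, rfl⟩
          exact ⟨x, hx, (hk x x.2).symm⟩
        · rintro ⟨x, hx, rfl⟩
          have hx' : x ∈ P ⊔ Q := (le_sup_right : Q ≤ P ⊔ Q) hx
          exact ⟨⟨x, hx'⟩, hx, hk x hx'⟩
    · rw [← h5 x hx, ← hk x ((le_sup_left : P ≤ P ⊔ Q) hx)]
      rfl

theorem mp_normalizerSystem_iff' [Finite S] (hN : F.IsNormalizerSystem Q N) (hQS : Q ≤ S)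
    {P : Subgroup Ω} {f : Ω → Ω} (hQP : Q ≤ P) :
    Mp N P f ↔ Mp F P f ∧ P ≤ normalizerIn S Q ∧ ∀ x ∈ Q, f x ∈ Q := by
  rw [mp_normalizerSystem_iff hN]
  have hfQ : Finite Q := H802.finite_of_le hQS
  constructor
  · rintro ⟨h1, h2, k, hk, h3, h4⟩
    refine ⟨(hk.res le_sup_left).congr fun x hx => (h3 x hx).symm, h1, fun x hx => ?_⟩
    rw [← h3 x (hQP hx)]
    exact h4.apply hx
  · rintro ⟨h1, h2, h3⟩
    have hI : Im f Q Q := Mp.im_of_maps (h1.res hQP) h3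
    refine ⟨h2, fun x hx => ⟨h1.mem hx, Mp.mem_normalizer h1 hQP hI hx (h2 hx).2⟩, f, ?_,
      fun _ _ => rfl, hI⟩
    rw [sup_eq_left.2 hQP]
    exact h1

theorem normalizerSystem_isSubsystemOf (hN : F.IsNormalizerSystem Q N) : N.IsSubsystemOf F := by
  intro P φ hφ
  rw [hN P] at hφ
  exact hφ.1

end

section

variable [Finite S] [Fact p.Prime] {F : FusionSystem S}

omit [Fact p.Prime] in
/-- `W C_S(W)` is centric for `W` fully centralized. -/
theorem isCentric_sup_centralizer {W : Subgroup Ω} (hW : F.IsFullyCentralized W) :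
    F.IsCentric (W ⊔ centralizerIn S W) := by
  refine ⟨sup_le hW.1 inf_le_left, fun R hR => ?_⟩
  obtain ⟨f, hf, hfI⟩ := exists_mp_of_isConj hR
  obtain ⟨W', hW', hW'S, -⟩ := Mp.exists_im hf (le_sup_left : W ≤ W ⊔ centralizerIn S W)
  have hWW' : F.IsConj W W' := Mp.isConj (hf.res le_sup_left) hW'
  have hcard := hW.2 W' hWW'
  obtain ⟨C', hC', hC'S, hC'c⟩ := Mp.exists_im hf (le_sup_right : centralizerIn S W ≤ _)
  have hC'le : C' ≤ centralizerIn S W' := by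
    intro y hy
    obtain ⟨x, hx, rfl⟩ := (hC' y).1 hy
    have hx' : x ∈ W ⊔ centralizerIn S W := (le_sup_right : centralizerIn S W ≤ _) hx
    exact ⟨hf.mem hx', Mp.mem_centralizer hf le_sup_left hW' hx' hx.2⟩
  have hfin : Finite (centralizerIn S W') := H802.finite_of_le inf_le_left
  have hC'e : C' = centralizerIn S W' :=
    Subgroup.eq_of_le_of_card_ge hC'le (by rw [hC'c]; exact hcard)
  have hW'R : W' ≤ R := by
    intro y hy
    obtain ⟨x, hx, rfl⟩ := (hW' y).1 hy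
    exact hfI.apply ((le_sup_left : W ≤ _) hx)
  have hC'R : C' ≤ R := by
    intro y hy
    obtain ⟨x, hx, rfl⟩ := (hC' y).1 hy
    exact hfI.apply ((le_sup_right : centralizerIn S W ≤ _) hx)
  calc centralizerIn S R ≤ centralizerIn S W' :=
        inf_le_inf_left S (Subgroup.centralizer_le hW'R)
    _ = C' := hC'e.symm
    _ ≤ R := hC'R

/-- A subgroup containing the fully normalized `Q` that is centric in `N_F(Q)` is centric in `F`. -/
theorem isCentric_of_normalizerSystem (hS : IsPGroup p S) (hF : F.IsSaturated p) {Q : Subgroup Ω}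
    (hQ : F.IsFullyNormalized Q) {N : FusionSystem (normalizerIn S Q)}
    (hN : F.IsNormalizerSystem Q N) {V : Subgroup Ω} (hQV : Q ≤ V) (hV : N.IsCentric V) :
    F.IsCentric V := by
  have hVS : V ≤ S := hV.1.trans inf_le_left
  refine ⟨hVS, fun V' hVV' => ?_⟩
  obtain ⟨f, hf, hfI⟩ := exists_mp_of_isConj hVV'
  have hV'S := Mp.im_le hf hfI
  obtain ⟨Q', hQ', hQ'S, -⟩ := Mp.exists_im hf hQV
  obtain ⟨i, hi, hi1, hi2⟩ := (hf.res hQV).exists_symm le_rfl hQ'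
  have hiI : Im i Q' Q := fun y => by
    constructor
    · intro hy
      exact ⟨f y, hQ'.apply hy, hi1 y hy⟩
    · rintro ⟨z, hz, rfl⟩
      exact (hi2 z hz).1
  obtain ⟨k, hk, hkI⟩ := mp_normalizer hS hF hQ hi hiI
  have hV'N : V' ≤ normalizerIn S Q' := by
    intro y hy
    obtain ⟨x, hx, rfl⟩ := (hfI y).1 hy
    exact ⟨hV'S hy, Mp.mem_normalizer hf hQV hQ' hx (hV.1 hx).2⟩
  have hQ'V' : Q' ≤ V' := by
    intro y hy
    obtain ⟨x, hx, rfl⟩ := (hQ' y).1 hy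
    exact hfI.apply (hQV hx)
  have hCN : centralizerIn S V' ≤ normalizerIn S Q' := by
    refine le_inf inf_le_left (inf_le_right.trans ?_)
    exact (Subgroup.centralizer_le hQ'V').trans (Subgroup.centralizer_le_normalizer _)
  obtain ⟨V'', hV'', hV''S, -⟩ := Mp.exists_im hk hV'N
  have hg : Mp N V (fun x => k (f x)) := by
    rw [mp_normalizerSystem_iff' hN hQ.1 hQV]
    exact ⟨hf.comp hk fun x hx => hV'N (hfI.apply hx), hV.1, fun x hx => hkI.apply (hQ'.apply hx)⟩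
  have hconj : N.IsConj V V'' := Mp.isConj hg (hfI.comp hV'')
  have hc := hV.2 V'' hconj
  intro c hcc
  have h1 : k c ∈ centralizerIn (normalizerIn S Q) V'' := by
    refine ⟨⟨hk.mem (hCN hcc), Mp.mem_normalizer hk (hQ'V'.trans hV'N) hkI (hCN hcc)
      (hCN hcc).2⟩, ?_⟩
    exact Mp.mem_centralizer hk hV'N hV'' (hCN hcc) hcc.2
  obtain ⟨v, hv, hvc⟩ := (hV'' _).1 (hc h1)
  rw [← hk.inj (hV'N hv) (hCN hcc) hvc]
  exact hv

end

end Cfsg.Agent.H770
end
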